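import Groth.Agent.KoszOrthLib.GammaHom
import Groth.Agent.Dual3Lib.ExtHH
import Groth.Agent.DerLib.Devissage
import Groth.Agent.SerreVanLib.Main
import Groth.Agent.AVIndexLib.Index
import Groth.Prelude.Def_DCoh2

/-!
# Hypercohomology of bounded objects from the cohomology of their cohomology sheaves
-/

set_option autoImplicit false
set_option linter.style.haveILetI false
set_option backward.isDefEq.respectTransparency false
set_option backward.isDefEq.respectTransparency.types false
set_option maxHeartbeats 1000000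

universe u

open CategoryTheory CategoryTheory.Limits AlgebraicGeometry CategoryTheory.Pretriangulated
open DerivedCategory.TStructure (t)

attribute [local instance] HasDerivedCategory.standard

namespace Groth.Agent.FMKLib

variable {X : Scheme.{u}}

/-- The structure sheaf in degree zero. -/
noncomputable abbrev oD (X : Scheme.{u}) : DCoh.D X := DCoh.inD X (Coh.structureModule X)

/-- No map from the structure sheaf into `K⟦i⟧`. -/
def NoHom (K : DCoh.D X) (i : ℤ) : Prop := ∀ φ : oD X ⟶ K⟦i⟧, φ = 0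

theorem NoHom.of_iso {K L : DCoh.D X} {i : ℤ} (h : NoHom K i) (e : K ≅ L) : NoHom L i := fun φ => by
  rw [← cancel_mono ((shiftFunctor (DCoh.D X) i).map e.inv), zero_comp]
  exact h _

theorem noHom_iff_of_iso {K L : DCoh.D X} {i : ℤ} (e : K ≅ L) : NoHom K i ↔ NoHom L i :=
  ⟨fun h => h.of_iso e, fun h => h.of_iso e.symm⟩

/-- A cycle in `Γ` whose class maps to zero in `D` is a boundary. -/
theorem exactAt_gamma_of_noHom (J : CochainComplex X.Modules ℤ) [J.IsKInjective]
    (h : ∀ f : (CochainComplex.singleFunctor X.Modules 0).obj (Coh.structureModule X) ⟶ J,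
      DerivedCategory.Q.map f = 0) :
    (((DCoh.gammaAb X).mapHomologicalComplex (ComplexShape.up ℤ)).obj J).ExactAt 0 := by
  rw [HomologicalComplex.exactAt_iff' _ (-1) 0 1 (by simp) (by simp), ShortComplex.ab_exact_iff]
  intro z hz
  change Γ(J.X 0, ⊤) at z
  change (J.d 0 1).app ⊤ z = 0 at hz
  let φ : Coh.structureModule X ⟶ J.X 0 := QCohLib.unitHom (J.X 0) z
  have hφ : φ ≫ J.d 0 1 = 0 := by
    rw [QCohLib.app_unitHom_app, hz]
    refine Scheme.Modules.hom_ext _ _ fun V => ?_
    refine ConcreteCategory.hom_ext _ _ fun r => ?_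
    rw [QCohLib.unitHom_app]
    simp
  let f := HomologicalComplex.mkHomFromSingle (j := (0 : ℤ)) φ (fun j hj => by
    obtain rfl : (0 : ℤ) + 1 = j := hj
    simpa using hφ)
  obtain ⟨H⟩ : Nonempty (Homotopy f 0) := ⟨HomotopyCategory.homotopyOfEq _ _
    ((DerLib.KInjUse.quotient_eq_zero_of_Q (h f)).trans (Functor.map_zero _ _ _).symm)⟩
  have hf0 := H.comm 0
  rw [dNext_eq H.hom (show (ComplexShape.up ℤ).Rel 0 1 by simp),
    prevD_eq H.hom (show (ComplexShape.up ℤ).Rel (-1) 0 by simp)] at hf0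
  simp only [HomologicalComplex.single_obj_d, zero_comp, HomologicalComplex.zero_f, add_zero,
    zero_add] at hf0
  let γ : Coh.structureModule X ⟶ J.X (-1) :=
    (HomologicalComplex.singleObjXSelf (ComplexShape.up ℤ) 0 (Coh.structureModule X)).inv ≫ H.hom 0 (-1)
  have hγ : γ ≫ J.d (-1) 0 = φ := by
    simp only [γ, Category.assoc, ← hf0]
    simp [f, HomologicalComplex.mkHomFromSingle, HomologicalComplex.singleObjXSelf]
  refine ⟨γ.app ⊤ (1 : Γ(X, ⊤)), ?_⟩
  change (J.d (-1) 0).app ⊤ (γ.app ⊤ (1 : Γ(X, ⊤))) = z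
  have := congrArg (fun t : Coh.structureModule X ⟶ J.X 0 => t.app ⊤ (1 : Γ(X, ⊤))) hγ
  refine this.trans ?_
  show (QCohLib.unitHom (J.X 0) z).app ⊤ (1 : Γ(X, ⊤)) = z
  rw [QCohLib.unitHom_app]
  simp

/-- `H^i(X, K) = 0` exactly when there is no map `O ⟶ K⟦i⟧`. -/
theorem isZero_RΓ_iff [DCoh.HasRΓ X] (K : DCoh.D X) (p : ℤ) :
    IsZero ((DerivedCategory.homologyFunctor AddCommGrpCat.{u} p).obj ((DCoh.RΓ X).obj K)) ↔
      NoHom K p := by
  refine ⟨fun h φ => KoszOrthLib.hom_unit_shift_eq_zero K p h φ, fun h => ?_⟩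
  obtain ⟨I, hI, ⟨e⟩⟩ := DerLib.KInjDerived.essSurj_kInjective KFlatLib.enoughKInj_modules K
  let G := (DCoh.gammaAb X).mapHomologicalComplex (ComplexShape.up ℤ)
  haveI := DerLib.KInjDerived.isIso_app (DCoh.RΓ X) (DCohRestrLib.gammaUnit X) KFlatLib.enoughKInj_modules I
  let eΓ : DerivedCategory.Q.obj (G.obj I) ≅ (DCoh.RΓ X).obj K :=
    ((DerivedCategory.quotientCompQhIso AddCommGrpCat.{u}).app (G.obj I)).symm ≪≫
      DerivedCategory.Qh.mapIso (((DCoh.gammaAb X).mapHomotopyCategoryFactors (ComplexShape.up ℤ)).app I).symm ≪≫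
      asIso ((DCohRestrLib.gammaUnit X).app ((HomotopyCategory.quotient X.Modules (ComplexShape.up ℤ)).obj I)) ≪≫
        (DCoh.RΓ X).mapIso e
  let eK : DerivedCategory.Q.obj (I⟦p⟧) ≅ K⟦p⟧ :=
    (DerivedCategory.Q.commShiftIso p).app I ≪≫ (shiftFunctor _ p).mapIso e
  let eO := (DerivedCategory.singleFunctorIsoCompQ X.Modules 0).app (Coh.structureModule X)
  have hzero : IsZero ((G.obj (I⟦p⟧)).homology 0) :=
    (HomologicalComplex.exactAt_iff_isZero_homology _ _).1 (exactAt_gamma_of_noHom (I⟦p⟧) fun f => by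
      rw [← cancel_epi eO.hom, ← cancel_mono eK.hom, comp_zero, zero_comp, Category.assoc]
      exact h _)
  exact hzero.of_iso (HomologicalComplex.homologyMapIso ((G.commShiftIso p).app I) 0 ≪≫
    ((HomologicalComplex.homologyFunctor AddCommGrpCat.{u} (ComplexShape.up ℤ) 0).shiftIso p 0 p (by omega)).app
      (G.obj I) ≪≫
    ((DerivedCategory.homologyFunctorFactors AddCommGrpCat.{u} p).app (G.obj I)).symm ≪≫
      (DerivedCategory.homologyFunctor AddCommGrpCat.{u} p).mapIso eΓ).symm

/-- A module in degree `q`. -/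
theorem noHom_single (M : X.Modules) (q i : ℤ)
    (h : q ≤ i → Subsingleton (Coh.HH X M (i - q).toNat)) :
    NoHom ((DerivedCategory.singleFunctor X.Modules q).obj M) i := by
  intro φ
  let e := ((DerivedCategory.singleFunctors X.Modules).shiftIso i (q - i) q (by omega)).app M
  by_cases hq : q ≤ i
  · haveI := h hq
    haveI := (Dual3Lib.extHHEquiv M (i - q).toNat).toEquiv.subsingleton
    haveI : Subsingleton (oD X ⟶ ((DerivedCategory.singleFunctor X.Modules 0).obj M)⟦((i - q).toNat : ℤ)⟧) :=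
      (Abelian.Ext.homEquiv (C := X.Modules) (X := Coh.structureModule X) (Y := M)
        (n := (i - q).toNat)).symm.subsingleton
    let e' : ((DerivedCategory.singleFunctor X.Modules q).obj M)⟦i⟧ ≅
        ((DerivedCategory.singleFunctor X.Modules 0).obj M)⟦((i - q).toNat : ℤ)⟧ :=
      e ≪≫ (((DerivedCategory.singleFunctors X.Modules).shiftIso ((i - q).toNat : ℤ) (q - i) 0
        (by omega)).app M).symm
    rw [← cancel_mono e'.hom, zero_comp]
    exact Subsingleton.elim _ _
  · rw [← cancel_mono e.hom, zero_comp]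
    exact t.zero_of_isLE_of_isGE _ 0 (q - i) (by omega) inferInstance inferInstance

/-- `NoHom` is closed under extensions. -/
theorem noHom_obj₂ (T : Triangle (DCoh.D X)) (hT : T ∈ distTriang _) {i : ℤ}
    (h₁ : NoHom T.obj₁ i) (h₃ : NoHom T.obj₃ i) : NoHom T.obj₂ i := fun φ => by
  obtain ⟨ψ, hψ⟩ := Triangle.coyoneda_exact₂ _ (Triangle.shift_distinguished T hT i) φ (h₃ _)
  rw [hψ, h₁ ψ]
  exact zero_comp

theorem noHom_of_HD_aux (i : ℤ) (n : ℕ) : ∀ (K : DCoh.D X) (a b : ℤ), b + 1 ≤ a + n → K.IsGE a →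
    K.IsLE b → (∀ q : ℤ, q ≤ i → Subsingleton (Coh.HH X (DCoh.HD K q) (i - q).toNat)) → NoHom K i := by
  induction n with
  | zero =>
    intro K a b hab ha hb _ φ
    exact ((shiftFunctor (DCoh.D X) i).map_isZero (t.isZero K b a (by omega))).eq_of_tgt _ _
  | succ n ih =>
    intro K a b hab ha hb h
    refine noHom_obj₂ _ (t.triangleLEGT_distinguished (b - 1) K) ?_ ?_
    · refine ih ((t.truncLE (b - 1)).obj K) a (b - 1) (by omega) inferInstance inferInstance fun q hq => ?_
      by_cases hqb : q ≤ b - 1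
      · have := DerLib.Devissage.isIso_homology_truncLEι K (b - 1) q hqb
        haveI := h q hq
        exact SerreVanLib.subsingleton_HH_of_iso
          (asIso ((DerivedCategory.homologyFunctor X.Modules q).map ((t.truncLEι (b - 1)).app K))) _ this
      · exact AVIndexLib.subsingleton_HH_isZero (DerivedCategory.isZero_of_isLE ((t.truncLE (b - 1)).obj K)
          (b - 1) q (by omega)) _
    · haveI hG : ((t.truncGT (b - 1)).obj K).IsGE b :=
        inferInstanceAs (t.IsGE ((t.truncGT (b - 1)).obj K) b)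
      haveI hL : ((t.truncGT (b - 1)).obj K).IsLE b :=
        inferInstanceAs (t.IsLE ((t.truncGT (b - 1)).obj K) b)
      obtain ⟨e⟩ := DerLib.Devissage.nonempty_iso_single ((t.truncGT (b - 1)).obj K) b
      refine (noHom_single _ b i fun hbi => ?_).of_iso e.symm
      have := DerLib.Devissage.isIso_homology_truncGTπ K (b - 1) b (by omega)
      exact SerreVanLib.subsingleton_HH_of_iso
        (asIso ((DerivedCategory.homologyFunctor X.Modules b).map ((t.truncGTπ (b - 1)).app K))).symm _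
          (h b hbi)

/-- `H^i(X, K) = 0` when all `H^{i-q}(X, H^q(K))` vanish. -/
theorem noHom_of_HD (K : DCoh.D X) (a b i : ℤ) [K.IsGE a] [K.IsLE b]
    (h : ∀ q : ℤ, q ≤ i → Subsingleton (Coh.HH X (DCoh.HD K q) (i - q).toNat)) : NoHom K i :=
  noHom_of_HD_aux i (b + 1 - a).toNat K a b (by omega) inferInstance inferInstance h

end Groth.Agent.FMKLib

namespace Groth.Agent.FMKLib

variable {X : Scheme.{u}}

theorem noHom_shift_iff (K : DCoh.D X) (j i : ℤ) : NoHom (K⟦j⟧) i ↔ NoHom K (j + i) := by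
  let e := ((shiftFunctorAdd' (DCoh.D X) j i (j + i) rfl).app K).symm
  refine ⟨fun h φ => ?_, fun h φ => ?_⟩
  · rw [← cancel_mono e.inv, zero_comp]
    exact h _
  · rw [← cancel_mono e.hom, zero_comp]
    exact h _

theorem noHom_obj₃ (T : Triangle (DCoh.D X)) (hT : T ∈ distTriang _) {i : ℤ}
    (h₂ : NoHom T.obj₂ i) (h₁ : NoHom T.obj₁ (i + 1)) : NoHom T.obj₃ i :=
  noHom_obj₂ T.rotate (rot_of_distTriang _ hT) h₂
    ((noHom_shift_iff T.obj₁ 1 i).2 (by rwa [add_comm]))

theorem noHom_obj₁ (T : Triangle (DCoh.D X)) (hT : T ∈ distTriang _) {i : ℤ}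
    (h₂ : NoHom T.obj₂ i) (h₃ : NoHom T.obj₃ (i - 1)) : NoHom T.obj₁ i :=
  noHom_obj₂ T.invRotate (inv_rot_of_distTriang _ hT)
    ((noHom_shift_iff T.obj₃ (-1) i).2 (by rwa [show (-1 : ℤ) + i = i - 1 by omega])) h₂

theorem noHom_of_isGE (K : DCoh.D X) (i n : ℤ) [K.IsGE n] (h : i < n) : NoHom K i := fun _ => by
  haveI : t.IsGE (K⟦i⟧) (n - i) := t.isGE_shift K n i (n - i)
  exact t.zero_of_isLE_of_isGE _ 0 (n - i) (by omega) inferInstance inferInstance

theorem noHom_single_iff (M : X.Modules) (i : ℤ) :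
    NoHom ((DerivedCategory.singleFunctor X.Modules i).obj M) i ↔
      ∀ f : Coh.structureModule X ⟶ M, f = 0 := by
  let e := ((DerivedCategory.singleFunctors X.Modules).shiftIso i 0 i (by omega)).app M
  refine ⟨fun h f => ?_, fun h φ => ?_⟩
  · apply (DerivedCategory.singleFunctor X.Modules 0).map_injective
    rw [← cancel_mono e.inv, Functor.map_zero, zero_comp]
    exact h _
  · obtain ⟨g, hg⟩ := (DerivedCategory.singleFunctor X.Modules 0).map_surjective (φ ≫ e.hom)
    rw [← cancel_mono e.hom, zero_comp]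
    exact hg.symm.trans ((congrArg _ (h g)).trans (Functor.map_zero _ _ _))

/-- `H^i(X, K) = Γ(X, H^i K)` on the level of vanishing, when the higher cohomologies vanish. -/
theorem noHom_iff_hom (K : DCoh.D X) (a b i : ℤ) [K.IsGE a] [K.IsLE b]
    (h : ∀ (q : ℤ) (p : ℕ), 0 < p → Subsingleton (Coh.HH X (DCoh.HD K q) p)) :
    NoHom K i ↔ ∀ f : Coh.structureModule X ⟶ DCoh.HD K i, f = 0 := by
  let K' := (t.truncLE (i - 1)).obj K
  have hK' : ∀ j : ℤ, i ≤ j → NoHom K' j := fun j hj => noHom_of_HD K' a b j fun q _ => by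
    by_cases hqi : q ≤ i - 1
    · have := DerLib.Devissage.isIso_homology_truncLEι K (i - 1) q hqi
      exact SerreVanLib.subsingleton_HH_of_iso
        (asIso ((DerivedCategory.homologyFunctor X.Modules q).map ((t.truncLEι (i - 1)).app K))) _
          (h q _ (by omega))
    · exact AVIndexLib.subsingleton_HH_isZero (DerivedCategory.isZero_of_isLE K' (i - 1) q (by omega)) _
  let L := (t.truncGT (i - 1)).obj K
  haveI : L.IsGE i := inferInstanceAs (t.IsGE ((t.truncGT (i - 1)).obj K) i)
  haveI hb : L.IsLE b := inferInstanceAs (t.IsLE ((t.truncGT (i - 1)).obj K) b)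
  let N := (t.truncLE i).obj L
  haveI hN : N.IsGE i := inferInstanceAs (t.IsGE ((t.truncLE i).obj L) i)
  let M := (t.truncGT i).obj L
  haveI : M.IsGE (i + 1) := inferInstanceAs (t.IsGE ((t.truncGT i).obj L) (i + 1))
  obtain ⟨e⟩ := DerLib.Devissage.nonempty_iso_single N i
  have e₁ := DerLib.Devissage.isIso_homology_truncGTπ K (i - 1) i (by omega)
  have e₂ := DerLib.Devissage.isIso_homology_truncLEι L i i le_rfl
  let eM : DCoh.HD N i ≅ DCoh.HD K i :=
    asIso ((DerivedCategory.homologyFunctor X.Modules i).map ((t.truncLEι i).app L)) ≪≫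
      (asIso ((DerivedCategory.homologyFunctor X.Modules i).map ((t.truncGTπ (i - 1)).app K))).symm
  calc NoHom K i ↔ NoHom L i :=
        ⟨fun hK => noHom_obj₃ _ (t.triangleLEGT_distinguished (i - 1) K) hK (hK' _ (by omega)),
          fun hL => noHom_obj₂ _ (t.triangleLEGT_distinguished (i - 1) K) (hK' _ le_rfl) hL⟩
    _ ↔ NoHom N i :=
        ⟨fun hL => noHom_obj₁ _ (t.triangleLEGT_distinguished i L) hL
          (noHom_of_isGE M (i - 1) (i + 1) (by omega)),
          fun hN' => noHom_obj₂ _ (t.triangleLEGT_distinguished i L) hN'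
            (noHom_of_isGE M i (i + 1) (by omega))⟩
    _ ↔ NoHom ((DerivedCategory.singleFunctor X.Modules i).obj (DCoh.HD K i)) i :=
        noHom_iff_of_iso (e ≪≫ (DerivedCategory.singleFunctor X.Modules i).mapIso eM)
    _ ↔ _ := noHom_single_iff _ i

end Groth.Agent.FMKLib
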