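import Groth.Agent.Dual3Lib.AmplitudeField
import Groth.Agent.FMKLib.Hyper
import Groth.Agent.DCohRestrLib.Support

/-!
# The dualizing complex of an equidimensional Cohen–Macaulay proper scheme over a field is a module
-/

set_option autoImplicit false
set_option linter.style.haveILetI false
set_option backward.isDefEq.respectTransparency false
set_option backward.isDefEq.respectTransparency.types false
set_option maxHeartbeats 1000000

universe u

open CategoryTheory CategoryTheory.Limits AlgebraicGeometry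

attribute [local instance] HasDerivedCategory.standard

namespace Groth.Agent.FMKLib

variable {k : Type u} [Field k] {Y : Scheme.{u}} (b : Y ⟶ Spec (CommRingCat.of k)) [IsProper b]
  [DCoh.HasRpush b] (hb : DCoh.RpushPreservesQCoh b)
  (bdx : DCoh.DQCoh (Spec (CommRingCat.of k)) ⥤ DCoh.DQCoh Y) (adj : DCoh.RpushQ b hb ⊣ bdx)
  (O : DCoh.DQCoh (Spec (CommRingCat.of k)))
  (eO : O.obj ≅ DCoh.inD (Spec (CommRingCat.of k)) (Coh.structureModule (Spec (CommRingCat.of k))))

include adj eO in
theorem nonempty_rightAdjoint_iso_single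
    (hcm : ∀ y : ↥Y, LocCoh.IsCohenMacaulayLocalRing ↑(Y.presheaf.stalk y))
    (g : ℕ) (hg : topologicalKrullDim ↥Y = (g : WithBot ℕ∞))
    (heq : ∀ Z ∈ irreducibleComponents ↥Y, topologicalKrullDim ↥Z = (g : WithBot ℕ∞)) :
    Coh.IsCoh (DCoh.HD (bdx.obj O).obj (-(g : ℤ))) ∧
    Nonempty ((bdx.obj O).obj ≅ (DerivedCategory.singleFunctor Y.Modules (-(g : ℤ))).obj
      (DCoh.HD (bdx.obj O).obj (-(g : ℤ)))) := by
  haveI : IsLocallyNoetherian Y := LocallyOfFiniteType.isLocallyNoetherian b
  haveI : ∀ (U V : Scheme.{u}) (j : U ⟶ V) [IsOpenImmersion j],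
      PreservesFiniteLimits (Scheme.Modules.restrictFunctor j) := fun U V j _ => inferInstance
  haveI : CompactSpace Y := QuasiCompact.compactSpace_of_compactSpace b
  haveI : IsNoetherian Y := ⟨⟩
  let K := (bdx.obj O).obj
  obtain ⟨hdual, hamp, hdim⟩ := Dual3Lib.amplitude b hb bdx adj O eO g hg.le
  have huniq : ∀ x : Y, ∃! i : ℤ, Nontrivial ((DCoh.HD K i).presheaf.stalk x) := fun x => by
    obtain ⟨A, _, _, j, _, p, rfl⟩ := DualCxLib.chart_of_point x
    obtain ⟨w, hw, ⟨e⟩⟩ := hdual A j
    exact (DualCxLib.cm_stalk_iff_chart j hw e p).1 (hcm _)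
  have hsupp : ∀ x : Y, Nontrivial ((DCoh.HD K (-(g : ℤ))).presheaf.stalk x) := fun x => by
    have hcl : IsClosed {y : Y | Nontrivial ((DCoh.HD K (-(g : ℤ))).presheaf.stalk y)} := by
      rw [show {y : Y | Nontrivial ((DCoh.HD K (-(g : ℤ))).presheaf.stalk y)} =
        CohB1.support (DCoh.HD K (-(g : ℤ))) from Set.ext fun y => not_subsingleton_iff_nontrivial.symm]
      exact QCohLib.isClosed_support _ (Dual3Lib.isCohD_of_isDualizingSch hdual _).2
    let Z := irreducibleComponent x
    have hZ : Z ∈ irreducibleComponents ↥Y := irreducibleComponent_mem_irreducibleComponents x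
    have hZc : IsClosed Z := isClosed_of_mem_irreducibleComponents _ hZ
    obtain ⟨η, hη⟩ := QuasiSober.sober hZ.1 hZc
    obtain ⟨i₀, hi₀, -⟩ := huniq η
    have h0 : -(g : ℤ) ≤ i₀ ∧ i₀ ≤ 0 := by
      by_contra hne
      refine not_subsingleton_iff_nontrivial.2 hi₀
        ((DCohRestrLib.isZero_iff_subsingleton_stalks _).1 (hamp i₀ ?_) η)
      omega
    have hle : (g : WithBot ℕ∞) ≤ ((-i₀).toNat : WithBot ℕ∞) := by
      rw [← heq Z hZ]
      refine le_trans ?_ (hdim i₀ (-i₀).toNat (by omega))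
      have hsub : Z ⊆ {y : Y | Nontrivial ((DCoh.HD K i₀).presheaf.stalk y)} := by
        rw [← hη.def]
        refine closure_minimal (Set.singleton_subset_iff.2 hi₀) ?_
        rw [show {y : Y | Nontrivial ((DCoh.HD K i₀).presheaf.stalk y)} =
          CohB1.support (DCoh.HD K i₀) from Set.ext fun y => not_subsingleton_iff_nontrivial.symm]
        exact QCohLib.isClosed_support _ (Dual3Lib.isCohD_of_isDualizingSch hdual _).2
      exact (Topology.IsEmbedding.inclusion hsub).isInducing.topologicalKrullDim_le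
    have h1 : g ≤ (-i₀).toNat := by exact_mod_cast hle
    obtain rfl : i₀ = -(g : ℤ) := by omega
    exact closure_minimal (t := {y : Y | Nontrivial ((DCoh.HD K (-(g : ℤ))).presheaf.stalk y)})
      (Set.singleton_subset_iff.2 hi₀) hcl (hη.def.symm ▸ mem_irreducibleComponent (x := x))
  have hzero : ∀ i : ℤ, i ≠ -(g : ℤ) → IsZero (DCoh.HD K i) := fun i hi => by
    rw [DCohRestrLib.isZero_iff_subsingleton_stalks]
    intro x
    by_contra hs
    exact hi ((huniq x).unique (not_subsingleton_iff_nontrivial.1 hs) (hsupp x))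
  haveI : K.IsGE (-(g : ℤ)) := (DerivedCategory.isGE_iff K _).2 fun i hi => hzero i (by omega)
  haveI : K.IsLE (-(g : ℤ)) := (DerivedCategory.isLE_iff K _).2 fun i hi => hzero i (by omega)
  exact ⟨Dual3Lib.isCohD_of_isDualizingSch hdual _, DerLib.Devissage.nonempty_iso_single K (-(g : ℤ))⟩

end Groth.Agent.FMKLib
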