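import Groth.Agent.FMKLib.DualCM
import Groth.Agent.CommAlgDim.Depth
import Groth.Agent.SegreLC.Crit
import Groth.Agent.KFlatLib.TildeKFlat
import Groth.Agent.RelFlatLib.SpreadIso
import Groth.Agent.FlatCxLib.Extend
import Groth.Agent.DualCxLib.Chart
import Groth.Agent.DepthLib.RegAB

/-!
# Cohen-Macaulay modules at the stalks of a chart
-/

set_option autoImplicit false
set_option linter.style.haveILetI false
set_option backward.isDefEq.respectTransparency false
set_option backward.isDefEq.respectTransparency.types false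
set_option maxHeartbeats 1000000
set_option synthInstance.maxHeartbeats 200000

universe u

open CategoryTheory CategoryTheory.Limits AlgebraicGeometry TensorProduct

attribute [local instance] HasDerivedCategory.standard

noncomputable section

namespace Groth.Agent.FMKLib

section Semilinear

variable {R S : Type u} [CommRing R] [CommRing S] [IsNoetherianRing R] [IsNoetherianRing S]
  [IsLocalRing R] [IsLocalRing S] (e : R ≃+* S) {M N : Type u} [AddCommGroup M] [Module R M]
  [Module.Finite R M] [AddCommGroup N] [Module S N]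
  (φ : M ≃+ N) (hφ : ∀ (r : R) (m : M), φ (r • m) = e r • φ m)

include hφ in
theorem finite_semilinear : Module.Finite S N := by
  obtain ⟨s, hs⟩ := (inferInstance : Module.Finite R M)
  classical
  refine ⟨⟨s.image φ, eq_top_iff.2 fun n _ => ?_⟩⟩
  rw [← φ.apply_symm_apply n]
  have hm : φ.symm n ∈ Submodule.span R (s : Set M) := hs ▸ trivial
  generalize φ.symm n = m at hm
  induction hm using Submodule.span_induction with
  | mem x hx => exact Submodule.subset_span (Finset.mem_image_of_mem φ hx)
  | zero => rw [map_zero]; exact zero_mem _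
  | add x y _ _ hx hy => rw [map_add]; exact add_mem hx hy
  | smul r x _ hx => rw [hφ]; exact Submodule.smul_mem _ _ hx

include hφ in
theorem hasSeqIn_semilinear {n : ℕ} (h : CommAlgDim.HasSeqIn (IsLocalRing.maximalIdeal R) M n) :
    CommAlgDim.HasSeqIn (IsLocalRing.maximalIdeal S) N n := by
  obtain ⟨rs, hl, hm, hr⟩ := h
  refine ⟨rs.map e, by simpa using hl, fun r hr' => ?_, ?_⟩
  · obtain ⟨a, ha, rfl⟩ := List.mem_map.1 hr'
    exact fun hu => hm a ha ((isUnit_map_iff e a).1 hu)
  · refine (AddEquiv.isWeaklyRegular_congr (e := φ) ?_).1 hr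
    rw [List.forall₂_map_right_iff, List.forall₂_same]
    exact fun a _ x => hφ a x

include hφ in
/-- Semilinear isomorphisms preserve the Cohen-Macaulay property. -/
theorem isCM_semilinear (h : LocCoh.IsCohenMacaulayModule R M) : LocCoh.IsCohenMacaulayModule S N := by
  haveI := finite_semilinear e φ hφ
  have hsymm : ∀ (s : S) (n : N), φ.symm (s • n) = e.symm s • φ.symm n := fun s n => by
    apply φ.injective
    rw [φ.apply_symm_apply, hφ, e.apply_symm_apply, φ.apply_symm_apply]
  have hd : LocCoh.depth R M = LocCoh.depth S N := ENat.eq_of_forall_natCast_le_iff fun n => by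
    rw [CommAlgDim.le_depth_iff, CommAlgDim.le_depth_iff]
    exact ⟨hasSeqIn_semilinear e φ hφ, hasSeqIn_semilinear e.symm φ.symm hsymm⟩
  have ha : Module.annihilator S N = (Module.annihilator R M).map e := by
    ext s
    rw [Ideal.mem_map_of_equiv]
    refine ⟨fun hs => ⟨e.symm s, Module.mem_annihilator.2 fun m => ?_, e.apply_symm_apply s⟩, ?_⟩
    · apply φ.injective
      rw [hφ, e.apply_symm_apply, map_zero]
      exact Module.mem_annihilator.1 hs _
    · rintro ⟨r, hr, rfl⟩
      refine Module.mem_annihilator.2 fun n => ?_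
      rw [← φ.apply_symm_apply n, ← hφ, Module.mem_annihilator.1 hr, map_zero]
  show Module.supportDim S N = _
  rw [← hd, Module.supportDim_eq_ringKrullDim_quotient_annihilator,
    ← ringKrullDim_eq_of_ringEquiv (Ideal.quotientEquiv _ _ e ha),
    ← Module.supportDim_eq_ringKrullDim_quotient_annihilator]
  exact h

end Semilinear

/-- The module of a dualizing complex in one degree is Cohen-Macaulay where it is nonzero. -/
theorem isCM_of_single {A : Type u} [CommRing A] [IsNoetherianRing A] {ω : Dual.D A}
    (hω : Dual.IsDualizing A ω) (n : ℤ) (hs : ∀ i : ℤ, i ≠ n → Subsingleton (Dual.HD A ω i))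
    (p : PrimeSpectrum A) (hne : Nontrivial (LocalizedModule p.asIdeal.primeCompl (Dual.HD A ω n))) :
    LocCoh.IsCohenMacaulayModule (Localization.AtPrime p.asIdeal)
      (LocalizedModule p.asIdeal.primeCompl (Dual.HD A ω n)) := by
  haveI := hω.finite_cohomology n
  let R := Localization.AtPrime p.asIdeal
  let M := LocalizedModule p.asIdeal.primeCompl (Dual.HD A ω n)
  haveI : IsNoetherianRing R := IsLocalization.isNoetherianRing p.asIdeal.primeCompl _ ‹_›
  haveI : Module.Finite R M :=
    Module.Finite.of_isLocalizedModule p.asIdeal.primeCompl (LocalizedModule.mkLinearMap p.asIdeal.primeCompl _)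
  refine le_antisymm ?_ (SegreLC.depth_le_supportDim M)
  refine (Module.supportDim_le_ringKrullDim R M).trans ?_
  obtain ⟨e, he⟩ := WithBot.ne_bot_iff_exists.1 (show ringKrullDim R ≠ ⊥ from ringKrullDim_ne_bot)
  have htop : ringKrullDim R ≠ ⊤ := ringKrullDim_ne_top
  rw [← he] at htop
  obtain ⟨c, hc⟩ := ENat.ne_top_iff_exists.1 (show e ≠ ⊤ from fun h => htop (by rw [h]; rfl))
  rw [← he, ← hc]
  exact WithBot.coe_le_coe.2 (le_depth_of_single hω n hs p c (by rw [← he, ← hc]; rfl))

/-- The `A`-semilinear comparison between a localization and a base change to another model of `A_p`. -/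
theorem isCM_baseChange {A : Type u} [CommRing A] [IsNoetherianRing A] (p : PrimeSpectrum A)
    (S : Type u) [CommRing S] [IsLocalRing S] [IsNoetherianRing S] [Algebra A S]
    [IsLocalization.AtPrime S p.asIdeal] (M : Type u) [AddCommGroup M] [Module A M] [Module.Finite A M]
    (h : LocCoh.IsCohenMacaulayModule (Localization.AtPrime p.asIdeal)
      (LocalizedModule p.asIdeal.primeCompl M)) :
    LocCoh.IsCohenMacaulayModule S (S ⊗[A] M) := by
  haveI : IsNoetherianRing (Localization.AtPrime p.asIdeal) :=
    IsLocalization.isNoetherianRing p.asIdeal.primeCompl _ ‹_›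
  haveI : Module.Finite (Localization.AtPrime p.asIdeal) (LocalizedModule p.asIdeal.primeCompl M) :=
    Module.Finite.of_isLocalizedModule p.asIdeal.primeCompl (LocalizedModule.mkLinearMap p.asIdeal.primeCompl _)
  haveI : IsLocalizedModule p.asIdeal.primeCompl (TensorProduct.mk A S M 1) :=
    (isLocalizedModule_iff_isBaseChange p.asIdeal.primeCompl S _).2 (TensorProduct.isBaseChange A M S)
  let e := IsLocalization.algEquiv p.asIdeal.primeCompl (Localization.AtPrime p.asIdeal) S
  let φ := IsLocalizedModule.iso p.asIdeal.primeCompl (TensorProduct.mk A S M 1)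
  refine isCM_semilinear e.toRingEquiv φ.toAddEquiv (fun r m => ?_) h
  obtain ⟨a, s, rfl⟩ := IsLocalization.exists_mk'_eq p.asIdeal.primeCompl r
  refine IsLocalizedModule.smul_injective (TensorProduct.mk A S M 1) s ?_
  show (s : A) • φ (IsLocalization.mk' _ a s • m) = (s : A) • e (IsLocalization.mk' _ a s) • φ m
  rw [← map_smul φ, ← algebraMap_smul (Localization.AtPrime p.asIdeal) (s : A), smul_smul,
    IsLocalization.mk'_spec', algebraMap_smul, map_smul, ← smul_assoc (s : A) (e _) (φ m), ← map_smul e,
    Algebra.smul_def, IsLocalization.mk'_spec', AlgEquiv.commutes, algebraMap_smul]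

/-- The base change along a ring isomorphism is a semilinear isomorphism. -/
theorem isCM_of_extendScalars {R S : CommRingCat.{u}} [IsNoetherianRing R] [IsNoetherianRing S]
    [IsLocalRing R] [IsLocalRing S] (σ : R →+* S) (hσ : Function.Bijective σ) (M : ModuleCat.{u} R)
    [Module.Finite R M]
    (h : LocCoh.IsCohenMacaulayModule S ((ModuleCat.extendScalars.{u, u, u} σ).obj M)) :
    LocCoh.IsCohenMacaulayModule R M := by
  letI := σ.toAlgebra
  let e := RingEquiv.ofBijective σ hσ
  have hb : Function.Bijective (TensorProduct.mk R S M 1) := by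
    let E : R ≃ₐ[R] S := AlgEquiv.ofRingEquiv (f := e) fun _ => rfl
    have hE : ∀ m, TensorProduct.congr E.toLinearEquiv (LinearEquiv.refl R M) ((TensorProduct.lid R M).symm m) =
        (1 : S) ⊗ₜ[R] m := fun m => by simp
    rw [show (TensorProduct.mk R S M 1 : M → S ⊗[R] M) = (TensorProduct.lid R M).symm.trans
      (TensorProduct.congr E.toLinearEquiv (LinearEquiv.refl R M)) from funext fun m => (hE m).symm]
    exact LinearEquiv.bijective _
  let ψ : M ≃+ (ModuleCat.extendScalars.{u, u, u} σ).obj M :=
    (AddEquiv.ofBijective (TensorProduct.mk R S M 1).toAddMonoidHom hb).trans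
      (FlatCxLib.extEquiv (B := S) M).symm.toAddEquiv
  have hψ : ∀ (r : R) (m : M), ψ (r • m) = σ r • ψ m := fun r m => by
    show (FlatCxLib.extEquiv (B := S) M).symm ((1 : S) ⊗ₜ[R] (r • m)) =
      σ r • (FlatCxLib.extEquiv (B := S) M).symm ((1 : S) ⊗ₜ[R] m)
    rw [← map_smul, TensorProduct.smul_tmul', TensorProduct.tmul_smul, ← TensorProduct.smul_tmul',
      ← algebraMap_smul S r, TensorProduct.smul_tmul']
    rfl
  haveI := finite_semilinear e ψ hψ
  refine isCM_semilinear e.symm ψ.symm (fun s x => ψ.injective ?_) h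
  rw [ψ.apply_symm_apply, hψ, ψ.apply_symm_apply]
  exact congrArg (· • x) (e.apply_symm_apply s).symm

/-- Cohen-Macaulayness of the stalks from a chart of a dualizing complex. -/
theorem isCM_stalk_of_single {X : Scheme.{u}} [IsLocallyNoetherian X]
    [∀ (U : Scheme.{u}) (j : U ⟶ X) [IsOpenImmersion j], PreservesFiniteLimits (Scheme.Modules.restrictFunctor j)]
    [∀ (R : CommRingCat.{u}), PreservesFiniteLimits (tilde.functor R)]
    {A : CommRingCat.{u}} [IsNoetherianRing A] (j : Spec A ⟶ X) [IsOpenImmersion j] {K : DCoh.D X}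
    {ω : Dual.D A} (hω : Dual.IsDualizing A ω) (e : (DCoh.restrictD j).obj K ≅ (DCoh.tildeD A).obj ω) (n : ℤ)
    (hw : Coh.IsCoh (DCoh.HD K n)) (hs : ∀ i : ℤ, i ≠ n → Subsingleton (Dual.HD A ω i))
    (p : PrimeSpectrum A) (hne : Nontrivial ((DCoh.HD K n).presheaf.stalk (j p))) :
    LocCoh.IsCohenMacaulayModule (X.presheaf.stalk (j p)) ((DCoh.HD K n).presheaf.stalk (j p)) := by
  letI alg : Algebra A ((Spec A).presheaf.stalk p) := StructureSheaf.stalkAlgebra A p
  haveI : IsLocalization.AtPrime ((Spec A).presheaf.stalk p) p.asIdeal :=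
    StructureSheaf.IsLocalization.to_stalk A p
  haveI : IsNoetherianRing ((Spec A).presheaf.stalk p) :=
    IsLocalization.isNoetherianRing p.asIdeal.primeCompl _ ‹_›
  haveI : IsNoetherianRing (X.presheaf.stalk (j p)) :=
    isNoetherianRing_of_ringEquiv _ (asIso (j.stalkMap p)).commRingCatIsoToRingEquiv.symm
  haveI := hω.finite_cohomology n
  let N : ModuleCat.{u} A := ModuleCat.of A (Dual.HD A ω n)
  have h1 := isCM_of_single hω n hs p
    (((DualCxLib.stalkHD j e p n).nontrivial_congr).1 hne)
  have h2 := isCM_baseChange p ((Spec A).presheaf.stalk p) N h1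
  haveI : Module.Finite ((Spec A).presheaf.stalk p) ((Spec A).presheaf.stalk p ⊗[A] N) := inferInstance
  let θ : (ModuleCat.extendScalars.{u, u, u} (j.stalkMap p).hom).obj
      ((DerSch.stalkFunctor X (j p)).obj (DCoh.HD K n)) ≅
      (ModuleCat.extendScalars.{u, u, u} (algebraMap A ((Spec A).presheaf.stalk p))).obj N :=
    ((RelFlatLib.stalkResExt j p).app (DCoh.HD K n)).symm ≪≫
      (DerSch.stalkFunctor (Spec A) p).mapIso (DualCxLib.chartIso j e n) ≪≫ (KFlatLib.stalkTildeIso p).app N
  haveI hf : Module.Finite (X.presheaf.stalk (j p)) ((DerSch.stalkFunctor X (j p)).obj (DCoh.HD K n)) :=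
    haveI := hw.1
    DepthLib.finite_stalk (DCoh.HD K n) hw.2 (j p)
  refine isCM_of_extendScalars (j.stalkMap p).hom (ConcreteCategory.bijective_of_isIso (j.stalkMap p))
    ((DerSch.stalkFunctor X (j p)).obj (DCoh.HD K n)) ?_
  exact isCM_semilinear (RingEquiv.refl _)
    ((FlatCxLib.extEquiv (B := (Spec A).presheaf.stalk p) N).symm ≪≫ₗ θ.toLinearEquiv.symm).toAddEquiv
    (fun r m => map_smul ((FlatCxLib.extEquiv (B := (Spec A).presheaf.stalk p) N).symm ≪≫ₗ θ.toLinearEquiv.symm) r m) h2

end Groth.Agent.FMKLib
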