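import Groth.Agent.InvLib.Depth
import Mathlib.Algebra.Category.ModuleCat.Abelian
import Mathlib.Algebra.Homology.HomologicalComplex
import Mathlib.Algebra.Module.FinitePresentation
import Mathlib.RingTheory.Localization.AtPrime.Basic
import Mathlib.RingTheory.Ideal.Height
import Mathlib.RingTheory.Nilpotent.Lemmas

/-!
# An acyclicity lemma for the duals of complexes of projective modules
-/

set_option autoImplicit false
set_option linter.style.haveILetI false
set_option backward.isDefEq.respectTransparency false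
set_option backward.isDefEq.respectTransparency.types false

universe u

open RingTheory.Sequence Pointwise CategoryTheory

noncomputable section

namespace Groth.Agent.FMKLib

section Acyc

variable {R : Type u} [CommRing R]

/-- The acyclicity lemma: a complex that is split above a degree, with torsion homology and terms with long regular
sequences, is exact in as many further degrees as the length of the sequence. -/
theorem exact_of_split_torsion : ∀ (rs : List R) (M : ℤ → Type u) [∀ i, AddCommGroup (M i)] [∀ i, Module R (M i)]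
    (δ : ∀ a b, M a →ₗ[R] M b) (_ : ∀ a b c z, δ b c (δ a b z) = 0) (_ : ∀ i, IsWeaklyRegular (M i) rs) (hi : ℤ)
    (_ : ∀ q, hi < q → ∃ (r : M q →ₗ[R] M (q + 1)) (t : M (q - 1) →ₗ[R] M q),
      ∀ z, δ (q + 1) q (r z) + t (δ q (q - 1) z) = z)
    (_ : ∀ x ∈ rs, ∀ q, hi - rs.length < q → ∀ z, δ q (q - 1) z = 0 →
      ∃ (N : ℕ) (v : M (q + 1)), δ (q + 1) q v = x ^ N • z)
    (q : ℤ) (_ : hi - rs.length < q) (z : M q) (_ : δ q (q - 1) z = 0), ∃ v : M (q + 1), δ (q + 1) q v = z
  | [], _, _, _, δ, _, _, _, hsplit, _, q, hq, z, hz => by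
    obtain ⟨r, t, h⟩ := hsplit q (by simpa using hq)
    exact ⟨r z, by simpa [hz] using h z⟩
  | x :: rs, M, _, _, δ, hdd, hreg, hi, hsplit, htor, q, hq, z, hz => by
    have hx : ∀ i, IsSMulRegular (M i) x := fun i => ((isWeaklyRegular_cons_iff (M i) x rs).1 (hreg i)).1
    let M' : ℤ → Type u := fun i => QuotSMulTop x (M i)
    have hd' : ∀ a b (f : M a →ₗ[R] M b),
        (x • (⊤ : Submodule R (M a))) ≤ (x • (⊤ : Submodule R (M b))).comap f := by
      rintro a b f n ⟨w, -, rfl⟩
      rw [Submodule.mem_comap]
      exact ⟨f w, trivial, (map_smul f x w).symm⟩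
    let down : ∀ {a b}, (M a →ₗ[R] M b) → (M' a →ₗ[R] M' b) := fun f => Submodule.mapQ _ _ f (hd' _ _ f)
    have hmk : ∀ {a b} (f : M a →ₗ[R] M b) (m : M a),
        down f (Submodule.Quotient.mk m) = Submodule.Quotient.mk (f m) := fun f m => rfl
    have hmem : ∀ {i} {n : M i}, n ∈ x • (⊤ : Submodule R (M i)) → ∃ w, n = x • w := by
      rintro i n ⟨w, -, hw⟩
      exact ⟨w, hw.symm⟩
    have ih := exact_of_split_torsion rs M' (fun a b => down (δ a b))
      (fun a b c m => by
        induction m using Submodule.Quotient.induction_on with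
        | H m => rw [hmk, hmk, hdd, Submodule.Quotient.mk_zero])
      (fun i => ((isWeaklyRegular_cons_iff (M i) x rs).1 (hreg i)).2) hi
      (fun j hj => by
        obtain ⟨r, t, h⟩ := hsplit j hj
        refine ⟨down r, down t, fun m => ?_⟩
        induction m using Submodule.Quotient.induction_on with
        | H m => rw [hmk, hmk, hmk, hmk, ← Submodule.Quotient.mk_add, h])
      (fun y hy j hj m hm => by
        simp only [List.length_cons] at htor
        induction m using Submodule.Quotient.induction_on with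
        | H m =>
          rw [hmk, Submodule.Quotient.mk_eq_zero] at hm
          obtain ⟨w, hw⟩ := hmem hm
          have hwc : δ (j - 1) (j - 1 - 1) w = 0 := (hx _) (by simp only [smul_zero, ← map_smul, ← hw, hdd])
          obtain ⟨N, u, hu⟩ := htor y (List.mem_cons_of_mem _ hy) (j - 1) (by push_cast; omega) w hwc
          have key : ∀ (a : ℤ) (ha : a = j) (u : M a), δ a (j - 1) u = y ^ N • w →
              ∃ (N' : ℕ) (v : M (j + 1)), ∃ u' : M j, δ (j + 1) j v = y ^ N' • (y ^ N • m - x • u') := by
            rintro a rfl u hu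
            obtain ⟨N', v, hv⟩ := htor y (List.mem_cons_of_mem _ hy) a (by push_cast; omega) (y ^ N • m - x • u)
              (by rw [map_sub, map_smul, map_smul, hw, hu, smul_comm, sub_self])
            exact ⟨N', v, u, hv⟩
          obtain ⟨N', v, u', hv⟩ := key _ (by omega) u hu
          refine ⟨N' + N, Submodule.Quotient.mk v, ?_⟩
          rw [hmk, hv, smul_sub, Submodule.Quotient.mk_sub, smul_comm (y ^ N') x u',
            (Submodule.Quotient.mk_eq_zero (x • (⊤ : Submodule R (M j)))).2
              (Submodule.smul_mem_pointwise_smul _ _ _ trivial), sub_zero, smul_smul, ← pow_add]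
          rfl)
    obtain ⟨N, v, hv⟩ := htor x (List.mem_cons_self ..) q hq z hz
    clear hz
    induction N generalizing z v with
    | zero => exact ⟨v, by simpa using hv⟩
    | succ N ihN =>
      rw [pow_succ', mul_smul] at hv
      simp only [List.length_cons] at hq
      obtain ⟨w, hw⟩ := ih (q + 1) (by push_cast at hq ⊢; omega) (Submodule.Quotient.mk v) (by
        have key : ∀ a (ha : a = q), down (δ (q + 1) a) (Submodule.Quotient.mk v) = 0 := by
          rintro a rfl
          rw [hmk, hv, Submodule.Quotient.mk_eq_zero]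
          exact Submodule.smul_mem_pointwise_smul _ _ _ trivial
        exact key _ (by omega))
      obtain ⟨w, rfl⟩ := Submodule.Quotient.mk_surjective _ w
      rw [hmk, Submodule.Quotient.eq] at hw
      obtain ⟨e, he⟩ := hmem hw
      have h2 : δ (q + 1) q (-e) = x ^ N • z := by
        refine (hx q) ?_
        change x • δ (q + 1) q (-e) = x • (x ^ N • z)
        rw [← hv, ← map_smul, smul_neg, ← he, neg_sub, map_sub, hdd, sub_zero]
      exact ihN z _ h2

theorem isWeaklyRegular_of_retract : ∀ (rs : List R) {M N : Type u} [AddCommGroup M] [Module R M] [AddCommGroup N]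
    [Module R N] (i : M →ₗ[R] N) (r : N →ₗ[R] M) (_ : ∀ m, r (i m) = m) (_ : IsWeaklyRegular N rs),
    IsWeaklyRegular M rs
  | [], M, _, _, _, _, _, _, _, _, _ => IsWeaklyRegular.nil R M
  | x :: rs, M, N, _, _, _, _, i, r, h, hreg => by
    rw [isWeaklyRegular_cons_iff] at hreg ⊢
    refine ⟨fun a b hab => ?_, ?_⟩
    · rw [← h a, ← h b, hreg.1 (show x • i a = x • i b by rw [← map_smul, ← map_smul]; exact congrArg i hab)]
    · refine isWeaklyRegular_of_retract rs (QuotSMulTop.map x i) (QuotSMulTop.map x r) (fun m => ?_) hreg.2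
      induction m using Submodule.Quotient.induction_on with
      | H m => exact congrArg Submodule.Quotient.mk (h m)

theorem isWeaklyRegular_fin : ∀ (rs : List R) {N : Type u} [AddCommGroup N] [Module R N]
    (_ : IsWeaklyRegular N rs) (c : ℕ), IsWeaklyRegular (Fin c → N) rs
  | [], N, _, _, _, c => IsWeaklyRegular.nil R _
  | x :: rs, N, _, _, hreg, c => by
    rw [isWeaklyRegular_cons_iff] at hreg ⊢
    refine ⟨fun a b hab => funext fun j => hreg.1 (congrFun hab j), ?_⟩
    let φ : QuotSMulTop x (Fin c → N) →ₗ[R] (Fin c → QuotSMulTop x N) :=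
      LinearMap.pi fun j => QuotSMulTop.map x (LinearMap.proj j)
    let ψ : (Fin c → QuotSMulTop x N) →ₗ[R] QuotSMulTop x (Fin c → N) :=
      ∑ j, QuotSMulTop.map x (LinearMap.single R (fun _ : Fin c => N) j) ∘ₗ LinearMap.proj j
    refine isWeaklyRegular_of_retract rs φ ψ (fun m => ?_) (isWeaklyRegular_fin rs hreg.2 c)
    induction m using Submodule.Quotient.induction_on with
    | H m =>
      simp only [φ, ψ, LinearMap.sum_apply, LinearMap.comp_apply, LinearMap.proj_apply, LinearMap.pi_apply,
        QuotSMulTop.map_apply_mk, LinearMap.coe_single]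
      exact ((map_sum (Submodule.mkQ _) _ _).symm.trans (congrArg _ (Finset.univ_sum_single m)))

end Acyc

section Dual

variable {A : Type u} [CommRing A] [IsNoetherianRing A] (P : CochainComplex (ModuleCat.{u} A) ℤ)

/-- A contraction in one degree, up to an element outside `p`. -/
def LocContr (p : Ideal A) (q : ℤ) : Prop :=
  ∃ s ∉ p, ∃ (r : P.X q →ₗ[A] P.X (q - 1)) (t : P.X (q + 1) →ₗ[A] P.X q),
    ∀ x, (P.d (q - 1) q).hom (r x) + t ((P.d q (q + 1)).hom x) = s • x

/-- Exactness in one degree after localization at `p`. -/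
def LocExact (p : Ideal A) (q : ℤ) : Prop :=
  ∀ z : P.X q, (P.d q (q + 1)).hom z = 0 → ∃ s ∉ p, ∃ v, (P.d (q - 1) q).hom v = s • z

variable {P}

theorem d_d (a b c : ℤ) (x : P.X a) : (P.d b c).hom ((P.d a b).hom x) = 0 :=
  LinearMap.congr_fun (congrArg ModuleCat.Hom.hom (P.d_comp_d a b c)) x

theorem locContr_step (hfin : ∀ i, Module.Finite A (P.X i)) (hproj : ∀ i, Module.Projective A (P.X i))
    (p : Ideal A) [p.IsPrime] (q : ℤ) (hex : LocExact P p q) (h : LocContr P p (q + 1)) :
    LocContr P p q := by
  obtain ⟨s, hs, r', t', h'⟩ := h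
  haveI := hfin q
  haveI := hproj q
  haveI : Module.Free A A := inferInstance
  have key : ∀ (b : ℤ) (hb : b = q) (r' : P.X (q + 1) →ₗ[A] P.X b),
      (∀ x, (P.d b (q + 1)).hom (r' x) + t' ((P.d (q + 1) (q + 1 + 1)).hom x) = s • x) → LocContr P p q := by
    rintro b rfl r' h'
    let e : P.X b →ₗ[A] P.X b := s • LinearMap.id - r' ∘ₗ (P.d b (b + 1)).hom
    have he : ∀ x, (P.d b (b + 1)).hom (e x) = 0 := fun x => by
      have := h' ((P.d b (b + 1)).hom x)
      rw [d_d, map_zero, add_zero] at this
      simp [e, map_sub, map_smul, this]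
    obtain ⟨σ, hσ⟩ := (inferInstance : Module.Finite A (P.X b))
    choose u hu v hv using fun x => hex (e x) (he x)
    classical
    let w := σ.prod u
    have hw : w ∉ p := fun hmem => by
      obtain ⟨x, -, hx⟩ := (Ideal.IsPrime.prod_mem_iff (p := p)).1 hmem
      exact hu x hx
    have hle : LinearMap.range (w • e) ≤ LinearMap.range (P.d (b - 1) b).hom := by
      rw [LinearMap.range_eq_map, ← hσ, Submodule.map_span_le]
      intro x hx
      refine ⟨(∏ y ∈ σ.erase x, u y) • v x, ?_⟩
      rw [map_smul, hv, smul_smul, Finset.prod_erase_mul σ u hx]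
      rfl
    obtain ⟨r, hr⟩ := Module.projective_lifting_property (P.d (b - 1) b).hom.rangeRestrict
      ((w • e).codRestrict _ fun x => hle ⟨x, rfl⟩) (LinearMap.surjective_rangeRestrict _)
    refine ⟨w * s, fun h => (Ideal.IsPrime.mem_or_mem ‹_› h).elim hw hs, r, w • r', fun x => ?_⟩
    have hrx : (P.d (b - 1) b).hom (r x) = w • e x := congrArg Subtype.val (LinearMap.congr_fun hr x)
    rw [hrx, LinearMap.smul_apply]
    simp [e, smul_sub, smul_smul]
  exact key _ (by omega) r' h'

theorem locContr_of_locExact (hfin : ∀ i, Module.Finite A (P.X i)) (hproj : ∀ i, Module.Projective A (P.X i))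
    (b : ℤ) (hb : ∀ i, b < i → Subsingleton (P.X i)) (p : Ideal A) [p.IsPrime] (i : ℤ)
    (hex : ∀ q, i ≤ q → LocExact P p q) : ∀ q, i ≤ q → LocContr P p q := by
  have key : ∀ (n : ℕ) (q : ℤ), b < q + n → i ≤ q → LocContr P p q := by
    intro n
    induction n with
    | zero =>
      intro q hq _
      haveI := hb q (by simpa using hq)
      exact ⟨1, fun h => Ideal.IsPrime.ne_top ‹_› ((Ideal.eq_top_iff_one p).2 h), 0, 0,
        fun x => Subsingleton.elim _ _⟩
    | succ n ih =>
      intro q hq hiq
      exact locContr_step hfin hproj p q (hex q hiq) (ih (q + 1) (by omega) (by omega))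
  exact fun q hq => key (b + 1 - q).toNat q (by omega) hq

/-- The dual of a complex with small cohomology at every prime, into a module of maximal depth, is exact. -/
theorem dual_exact_of_depth (hfin : ∀ i, Module.Finite A (P.X i)) (hproj : ∀ i, Module.Projective A (P.X i))
    (b : ℤ) (hb : ∀ i, b < i → Subsingleton (P.X i)) (N : Type u) [AddCommGroup N] [Module A N] (k' : ℕ)
    (hN : ∀ (p : Ideal A) [p.IsPrime] (n : ℕ), (n : WithBot ℕ∞) ≤ ringKrullDim (Localization.AtPrime p) →
      InvLib.HasSeq (Localization.AtPrime p) (LocalizedModule p.primeCompl N) n)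
    (hH : ∀ (p : Ideal A) [p.IsPrime] (q : ℕ), ¬ LocExact P p (q : ℤ) →
      ((q - k' : ℕ) : WithBot ℕ∞) ≤ ringKrullDim (Localization.AtPrime p))
    (q : ℤ) (hq : (k' : ℤ) < q) (g : P.X q →ₗ[A] N) (hg : g ∘ₗ (P.d (q - 1) q).hom = 0) :
    ∃ h : P.X (q + 1) →ₗ[A] N, h ∘ₗ (P.d q (q + 1)).hom = g := by
  haveI : ∀ i, Module.FinitePresentation A (P.X i) := fun i =>
    haveI := hfin i
    haveI := hproj i
    Module.finitePresentation_of_projective A _
  let D : ∀ a : ℤ, (P.X (a + 1) →ₗ[A] N) →ₗ[A] (P.X a →ₗ[A] N) := fun a =>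
    LinearMap.lcomp A N (P.d a (a + 1)).hom
  suffices loc : ∀ (p : PrimeSpectrum A) (q : ℤ) (_ : (k' : ℤ) < q) (g : P.X q →ₗ[A] N),
      g ∘ₗ (P.d (q - 1) q).hom = 0 → ∃ s ∉ p.asIdeal, s • g ∈ LinearMap.range (D q) by
    have htop : (LinearMap.range (D q)).comap (LinearMap.toSpanSingleton A _ g) = ⊤ := by
      by_contra hne
      obtain ⟨m, hm, hle⟩ := Ideal.exists_le_maximal _ hne
      obtain ⟨s, hs, hsg⟩ := loc ⟨m, hm.isPrime⟩ q hq g hg
      exact hs (hle hsg)
    have h1 : (1 : A) ∈ (LinearMap.range (D q)).comap (LinearMap.toSpanSingleton A _ g) := htop ▸ trivial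
    obtain ⟨h, hh⟩ := h1
    exact ⟨h, hh.trans (one_smul A g)⟩
  intro p
  haveI : WellFoundedLT (PrimeSpectrum A) := ⟨Subrelation.wf
    (fun {a b} hab => Ideal.height_strict_mono_of_isPrime_of_isPrime hab)
    (InvImage.wf (fun p : PrimeSpectrum A => p.asIdeal.height) wellFounded_lt)⟩
  induction p using WellFoundedLT.induction with
  | _ p ih =>
    intro q hq g hg
    let S := p.asIdeal.primeCompl
    let R := Localization.AtPrime p.asIdeal
    let N' := LocalizedModule S N
    let ι : N →ₗ[A] N' := LocalizedModule.mkLinearMap S N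
    obtain ⟨n, hn⟩ : ∃ n : ℕ, ringKrullDim R = (n : WithBot ℕ∞) := by
      obtain ⟨e, he⟩ := WithBot.ne_bot_iff_exists.1 (show ringKrullDim R ≠ ⊥ from ringKrullDim_ne_bot)
      have htop : ringKrullDim R ≠ ⊤ := ringKrullDim_ne_top
      rw [← he] at htop ⊢
      obtain ⟨c, hc⟩ := ENat.ne_top_iff_exists.1 (show e ≠ ⊤ from fun h => htop (by rw [h]; rfl))
      exact ⟨c, by rw [← hc]; rfl⟩
    obtain ⟨rs, hlen, hrm, hreg⟩ := hN p.asIdeal n (by rw [hn])
    let M : ℤ → Type u := fun a => P.X a →ₗ[A] N'
    let δ : ∀ a b, M a →ₗ[R] M b := fun a b => LinearMap.lcomp R N' (P.d b a).hom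
    have hδ : ∀ a b (f : M a) x, δ a b f x = f ((P.d b a).hom x) := fun a b f x => rfl
    have hLC : ∀ j : ℤ, (k' : ℤ) + n < j → LocContr P p.asIdeal j := fun j hj =>
      locContr_of_locExact hfin hproj b hb p.asIdeal j (fun m hm => by
        obtain ⟨m, rfl⟩ := Int.eq_ofNat_of_zero_le (show 0 ≤ m by omega)
        by_contra hne
        have h := hH p.asIdeal m hne
        rw [hn] at h
        have h' : m - k' ≤ n := by exact_mod_cast h
        omega) j le_rfl
    have hM : ∀ a, IsWeaklyRegular (M a) rs := fun a => by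
      haveI := hfin a
      haveI := hproj a
      obtain ⟨c, f, g', hf, -, hfg⟩ := Module.Finite.exists_comp_eq_id_of_projective A (P.X a)
      let i₁ : M a →ₗ[R] (Fin c → N') :=
        { toFun := fun φ j => φ (f (Pi.single j 1)), map_add' := fun _ _ => rfl, map_smul' := fun _ _ => rfl }
      let i₂ : (Fin c → N') →ₗ[R] M a :=
        { toFun := fun v => Fintype.linearCombination A v ∘ₗ g'
          map_add' := fun v w => LinearMap.ext fun x => by
            show Fintype.linearCombination A (v + w) (g' x) =
              Fintype.linearCombination A v (g' x) + Fintype.linearCombination A w (g' x)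
            simp [Fintype.linearCombination_apply, Finset.sum_add_distrib]
          map_smul' := fun r v => LinearMap.ext fun x => by
            show Fintype.linearCombination A (r • v) (g' x) = r • Fintype.linearCombination A v (g' x)
            simp [Fintype.linearCombination_apply, Finset.smul_sum, smul_comm r] }
      have h21 : ∀ φ, i₂ (i₁ φ) = φ := fun φ => LinearMap.ext fun x => by
        have hx : f (g' x) = x := LinearMap.congr_fun hfg x
        conv_rhs => rw [← hx, pi_eq_sum_univ' (g' x), map_sum, map_sum]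
        simp [i₁, i₂, Fintype.linearCombination_apply, map_smul]
      exact isWeaklyRegular_of_retract rs i₁ i₂ h21 (isWeaklyRegular_fin rs hreg c)
    have hlift : ∀ (a : ℤ) (z : M a), ∃ (g₀ : P.X a →ₗ[A] N) (s : S), ι ∘ₗ g₀ = s • z := fun a z =>
      Module.FinitePresentation.exists_lift_of_isLocalizedModule S ι z
    have hunit : ∀ {a : A}, a ∉ p.asIdeal → IsUnit (algebraMap A R a) := fun {a} ha =>
      IsLocalization.map_units R (⟨a, ha⟩ : S)
    have hsmul : ∀ {j} (a : A) (z : M j), algebraMap A R a • z = a • z := fun {j} a z =>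
      LinearMap.ext fun x => IsScalarTower.algebraMap_smul R a (z x)
    have main := exact_of_split_torsion rs M δ
      (fun a b c z => LinearMap.ext fun x => by rw [hδ, hδ, d_d, map_zero]; rfl) hM ((k' : ℤ) + n)
      (fun j hj => by
        obtain ⟨s, hs, r, t, h⟩ := hLC j hj
        obtain ⟨w, hw⟩ := hunit hs
        refine ⟨(↑w⁻¹ : R) • LinearMap.lcomp R N' t, (↑w⁻¹ : R) • LinearMap.lcomp R N' r,
          fun z => LinearMap.ext fun x => ?_⟩
        rw [LinearMap.smul_apply, LinearMap.smul_apply, map_smul, ← smul_add, LinearMap.smul_apply,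
          LinearMap.add_apply]
        show (↑w⁻¹ : R) • (z (t ((P.d j (j + 1)).hom x)) + z ((P.d (j - 1) j).hom (r x))) = z x
        rw [add_comm, ← map_add, h, map_smul, ← IsScalarTower.algebraMap_smul R s (z x), ← hw, smul_smul,
          Units.inv_mul, one_smul])
      (fun y hy j hj z hz => by
        rw [hlen] at hj
        obtain ⟨g₀, s, hgs⟩ := hlift j z
        obtain ⟨u, hu⟩ := Module.Finite.exists_smul_of_comp_eq_of_isLocalizedModule S ι
          (g₀ ∘ₗ (P.d (j - 1) j).hom) 0 (LinearMap.ext fun x => by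
            have h1 := LinearMap.congr_fun hgs ((P.d (j - 1) j).hom x)
            have h2 : z ((P.d (j - 1) j).hom x) = 0 := LinearMap.congr_fun hz x
            rw [LinearMap.comp_apply] at h1
            simp only [LinearMap.comp_apply, LinearMap.zero_apply, map_zero, h1]
            rw [LinearMap.smul_apply, h2, smul_zero])
        rw [smul_zero] at hu
        let g₁ := (u : A) • g₀
        have hg₁ : g₁ ∘ₗ (P.d (j - 1) j).hom = 0 := (LinearMap.smul_comp _ _ _).trans hu
        let J : Ideal R := (LinearMap.range (δ (j + 1) j)).comap (LinearMap.toSpanSingleton R _ (ι ∘ₗ g₁))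
        have hy' : y ∈ J.radical := by
          rw [Ideal.radical_eq_sInf]
          refine Ideal.mem_sInf.2 fun {Q} hQ => ?_
          haveI := hQ.2
          by_contra hyQ
          let q' : PrimeSpectrum A := ⟨Q.comap (algebraMap A R), inferInstance⟩
          have hle : q'.asIdeal ≤ p.asIdeal := fun a ha => by
            by_contra hap
            exact hQ.2.ne_top (Ideal.eq_top_of_isUnit_mem _ ha (hunit hap))
          have hlt : q' < p := lt_of_le_of_ne hle fun heq => hyQ (by
            have h := congrArg PrimeSpectrum.asIdeal heq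
            have hmax : Q = IsLocalRing.maximalIdeal R := by
              rw [← IsLocalization.map_under S R Q]
              exact (congrArg (Ideal.map (algebraMap A R)) h).trans
                (Localization.AtPrime.map_eq_maximalIdeal)
            rw [hmax]
            exact hrm y hy)
          obtain ⟨a, ha, h, hh⟩ := ih q' hlt j (by omega) g₁ hg₁
          refine ha (hQ.1 (show algebraMap A R a ∈ J from ?_))
          refine ⟨ι ∘ₗ h, LinearMap.ext fun x => ?_⟩
          rw [hδ, LinearMap.toSpanSingleton_apply, hsmul, LinearMap.comp_apply, LinearMap.smul_apply,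
            LinearMap.comp_apply, ← map_smul ι]
          exact congrArg ι (LinearMap.congr_fun hh x)
        obtain ⟨m, v, hv⟩ := hy'
        obtain ⟨w, hw⟩ := hunit (S.mul_mem u.2 s.2)
        refine ⟨m, (↑w⁻¹ : R) • v, ?_⟩
        rw [map_smul, hv, LinearMap.toSpanSingleton_apply]
        have h3 : ι ∘ₗ g₁ = algebraMap A R ((u : A) * s) • z := by
          rw [hsmul, mul_smul, show ι ∘ₗ g₁ = (u : A) • (ι ∘ₗ g₀) from LinearMap.comp_smul _ _ _, hgs]
          rfl
        rw [h3, ← hw, smul_smul, smul_smul]
        congr 1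
        rw [mul_comm (↑w⁻¹ : R), mul_assoc, Units.inv_mul, mul_one])
      q (by rw [hlen]; omega) (ι ∘ₗ g)
      (LinearMap.ext fun x => by
        rw [hδ, LinearMap.comp_apply, show g ((P.d (q - 1) q).hom x) = 0 from LinearMap.congr_fun hg x, map_zero]
        rfl)
    obtain ⟨v, hv⟩ := main
    obtain ⟨h₀, s, hs⟩ := hlift (q + 1) v
    haveI := hfin q
    obtain ⟨u, hu⟩ := Module.Finite.exists_smul_of_comp_eq_of_isLocalizedModule S ι
      (h₀ ∘ₗ (P.d q (q + 1)).hom) ((s : A) • g) (LinearMap.ext fun x => by
        have h1 := LinearMap.congr_fun hs ((P.d q (q + 1)).hom x)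
        have h2 : v ((P.d q (q + 1)).hom x) = ι (g x) := LinearMap.congr_fun hv x
        rw [LinearMap.comp_apply] at h1
        simp only [LinearMap.comp_apply, h1, LinearMap.smul_apply, map_smul]
        erw [LinearMap.smul_apply, h2]
        rfl)
    refine ⟨(u : A) * s, fun h => (p.isPrime.mem_or_mem h).elim u.2 s.2, (u : A) • h₀, ?_⟩
    rw [mul_smul]
    exact (LinearMap.smul_comp _ _ _).trans hu

end Dual

end Groth.Agent.FMKLib
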