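import Groth.Agent.FMKLib.DualBound
import Groth.Agent.PerfFibreLib.Model
import Groth.Agent.KFlatLib.QCohTerms
import Groth.Agent.QCohLib.Gen

/-!
# `RHom` out of a complex of free modules on an affine scheme, in one degree
-/

set_option autoImplicit false
set_option linter.style.haveILetI false
set_option backward.isDefEq.respectTransparency false
set_option backward.isDefEq.respectTransparency.types false
set_option maxHeartbeats 1000000
set_option synthInstance.maxHeartbeats 200000

universe u

open CategoryTheory CategoryTheory.Limits AlgebraicGeometry HomologicalComplex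
open Groth.Agent.DerLib Groth.Agent.PerfDualLib

attribute [local instance] HasDerivedCategory.standard

noncomputable section

namespace Groth.Agent.FMKLib

variable {X : Scheme.{u}}

/-- Maps into a module in one degree that factor through the differential are null. -/
theorem quotient_map_eq_zero_of_factor (E : CochainComplex X.Modules ℤ) (q : ℤ) (M : X.Modules)
    (f : E ⟶ (single X.Modules (ComplexShape.up ℤ) q).obj M)
    (g : E.X (q + 1) ⟶ ((single X.Modules (ComplexShape.up ℤ) q).obj M).X q)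
    (hg : E.d q (q + 1) ≫ g = f.f q) :
    (HomotopyCategory.quotient X.Modules (ComplexShape.up ℤ)).map f = 0 := by
  let S := (single X.Modules (ComplexShape.up ℤ) q).obj M
  let h : ∀ i j : ℤ, (ComplexShape.up ℤ).Rel j i → (E.X i ⟶ S.X j) := fun i j hji =>
    if hj : j = q then (E.XIsoOfEq (show i = q + 1 by subst hj; exact hji.symm)).hom ≫ g ≫
      (S.XIsoOfEq hj).inv else 0
  have key : f = Homotopy.nullHomotopicMap' h := by
    refine HomologicalComplex.hom_ext _ _ fun i => ?_
    by_cases hi : i = q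
    · subst hi
      rw [Homotopy.nullHomotopicMap'_f (k₂ := i - 1) (k₀ := i + 1) (by simp) (by simp)]
      simp only [h, dif_pos, XIsoOfEq_rfl, Iso.refl_hom, Iso.refl_inv, Category.id_comp,
        Category.comp_id, S, single_obj_d, comp_zero, add_zero]
      exact hg.symm
    · exact (isZero_single_obj_X (ComplexShape.up ℤ) q M i hi).eq_of_tgt _ _
  rw [key, HomotopyCategory.eq_of_homotopy _ 0 (Homotopy.nullHomotopy' h), Functor.map_zero]

/-- A quasi-coherent module on an affine spectrum without sections is zero. -/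
theorem isZero_of_hom_eq_zero_qcoh {R : CommRingCat.{u}} (M : (Spec R).Modules) [Coh.IsQCoh M]
    (h : ∀ f : Coh.structureModule (Spec R) ⟶ M, f = 0) : IsZero M := by
  haveI := KFlatLib.isIso_counit_of_qcoh M ‹_›
  have hs : ∀ z : Γ(M, ⊤), z = 0 := fun z => by
    have e : (QCohLib.unitHom M z).app ⊤ (1 : Γ(Spec R, ⊤)) = z := by
      rw [QCohLib.unitHom_app]
      simp
    rw [← e, h (QCohLib.unitHom M z)]
    rfl
  haveI : Subsingleton ((moduleSpecΓFunctor (R := R)).obj M) := ⟨fun a b => (hs a).trans (hs b).symm⟩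
  exact IsZero.of_iso ((tilde.functor R).map_isZero (ModuleCat.isZero_of_subsingleton _))
    (asIso ((tilde.adjunction (R := R)).counit.app M)).symm

/-- The cohomology of `RHom(M~, N~)` vanishes where the complex of homomorphisms is exact. -/
theorem isZero_HD_rSheafHom_tilde {A : CommRingCat.{u}} [IsNoetherianRing A]
    (M : CochainComplex (ModuleCat.{u} A) ℤ) (b : ℤ) (hb : ∀ i, b < i → Subsingleton (M.X i))
    (hfree : ∀ i, FlatMod.IsFinLocFree (((PerfFibreLib.tC A).obj M).X i))
    (N : ModuleCat.{u} A) (K : DCoh.D (Spec A))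
    [DCoh.HasLTensorCx ((PerfFibreLib.tC A).obj M)] [DCoh.HasRSheafHom ((PerfFibreLib.tC A).obj M)]
    (eK : K ≅ (DCoh.RSheafHom ((PerfFibreLib.tC A).obj M)).obj (DCoh.inD (Spec A) ((tilde.functor A).obj N)))
    (hKq : ∀ i, Coh.IsQCoh (DCoh.HD K i)) (a₀ b₀ : ℤ) [K.IsGE a₀] [K.IsLE b₀] (i q : ℤ) (hqi : q + i = 0)
    (hcyc : ∀ g : M.X q →ₗ[A] N, g ∘ₗ (M.d (q - 1) q).hom = 0 →
      ∃ h : M.X (q + 1) →ₗ[A] N, h ∘ₗ (M.d q (q + 1)).hom = g) :
    IsZero (DCoh.HD K i) := by
  let X := Spec A
  let E := (PerfFibreLib.tC A).obj M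
  have hb' : ∀ i : ℤ, b < i → IsZero (E.X i) := fun i hi =>
    haveI := hb i hi
    (tilde.functor A).map_isZero (ModuleCat.isZero_of_subsingleton _)
  let T := (tilde.functor A).obj N
  haveI hTq : Coh.IsQCoh T := inferInstance
  let eO := (DerivedCategory.singleFunctorIsoCompQ X.Modules 0).app (Coh.structureModule X)
  let W : CochainComplex X.Modules ℤ := (unitCx X)⟦(-i)⟧
  have hW : DCoh.IsKFlat W := Dual3Lib.isKFlat_shiftN (KFlatLib.isKFlat_of_isStrictlyPerfect (isStrictlyPerfect_unitCx X)) _
  obtain ⟨eT⟩ := KFlatLib.exists_lTensorCxObjIso E W hW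
  let eW : (DCoh.LTensorCx E).obj (DerivedCategory.Q.obj W) ≅ (DerivedCategory.Q.obj E)⟦(-i)⟧ :=
    eT ≪≫ DerivedCategory.Q.mapIso
      (CochainComplex.mapBifunctorShift₁Iso (unitCx X) E (DCoh.tensorBi (X := X)) (-i) ≪≫
        (shiftFunctor _ (-i)).mapIso (bX (unitCx X) E ≪≫ unitNat.app E)) ≪≫
      (DerivedCategory.Q.commShiftIso (-i)).app E
  have hE0 : ∀ ψ : DerivedCategory.Q.obj E ⟶ (DCoh.inD X T)⟦i⟧, ψ = 0 := fun ψ => by
    let e := ((DerivedCategory.singleFunctors X.Modules).shiftIso i q 0 (by omega)).app T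
    let e' := (DerivedCategory.singleFunctorIsoCompQ X.Modules q).app T
    haveI hF : ∀ j, Coh.IsQCoh (((single X.Modules (ComplexShape.up ℤ) q).obj T).X j) :=
      fun j => by
        by_cases hj : j = q
        · subst hj
          exact QCohLib.isQCoh_of_iso (singleObjXSelf (ComplexShape.up ℤ) j _).symm
        · exact KFlatLib.isQCoh_zero (isZero_single_obj_X _ _ _ _ hj)
    obtain ⟨g, hg⟩ := (Dual3Lib.bijective_Qh_of_locFree E _ b hb' hfree hF).2
      ((DerivedCategory.quotientCompQhIso X.Modules).hom.app E ≫ ψ ≫ e.hom ≫ e'.hom ≫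
        (DerivedCategory.quotientCompQhIso X.Modules).inv.app _)
    obtain ⟨g', rfl⟩ := (HomotopyCategory.quotient X.Modules (ComplexShape.up ℤ)).map_surjective g
    let s := singleObjXSelf (ComplexShape.up ℤ) q T
    obtain ⟨γ, hγ⟩ := (tilde.functor A).map_surjective (g'.f q ≫ s.hom)
    have hcy : γ.hom ∘ₗ (M.d (q - 1) q).hom = 0 := by
      have h0 : E.d (q - 1) q ≫ g'.f q ≫ s.hom = 0 := by
        rw [← g'.comm_assoc, single_obj_d, zero_comp, comp_zero]
      rw [← hγ] at h0
      have h1 : M.d (q - 1) q ≫ γ = 0 := by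
        refine (tilde.functor A).map_injective ?_
        rw [Functor.map_comp, Functor.map_zero]
        exact h0
      exact congrArg ModuleCat.Hom.hom h1
    obtain ⟨h, hh⟩ := hcyc γ.hom hcy
    rw [quotient_map_eq_zero_of_factor E q T g' ((tilde.functor A).map (ModuleCat.ofHom h) ≫ s.inv) (by
      rw [← Category.assoc]
      refine (congrArg (· ≫ s.inv) ((Functor.map_comp _ _ _).symm.trans
        ((congrArg (tilde.functor A).map (ModuleCat.hom_ext hh : M.d q (q + 1) ≫ ModuleCat.ofHom h = γ)).trans hγ))).trans ?_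
      rw [Category.assoc, Iso.hom_inv_id, Category.comp_id])] at hg
    simp only [Functor.map_zero] at hg
    rw [← cancel_epi ((DerivedCategory.quotientCompQhIso X.Modules).hom.app E), comp_zero,
      ← cancel_mono (e.hom ≫ e'.hom ≫ (DerivedCategory.quotientCompQhIso X.Modules).inv.app _), zero_comp,
      Category.assoc]
    exact hg.symm
  have hno : NoHom K i := fun φ => by
    let S := (shiftEquiv' (DCoh.D X) (-i) i (by omega)).toAdjunction
    let eW' : DerivedCategory.Q.obj W ≅ (oD X)⟦(-i)⟧ :=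
      (DerivedCategory.Q.commShiftIso (-i)).app (unitCx X) ≪≫ (shiftFunctor _ (-i)).mapIso eO.symm
    have hz : ∀ ρ : (oD X)⟦(-i)⟧ ⟶ K, ρ = 0 := fun ρ => by
      rw [← cancel_epi eW'.hom, ← cancel_mono eK.hom, comp_zero, zero_comp]
      refine ((DCoh.RSheafHomAdj E).homEquiv _ _).symm.injective ?_
      rw [← cancel_epi eW.inv]
      exact (S.homEquiv _ _).injective ((hE0 _).trans (hE0 _).symm)
    exact (S.homEquiv (oD X) K).symm.injective ((hz _).trans (hz _).symm)
  haveI := hKq i
  refine isZero_of_hom_eq_zero_qcoh _ ((noHom_iff_hom K a₀ b₀ i fun r p hp => ?_).1 hno)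
  haveI := hKq r
  exact QCohLib.subsingleton_HH_affine _ p hp

end Groth.Agent.FMKLib
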