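import Groth.Agent.FMKLib.Fibre
import Groth.Agent.FMKLib.Acyclic
import Groth.Agent.PerfFibreLib.Model
import Groth.Agent.SMTLib.CMQuot
import Groth.Agent.KFlatLib.TildeKFlat

/-!
# Affine models of a Fourier–Mukai transform, with their localizations and fibres
-/

set_option autoImplicit false
set_option linter.style.haveILetI false
set_option backward.isDefEq.respectTransparency false
set_option backward.isDefEq.respectTransparency.types false
set_option maxHeartbeats 1000000

universe u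

open CategoryTheory CategoryTheory.Limits AlgebraicGeometry HomologicalComplex

attribute [local instance] HasDerivedCategory.standard

noncomputable section

namespace Groth.Agent.FMKLib

section Alg

variable {A R : Type u} [CommRing A] [CommRing R] [Algebra A R] (p : Ideal A) [p.IsPrime]
  [IsLocalization.AtPrime R p]

/-- Extension of scalars of complexes. -/
abbrev extC (φ : A →+* R) (P : CochainComplex (ModuleCat.{u} A) ℤ) : CochainComplex (ModuleCat.{u} R) ℤ :=
  ((ModuleCat.extendScalars.{u, u, u} φ).mapHomologicalComplex (ComplexShape.up ℤ)).obj P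

/-- The map `m ↦ 1 ⊗ m`. -/
def oneTmul (M : ModuleCat.{u} A) : M →ₗ[A] TensorProduct A R M := TensorProduct.mk A R M 1

instance isLocalizedModule_oneTmul (M : ModuleCat.{u} A) :
    IsLocalizedModule p.primeCompl (oneTmul (R := R) M) :=
  (isLocalizedModule_iff_isBaseChange p.primeCompl R _).2 (TensorProduct.isBaseChange A M R)

theorem extEquiv_map_symm {M N : ModuleCat.{u} A} (g : M →ₗ[A] N) (x : TensorProduct A R M) :
    (ModuleCat.extendScalars (algebraMap A R)).map (ModuleCat.ofHom g) ((FlatCxLib.extEquiv M).symm x) =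
      (FlatCxLib.extEquiv N).symm (g.baseChange R x) := by
  apply (FlatCxLib.extEquiv N).injective
  rw [LinearEquiv.apply_symm_apply]
  refine (FlatCxLib.extEquiv_map (ModuleCat.ofHom g) _).trans ?_
  rw [LinearEquiv.apply_symm_apply]
  rfl

theorem contr_ext_of_locContr {P : CochainComplex (ModuleCat.{u} A) ℤ} {q : ℤ} (h : LocContr P p q) :
    Contr (extC (algebraMap A R) P) q := by
  obtain ⟨s, hs, r, t, hrt⟩ := h
  obtain ⟨w, hw⟩ := IsLocalization.map_units R (⟨s, hs⟩ : p.primeCompl)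
  let E := ModuleCat.extendScalars.{u, u, u} (algebraMap A R)
  refine ⟨(↑w⁻¹ : R) • E.map (ModuleCat.ofHom r), (↑w⁻¹ : R) • E.map (ModuleCat.ofHom t), ?_⟩
  refine ModuleCat.hom_ext (LinearMap.ext fun x => ?_)
  obtain ⟨x, rfl⟩ := (FlatCxLib.extEquiv (B := R) (P.X q)).symm.surjective x
  show E.map (P.d (q - 1) q) ((↑w⁻¹ : R) • E.map (ModuleCat.ofHom r) ((FlatCxLib.extEquiv (P.X q)).symm x)) +
    (↑w⁻¹ : R) • E.map (ModuleCat.ofHom t) (E.map (P.d q (q + 1)) ((FlatCxLib.extEquiv (P.X q)).symm x)) =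
      (FlatCxLib.extEquiv (P.X q)).symm x
  have hd : ∀ a b (y : TensorProduct A R (P.X a)), E.map (P.d a b) ((FlatCxLib.extEquiv (P.X a)).symm y) =
      (FlatCxLib.extEquiv (P.X b)).symm ((P.d a b).hom.baseChange R y) := fun a b y =>
    extEquiv_map_symm (P.d a b).hom y
  rw [map_smul, extEquiv_map_symm r, hd, hd, extEquiv_map_symm t, ← smul_add, ← map_add, ← map_smul]
  congr 1
  induction x using TensorProduct.induction_on with
  | zero => simp
  | tmul c m =>
    rw [LinearMap.baseChange_tmul, LinearMap.baseChange_tmul, LinearMap.baseChange_tmul,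
      LinearMap.baseChange_tmul, ← TensorProduct.tmul_add, hrt, TensorProduct.tmul_smul,
      ← IsScalarTower.algebraMap_smul R s (c ⊗ₜ[A] m), ← hw, smul_smul, Units.inv_mul, one_smul]
  | add a b ha hb =>
    simp only [map_add, smul_add] at ha hb ⊢
    refine Eq.trans ?_ (congrArg₂ (· + ·) ha hb)
    abel

theorem locContr_of_contr_ext {P : CochainComplex (ModuleCat.{u} A) ℤ}
    (hfin : ∀ i, Module.Finite A (P.X i)) (hproj : ∀ i, Module.Projective A (P.X i)) {q : ℤ}
    (h : Contr (extC (algebraMap A R) P) q) : LocContr P p q := by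
  obtain ⟨σ, τ, hst⟩ := h
  haveI : ∀ i, Module.FinitePresentation A (P.X i) := fun i =>
    haveI := hfin i
    haveI := hproj i
    Module.finitePresentation_of_projective A _
  let E := ModuleCat.extendScalars.{u, u, u} (algebraMap A R)
  let σ' : TensorProduct A R (P.X q) →ₗ[R] TensorProduct A R (P.X (q - 1)) :=
    (FlatCxLib.extEquiv _).toLinearMap ∘ₗ σ.hom ∘ₗ (FlatCxLib.extEquiv _).symm.toLinearMap
  let τ' : TensorProduct A R (P.X (q + 1)) →ₗ[R] TensorProduct A R (P.X q) :=
    (FlatCxLib.extEquiv _).toLinearMap ∘ₗ τ.hom ∘ₗ (FlatCxLib.extEquiv _).symm.toLinearMap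
  have key : ∀ y, (P.d (q - 1) q).hom.baseChange R (σ' y) + τ' ((P.d q (q + 1)).hom.baseChange R y) = y := by
    intro y
    have h1 := congrArg (fun f => (FlatCxLib.extEquiv (B := R) (P.X q))
      (f ((FlatCxLib.extEquiv (B := R) (P.X q)).symm y))) hst
    refine Eq.trans ?_ (h1.trans ((FlatCxLib.extEquiv (B := R) (P.X q)).apply_symm_apply y))
    refine Eq.trans ?_ (map_add (FlatCxLib.extEquiv (B := R) (P.X q))
      (E.map (P.d (q - 1) q) (σ ((FlatCxLib.extEquiv (B := R) (P.X q)).symm y)))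
      (τ (E.map (P.d q (q + 1)) ((FlatCxLib.extEquiv (B := R) (P.X q)).symm y)))).symm
    refine congrArg₂ (· + ·) (FlatCxLib.extEquiv_map (B := R) (P.d (q - 1) q) _).symm ?_
    show (FlatCxLib.extEquiv _) (τ ((FlatCxLib.extEquiv _).symm ((P.d q (q + 1)).hom.baseChange R y))) = _
    rw [← extEquiv_map_symm (P.d q (q + 1)).hom y]
    rfl
  obtain ⟨r, s₁, hr⟩ := Module.FinitePresentation.exists_lift_of_isLocalizedModule p.primeCompl
    (oneTmul (R := R) (P.X (q - 1))) (σ'.restrictScalars A ∘ₗ oneTmul (P.X q))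
  obtain ⟨t, s₂, ht⟩ := Module.FinitePresentation.exists_lift_of_isLocalizedModule p.primeCompl
    (oneTmul (R := R) (P.X q)) (τ'.restrictScalars A ∘ₗ oneTmul (P.X (q + 1)))
  haveI := hfin q
  obtain ⟨u, hu⟩ := Module.Finite.exists_smul_of_comp_eq_of_isLocalizedModule p.primeCompl
    (oneTmul (R := R) (P.X q))
    ((s₂ : A) • ((P.d (q - 1) q).hom ∘ₗ r) + (s₁ : A) • (t ∘ₗ (P.d q (q + 1)).hom))
    (((s₁ : A) * s₂) • LinearMap.id) (LinearMap.ext fun m => by
      have e₁ : oneTmul (R := R) (P.X (q - 1)) (r m) = (s₁ : A) • σ' (1 ⊗ₜ[A] m) := LinearMap.congr_fun hr m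
      have e₂ : oneTmul (R := R) (P.X q) (t ((P.d q (q + 1)).hom m)) =
          (s₂ : A) • τ' (1 ⊗ₜ[A] (P.d q (q + 1)).hom m) := LinearMap.congr_fun ht _
      have e₃ : oneTmul (R := R) (P.X q) ((P.d (q - 1) q).hom (r m)) =
          (P.d (q - 1) q).hom.baseChange R (oneTmul (R := R) (P.X (q - 1)) (r m)) := rfl
      have e₄ := key (1 ⊗ₜ[A] m)
      rw [LinearMap.baseChange_tmul] at e₄
      simp only [LinearMap.comp_apply, LinearMap.add_apply, LinearMap.smul_apply, LinearMap.id_apply, map_add,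
        map_smul, e₂, e₃, e₁]
      rw [LinearMap.map_smul_of_tower, smul_smul, smul_smul, mul_comm (s₂ : A) s₁, ← smul_add, e₄]
      rfl)
  refine ⟨(u : A) * (s₁ * s₂), fun h => (Ideal.IsPrime.mem_or_mem ‹_› h).elim u.2
    fun h => (Ideal.IsPrime.mem_or_mem ‹_› h).elim s₁.2 s₂.2, ((u : A) * s₂) • r, ((u : A) * s₁) • t, fun x => ?_⟩
  have h1 : (u : A) • ((s₂ : A) • (P.d (q - 1) q).hom (r x) + (s₁ : A) • t ((P.d q (q + 1)).hom x)) =
      (u : A) • ((s₁ : A) * s₂) • x := LinearMap.congr_fun hu x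
  rw [LinearMap.smul_apply, LinearMap.smul_apply, map_smul, mul_smul, mul_smul, ← smul_add, h1, smul_smul]

theorem locExact_of_exactAt_ext {P : CochainComplex (ModuleCat.{u} A) ℤ} {q : ℤ}
    (h : (extC (algebraMap A R) P).ExactAt q) : LocExact P p q := by
  intro z hz
  let E := ModuleCat.extendScalars.{u, u, u} (algebraMap A R)
  rw [exactAt_iff' _ (q - 1) q (q + 1) (by simp) (by simp), ShortComplex.moduleCat_exact_iff] at h
  obtain ⟨y, hy⟩ := h ((FlatCxLib.extEquiv (B := R) (P.X q)).symm (oneTmul (P.X q) z)) (by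
    refine (extEquiv_map_symm (P.d q (q + 1)).hom _).trans ?_
    rw [show (P.d q (q + 1)).hom.baseChange R (oneTmul (R := R) (P.X q) z) =
      oneTmul (R := R) (P.X (q + 1)) ((P.d q (q + 1)).hom z) from rfl, hz, map_zero, map_zero])
  obtain ⟨⟨v, s⟩, hv⟩ := IsLocalizedModule.surj p.primeCompl (oneTmul (R := R) (P.X (q - 1)))
    (FlatCxLib.extEquiv (B := R) (P.X (q - 1)) y)
  have h2 : (P.d (q - 1) q).hom.baseChange R (FlatCxLib.extEquiv (B := R) (P.X (q - 1)) y) =
      oneTmul (P.X q) z := by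
    refine (FlatCxLib.extEquiv_map (B := R) (P.d (q - 1) q) y).symm.trans ?_
    exact (congrArg (FlatCxLib.extEquiv (B := R) (P.X q)) hy).trans (LinearEquiv.apply_symm_apply _ _)
  have h3 : oneTmul (R := R) (P.X q) ((P.d (q - 1) q).hom v) = oneTmul (P.X q) ((s : A) • z) := by
    have hv' : oneTmul (R := R) (P.X (q - 1)) v =
        (s : A) • FlatCxLib.extEquiv (B := R) (P.X (q - 1)) y := hv.symm
    rw [show oneTmul (R := R) (P.X q) ((P.d (q - 1) q).hom v) =
      (P.d (q - 1) q).hom.baseChange R (oneTmul (R := R) (P.X (q - 1)) v) from rfl, hv',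
      LinearMap.map_smul_of_tower, h2, map_smul]
  obtain ⟨c, hc⟩ := IsLocalizedModule.exists_of_eq (S := p.primeCompl) (f := oneTmul (R := R) (P.X q)) h3
  refine ⟨(c : A) * s, fun h => (Ideal.IsPrime.mem_or_mem ‹_› h).elim c.2 s.2, (c : A) • v, ?_⟩
  rw [map_smul, mul_smul]
  exact hc

theorem projective_ext (M : ModuleCat.{u} A) (hf : Module.Finite A M) (hp : Module.Projective A M) :
    Module.Finite R ((ModuleCat.extendScalars.{u, u, u} (algebraMap A R)).obj M) ∧
      Projective ((ModuleCat.extendScalars.{u, u, u} (algebraMap A R)).obj M) := by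
  haveI := hf
  haveI := hp
  haveI hpt : Module.Projective R (TensorProduct A R M) := inferInstance
  haveI hft : Module.Finite R (TensorProduct A R M) := inferInstance
  let e := (FlatCxLib.extEquiv (B := R) M).symm
  refine ⟨Module.Finite.equiv e, ?_⟩
  refine Projective.of_iso e.toModuleIso ?_
  exact (IsProjective.iff_projective _).1 hpt

end Alg

section Geom

variable {Y : Scheme.{u}}

/-- Localizations and fibres of an affine model. -/
theorem affine_model_spec [IsLocallyNoetherian Y] (Φ : DCoh.D Y) {A : CommRingCat.{u}} (j : Spec A ⟶ Y)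
    [IsOpenImmersion j] (M : CochainComplex (ModuleCat.{u} A) ℤ) (r : ℤ → ℕ) (a b : ℤ)
    (hr : ∀ i, i < a ∨ b < i → r i = 0) (hM : ∀ i, Nonempty (M.X i ≃ₗ[A] (Fin (r i) → A)))
    (α : DerivedCategory.Q.obj ((PerfFibreLib.tC A).obj M) ≅ (PerfLib.resD j).obj Φ) (p : PrimeSpectrum A)
    (q : ℤ) :
    (¬ LocExact M p.asIdeal q → j p ∈ CohB1.support (DCoh.HD Φ q)) ∧
    ∀ [DCoh.HasLpull (Y.fromSpecResidueField (j p))],
      IsZero (DCoh.HD ((DCoh.Lpull (Y.fromSpecResidueField (j p))).obj Φ) q) ↔ LocContr M p.asIdeal q := by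
  letI alg : Algebra A ((Spec A).presheaf.stalk p) := StructureSheaf.stalkAlgebra A p
  haveI : IsLocalization.AtPrime ((Spec A).presheaf.stalk p) p.asIdeal :=
    StructureSheaf.IsLocalization.to_stalk A p
  haveI hfin : ∀ i, Module.Finite A (M.X i) := fun i => Module.Finite.equiv (hM i).some.symm
  haveI hproj : ∀ i, Module.Projective A (M.X i) := fun i => Module.Projective.of_equiv (hM i).some.symm
  let E := (PerfFibreLib.tC A).obj M
  have hk : DCoh.IsKFlat E := KFlatLib.isKFlat_tilde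
    (PerfFibreLib.isKFlat_free M r b (fun i hi => hr i (Or.inr hi)) hM)
  let φ := algebraMap A ((Spec A).presheaf.stalk p)
  let θ : (KFlatLib.stalkCx (Spec A) p).obj E ≅ extC φ M :=
    HomologicalComplex.Hom.isoOfComponents (fun n => (KFlatLib.stalkTildeIso p).app (M.X n))
      (fun m n _ => ((KFlatLib.stalkTildeIso p).hom.naturality (M.d m n)).symm)
  refine ⟨fun hne hsupp => hne (locExact_of_exactAt_ext (R := (Spec A).presheaf.stalk p) p.asIdeal ?_), ?_⟩
  · refine ExactAt.of_iso ?_ θ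
    rw [exactAt_iff_isZero_homology]
    refine IsZero.of_iso ?_ (KFlatLib.stalkHomologyIso E p q ≪≫ (DerSch.stalkFunctor (Spec A) p).mapIso
      (((DerivedCategory.homologyFunctorFactors (Spec A).Modules q).app E).symm ≪≫
        (DerivedCategory.homologyFunctor _ q).mapIso α ≪≫ DCohRestrLib.restrictHDIso j Φ q))
    rw [FpqcPCLib.isZero_stalk_res_iff]
    exact @ModuleCat.isZero_of_subsingleton _ _ _ hsupp
  intro _
  let ι := Y.fromSpecResidueField (j p)
  have hr' : Set.range ι ⊆ Set.range j := by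
    rintro _ ⟨z, rfl⟩
    exact ⟨p, (PerfFibreLib.fromSpecResidueField_apply' (j p) z).symm⟩
  let l := IsOpenImmersion.lift j ι hr'
  have hl : l ≫ j = ι := IsOpenImmersion.lift_fac _ _ _
  haveI := KFlatLib.hasLpull l
  haveI := KFlatLib.hasLpull j
  haveI := KFlatLib.hasLpull (l ≫ j)
  obtain ⟨c⟩ := KFlatLib.lpull_comp l j
  obtain ⟨c'⟩ := PerfFibreLib.nonempty_lpull_congr hl Φ
  obtain ⟨c''⟩ := PerfFibreLib.nonempty_lpull_res j Φ
  let C := (KFlatLib.pullCx l).obj E
  let e₁ : DCoh.HD ((DCoh.Lpull ι).obj Φ) q ≅ C.homology q :=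
    (DerivedCategory.homologyFunctor _ q).mapIso (c'.symm ≪≫ (c.app Φ).symm ≪≫
      (DCoh.Lpull l).mapIso (c'' ≪≫ α.symm) ≪≫ KFlatLib.lpullObjIso l E hk) ≪≫
    (DerivedCategory.homologyFunctorFactors _ q).app C
  have hlz : ∀ z, l z = p := fun z => j.isOpenEmbedding.injective
    ((congrArg (fun m : Spec (Y.residueField (j p)) ⟶ Y => m z) hl).trans
      (PerfFibreLib.fromSpecResidueField_apply' (j p) z))
  haveI : SurjectiveOnStalks (l ≫ j) := by rw [hl]; infer_instance
  haveI : SurjectiveOnStalks l := SurjectiveOnStalks.of_comp l j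
  have hS : ∀ i, Module.Finite ((Spec A).presheaf.stalk p) ((extC φ M).X i) ∧ Projective ((extC φ M).X i) :=
    fun i => projective_ext (M.X i) (hfin i) (hproj i)
  have hS' : ∀ i, Module.Finite ((Spec A).presheaf.stalk p) (((KFlatLib.stalkCx (Spec A) p).obj E).X i) ∧
      Projective (((KFlatLib.stalkCx (Spec A) p).obj E).X i) := fun i =>
    haveI := (hS i).1
    ⟨Module.Finite.equiv (HomologicalComplex.Hom.isoApp θ i).symm.toLinearEquiv,
      Projective.of_iso (HomologicalComplex.Hom.isoApp θ i).symm (hS i).2⟩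
  have key : ∀ z : Spec (Y.residueField (j p)),
      IsZero (((KFlatLib.stalkCx _ z).obj C).homology q) ↔ LocContr M p.asIdeal q := fun z => by
    rw [← exactAt_iff_isZero_homology]
    have hfld : IsField ((Spec (Y.residueField (j p))).presheaf.stalk z) := CMFlatLib.isField_stalk z
    letI := hfld.toField
    refine Iff.trans ?_ (⟨locContr_of_contr_ext (R := (Spec A).presheaf.stalk p) p.asIdeal hfin hproj,
      contr_ext_of_locContr (R := (Spec A).presheaf.stalk p) p.asIdeal⟩ : Contr (extC φ M) q ↔ _)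
    refine Iff.trans ?_ (contr_iff_of_iso θ q)
    have hv : ∀ w : Spec A, w = p → (Contr ((KFlatLib.stalkCx (Spec A) w).obj E) q ↔
        Contr ((KFlatLib.stalkCx (Spec A) p).obj E) q) := fun w hw => by rw [hw]
    have hv' : ∀ w : Spec A, w = p → ∀ i, Module.Finite ((Spec A).presheaf.stalk w)
        (((KFlatLib.stalkCx (Spec A) w).obj E).X i) ∧ Projective (((KFlatLib.stalkCx (Spec A) w).obj E).X i) :=
      fun w hw => by subst hw; exact hS'
    refine Iff.trans ?_ (hv _ (hlz z))
    refine Iff.trans ⟨fun h => h.of_iso (KFlatLib.stalkPullCxIso l z E),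
      fun h => h.of_iso (KFlatLib.stalkPullCxIso l z E).symm⟩ ?_
    exact fib_exactAt_iff_contr _ (l.stalkMap_surjective z) _ (fun i => (hv' _ (hlz z) i).1)
      (fun i => (hv' _ (hlz z) i).2) q
  refine Iff.trans ⟨fun h => h.of_iso e₁.symm, fun h => h.of_iso e₁⟩ ?_
  rw [KFlatLib.isZero_homology_iff]
  exact ⟨fun h => (key (IsLocalRing.closedPoint (Y.residueField (j p)))).1 (h _), fun h z => (key z).2 h⟩

/-- The dimensions of the local rings of a model. -/
def stalkRingEquiv {A : CommRingCat.{u}} (j : Spec A ⟶ Y) [IsOpenImmersion j] (p : PrimeSpectrum A) :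
    Y.presheaf.stalk (j p) ≃+* Localization.AtPrime p.asIdeal :=
  letI : Algebra A ((Spec A).presheaf.stalk p) := StructureSheaf.stalkAlgebra A p
  haveI : IsLocalization.AtPrime ((Spec A).presheaf.stalk p) p.asIdeal :=
    StructureSheaf.IsLocalization.to_stalk A p
  (asIso (j.stalkMap p)).commRingCatIsoToRingEquiv.trans
    (IsLocalization.algEquiv p.asIdeal.primeCompl ((Spec A).presheaf.stalk p)
      (Localization.AtPrime p.asIdeal)).toRingEquiv

theorem hasSeq_localization [IsLocallyNoetherian Y]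
    (hcm : ∀ y : Y, LocCoh.IsCohenMacaulayLocalRing ↑(Y.presheaf.stalk y)) {A : CommRingCat.{u}}
    (j : Spec A ⟶ Y) [IsOpenImmersion j] (p : Ideal A) [hp : p.IsPrime] (n : ℕ)
    (hn : (n : WithBot ℕ∞) ≤ ringKrullDim (Localization.AtPrime p)) :
    InvLib.HasSeq (Localization.AtPrime p) (LocalizedModule p.primeCompl A) n := by
  haveI := hcm (j ⟨p, hp⟩)
  haveI : LocCoh.IsCohenMacaulayLocalRing (Localization.AtPrime p) :=
    SMTLib.isCohenMacaulayLocalRing_of_ringEquiv (stalkRingEquiv j ⟨p, hp⟩)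
  have h := LocCoh.IsCohenMacaulayLocalRing.supportDim_eq_depth (R := Localization.AtPrime p)
  rw [Module.supportDim_self_eq_ringKrullDim] at h
  rw [h] at hn
  have hn' : (n : ℕ∞) ≤ LocCoh.depth (Localization.AtPrime p) (Localization.AtPrime p) :=
    WithBot.coe_le_coe.1 hn
  exact InvLib.hasSeq_of_le_depth hn'

end Geom

section GVAlg

variable {A : Type u} [CommRing A] [IsNoetherianRing A] {P : CochainComplex (ModuleCat.{u} A) ℤ}

/-- The contraction of a complex with small cohomology propagates upwards. -/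
theorem locContr_succ (hfin : ∀ i, Module.Finite A (P.X i)) (hproj : ∀ i, Module.Projective A (P.X i))
    (b : ℤ) (hb : ∀ i, b < i → Subsingleton (P.X i)) (k' : ℕ)
    (hN : ∀ (p : Ideal A) [p.IsPrime] (n : ℕ), (n : WithBot ℕ∞) ≤ ringKrullDim (Localization.AtPrime p) →
      InvLib.HasSeq (Localization.AtPrime p) (LocalizedModule p.primeCompl A) n)
    (hH : ∀ (p : Ideal A) [p.IsPrime] (q : ℕ), ¬ LocExact P p (q : ℤ) →
      ((q - k' : ℕ) : WithBot ℕ∞) ≤ ringKrullDim (Localization.AtPrime p))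
    (p : Ideal A) (i : ℤ) (hi : (k' : ℤ) ≤ i) (h : LocContr P p i) : LocContr P p (i + 1) := by
  obtain ⟨s, hs, r, t, hrt⟩ := h
  let e : P.X (i + 1) →ₗ[A] P.X (i + 1) := s • LinearMap.id - (P.d i (i + 1)).hom ∘ₗ t
  have he : ∀ x, e ((P.d i (i + 1)).hom x) = 0 := fun x => by
    have h1 := congrArg (P.d i (i + 1)).hom (hrt x)
    rw [map_add, d_d, zero_add, map_smul] at h1
    simp [e, h1]
  haveI := hfin (i + 1)
  haveI := hproj (i + 1)
  obtain ⟨c, f, g', -, -, hfg⟩ := Module.Finite.exists_comp_eq_id_of_projective A (P.X (i + 1))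
  have he' : ∀ (k : ℤ), k = i → ∀ x : P.X k, e ((P.d k (i + 1)).hom x) = 0 := fun k hk => by subst hk; exact he
  choose t' ht' using fun j : Fin c => dual_exact_of_depth hfin hproj b hb A k' hN hH (i + 1) (by omega)
    (LinearMap.proj j ∘ₗ g' ∘ₗ e) (LinearMap.ext fun x => by
      simp only [LinearMap.comp_apply, he' (i + 1 - 1) (by omega) x, map_zero]
      rfl)
  have key : ∀ k (hk : k = i), ∃ (r : P.X (i + 1) →ₗ[A] P.X k) (u : P.X (i + 1 + 1) →ₗ[A] P.X (i + 1)),
      ∀ x, (P.d k (i + 1)).hom (r x) + u ((P.d (i + 1) (i + 1 + 1)).hom x) = s • x := by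
    rintro k rfl
    refine ⟨t, f ∘ₗ LinearMap.pi t', fun x => ?_⟩
    have h1 : LinearMap.pi t' ((P.d (k + 1) (k + 1 + 1)).hom x) = g' (e x) :=
      funext fun j => LinearMap.congr_fun (ht' j) x
    rw [LinearMap.comp_apply, h1, show f (g' (e x)) = e x from LinearMap.congr_fun hfg _]
    simp [e]
  obtain ⟨r', u, hru⟩ := key (i + 1 - 1) (by omega)
  exact ⟨s, hs, r', u, hru⟩

end GVAlg

section PhiModel

/-- An affine model of the transform near a point, with its localizations and fibres. -/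
theorem exists_phi_affine (k : Type u) [Field k] {X Y : Scheme.{u}} (a : X ⟶ Spec (CommRingCat.of k))
    (b : Y ⟶ Spec (CommRingCat.of k)) [IsProper a] [LocallyOfFiniteType b]
    (P : CochainComplex (pullback a b).Modules ℤ) (hP : DCoh.IsPerfect (DCoh.toD (pullback a b) P))
    [DCoh.HasLpull (pullback.fst a b)] [DCoh.HasLTensorCx P] [DCoh.HasRpush (pullback.snd a b)]
    (E : DCoh.D X) (hE : DCoh.IsPerfect E) (k' : ℕ)
    (hGV : ∀ (i : ℕ) (y : ↥Y), y ∈ CohB1.support (DCoh.HD ((FMK.phi a b P).obj E) (i : ℤ)) →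
      ((i - k' : ℕ) : WithBot ℕ∞) ≤ ringKrullDim ↑(Y.presheaf.stalk y)) (y : Y) :
    ∃ (A : CommRingCat.{u}) (_ : IsNoetherianRing A) (j : Spec A ⟶ Y) (_ : IsOpenImmersion j)
      (p : PrimeSpectrum A) (M : CochainComplex (ModuleCat.{u} A) ℤ) (r : ℤ → ℕ) (c d : ℤ)
      (_ : DerivedCategory.Q.obj ((PerfFibreLib.tC A).obj M) ≅ (PerfLib.resD j).obj ((FMK.phi a b P).obj E)),
      j p = y ∧ (∀ i, i < c ∨ d < i → r i = 0) ∧ (∀ i, Nonempty (M.X i ≃ₗ[A] (Fin (r i) → A))) ∧
      (∀ i, d < i → Subsingleton (M.X i)) ∧ (∀ i, Module.Finite A (M.X i)) ∧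
      (∀ i, Module.Projective A (M.X i)) ∧
      (∀ (P' : Ideal A) [P'.IsPrime] (q : ℕ), ¬ LocExact M P' (q : ℤ) →
        ((q - k' : ℕ) : WithBot ℕ∞) ≤ ringKrullDim (Localization.AtPrime P')) := by
  haveI : IsLocallyNoetherian Y := LocallyOfFiniteType.isLocallyNoetherian b
  obtain ⟨A, j, hj, p, M, r, c, d, α, hp, hr, hM⟩ :=
    PerfFibreLib.exists_model_perfect (isPerfect_phi k a b P hP E hE) y
  haveI : IsLocallyNoetherian (Spec A) := isLocallyNoetherian_of_isOpenImmersion j
  refine ⟨A, isLocallyNoetherian_Spec.1 inferInstance, j, hj, p, M, r, c, d, α, hp, hr, hM, fun i hi => ?_,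
    fun i => Module.Finite.equiv (hM i).some.symm, fun i => Module.Projective.of_equiv (hM i).some.symm,
    fun P' hP' q hne => ?_⟩
  · haveI : IsEmpty (Fin (r i)) := by rw [hr i (Or.inr hi)]; infer_instance
    exact (hM i).some.injective.subsingleton
  · have h := hGV q (j ⟨P', hP'⟩) ((affine_model_spec _ j M r c d hr hM α ⟨P', hP'⟩ (q : ℤ)).1 hne)
    rwa [ringKrullDim_eq_of_ringEquiv (stalkRingEquiv j ⟨P', hP'⟩)] at h

end PhiModel

end Groth.Agent.FMKLib
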