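import Groth.Agent.FMKLib.Twist
import Groth.Agent.CurvLib.SupportVanish
import Groth.Agent.DCohRestrLib.Support
import Mathlib.AlgebraicGeometry.Properties
import Mathlib.Topology.Sober

/-!
# Vanishing of cohomology above the dimension of a possibly non-closed support
-/

set_option autoImplicit false
set_option linter.style.haveILetI false
set_option backward.isDefEq.respectTransparency false
set_option backward.isDefEq.respectTransparency.types false
set_option maxHeartbeats 1000000

universe u

open CategoryTheory CategoryTheory.Limits AlgebraicGeometry TopologicalSpace Opposite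

attribute [local instance] HasDerivedCategory.standard

namespace Groth.Agent.FMKLib

variable {X : Scheme.{u}}

theorem quasiSober_toTopCat : @QuasiSober X.toTopCat _ := (inferInstance : QuasiSober X)

theorem t0Space_toTopCat : @T0Space X.toTopCat _ := (inferInstance : T0Space X)

attribute [local instance] quasiSober_toTopCat t0Space_toTopCat

/-- A module all of whose points of the support have closure of dimension `≤ d` has dimension `< d + 1`. -/
theorem dimLT_of_height (M : X.Modules) (d : ℕ)
    (h : ∀ y ∈ CohB1.support M, Order.height (irreducibleSetEquivPoints.symm y) ≤ (d : ℕ∞)) :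
    CohTopLib.DimLT ((QCohLib.toAbF X).obj M) (d + 1) := by
  intro Z hZ U hU s
  let η : X := irreducibleSetEquivPoints Z
  have hηU : η ∈ U := by
    obtain ⟨x, hxU, hxZ⟩ := hU
    refine (Z.isIrreducible.isGenericPoint_genericPoint Z.isClosed).specializes hxZ |>.mem_open U.isOpen hxU
  have hη : η ∉ CohB1.support M := fun hη => by
    have h1 := h η hη
    rw [OrderIso.symm_apply_apply] at h1
    have h2 := hZ.trans h1
    exact absurd (Nat.cast_le.mp h2) (by omega)
  haveI : Subsingleton (M.presheaf.stalk η) := not_not.mp hη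
  let G : TopCat.Presheaf.{u, u, u+1} AddCommGrpCat.{u} X.toTopCat := ((QCohLib.toAbF X).obj M).obj
  haveI : Subsingleton ((TopCat.Presheaf.stalk G η : AddCommGrpCat.{u}) : Type u) := ‹Subsingleton (M.presheaf.stalk η)›
  obtain ⟨W, hηW, iU, iV, hW⟩ := TopCat.Presheaf.germ_eq G η hηU hηU s 0 (Subsingleton.elim _ _)
  refine ⟨W, iU, ⟨η, hηW, ?_⟩, hW.trans (map_zero _)⟩
  exact (Z.isIrreducible.isGenericPoint_genericPoint Z.isClosed).mem

theorem subsingleton_HH_of_height [NoetherianSpace X] (M : X.Modules) (d : ℕ)
    (h : ∀ y ∈ CohB1.support M, Order.height (irreducibleSetEquivPoints.symm y) ≤ (d : ℕ∞))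
    (p : ℕ) (hp : d < p) : Subsingleton (Coh.HH X M p) :=
  haveI : NoetherianSpace X.toTopCat := ‹_›
  (QCohLib.subsingleton_H_iff _ p).mpr
    (CohTopLib.subsingleton_HU_of_dimLT (d + 1) _ (dimLT_of_height M d h) ⊤ p hp)

/-- `dim closure {y} + codim y ≤ dim X`. -/
theorem height_add_le (g : ℕ) (hg : topologicalKrullDim X ≤ (g : WithBot ℕ∞)) (y : X) (c : ℕ)
    (hc : (c : WithBot ℕ∞) ≤ ringKrullDim (X.presheaf.stalk y)) :
    Order.height (irreducibleSetEquivPoints.symm y) + (c : ℕ∞) ≤ (g : ℕ∞) := by
  haveI : Nonempty (IrreducibleCloseds X) := ⟨irreducibleSetEquivPoints.symm y⟩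
  have h1 : topologicalKrullDim X = Order.krullDim (IrreducibleCloseds X) := rfl
  rw [h1, Order.krullDim_eq_iSup_height_add_coheight_of_nonempty] at hg
  have h2 : (c : ℕ∞) ≤ Order.coheight (irreducibleSetEquivPoints.symm y) := by
    rw [Order.coheight_orderIso]
    rw [AlgebraicGeometry.ringKrullDim_stalk_eq_coheight] at hc
    exact WithBot.coe_le_coe.mp hc
  refine le_trans (add_le_add le_rfl h2) ?_
  refine le_trans ?_ (WithBot.coe_le_coe.mp hg)
  exact le_iSup (fun a : IrreducibleCloseds X => Order.height a + Order.coheight a)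
    (irreducibleSetEquivPoints.symm y)

/-- A finite locally free module in degree zero is perfect. -/
theorem isPerfect_oneCx (N : X.Modules) (hN : FlatMod.IsFinLocFree N) :
    DCoh.IsPerfect (DCoh.toD X (oneCx N)) := by
  have hsp : DCoh.IsStrictlyPerfect (oneCx N) :=
    ⟨⟨0, 0, fun i hi => HomologicalComplex.isZero_single_obj_X _ _ _ _ (by omega)⟩, fun i => by
      by_cases hi : i = 0
      · subst hi
        exact PerfLib.isFinLocFree_of_iso
          (HomologicalComplex.singleObjXSelf (ComplexShape.up ℤ) 0 N).symm hN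
      · exact KFlatLib.isFinLocFree_of_isFinFree
          (KFlatLib.isFinFree_of_isZero (HomologicalComplex.isZero_single_obj_X _ _ _ _ hi))⟩
  exact fun _ => ⟨⊤, trivial, fun F ⟨e⟩ => ⟨_, PerfLib.isStrictlyPerfect_res (⊤ : X.Opens).ι hsp,
    ⟨(PerfLib.resDQIso _ F).symm ≪≫ (PerfLib.resD _).mapIso e ≪≫ PerfLib.resDQIso _ _⟩⟩⟩

end Groth.Agent.FMKLib
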