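import Groth.Agent.S16375
import Groth.Agent.S1002
import Groth.Agent.S0051
import Groth.Agent.S2325
import Groth.Agent.FMKLib.Supp
import Groth.Agent.AmpleDevLib.Devissage
import Groth.Agent.MiscFlat6.AmpleSep
import Groth.Agent.KFlatLib.PerfectPull
import Groth.Agent.KFlatLib.FreeModel

/-!
# Fourier–Mukai cohomology sheaves detected by hypercohomology against high powers of an ample module
-/

set_option autoImplicit false
set_option linter.style.haveILetI false
set_option backward.isDefEq.respectTransparency false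
set_option backward.isDefEq.respectTransparency.types false
set_option maxHeartbeats 1000000

universe u

open CategoryTheory CategoryTheory.Limits AlgebraicGeometry

attribute [local instance] HasDerivedCategory.standard

namespace Groth.Agent.FMKLib

/-- The Fourier–Mukai transform of a perfect object along a perfect kernel, into a Noetherian base. -/
theorem isPerfect_phi (k : Type u) [Field k] {X Y : Scheme.{u}} (a : X ⟶ Spec (CommRingCat.of k))
    (b : Y ⟶ Spec (CommRingCat.of k)) [IsProper a] [LocallyOfFiniteType b]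
    (P : CochainComplex (pullback a b).Modules ℤ) (hP : DCoh.IsPerfect (DCoh.toD (pullback a b) P))
    [DCoh.HasLpull (pullback.fst a b)] [DCoh.HasLTensorCx P] [DCoh.HasRpush (pullback.snd a b)]
    (E : DCoh.D X) (hE : DCoh.IsPerfect E) : DCoh.IsPerfect ((FMK.phi a b P).obj E) := by
  haveI : IsLocallyNoetherian Y := LocallyOfFiniteType.isLocallyNoetherian b
  haveI : IsLocallyNoetherian X := LocallyOfFiniteType.isLocallyNoetherian a
  haveI : IsProper (pullback.snd a b) := MorphismProperty.pullback_snd a b inferInstance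
  haveI : Flat (pullback.snd a b) := inferInstance
  haveI : LocallyOfFinitePresentation a := inferInstance
  haveI : LocallyOfFinitePresentation (pullback.snd a b) := inferInstance
  let P₀ := (KFlatLib.resP (pullback a b)).obj P
  haveI : QuasiIso ((KFlatLib.resψ (pullback a b)).app P) := KFlatLib.quasiIso_resψ P
  haveI := KFlatLib.hasLTensorCx P₀
  let eP : DCoh.toD _ P₀ ≅ DCoh.toD _ P :=
    asIso (DerivedCategory.Q.map ((KFlatLib.resψ (pullback a b)).app P))
  obtain ⟨c⟩ := ProjFormLib.nonempty_lTensor_congr_iso eP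
  exact S1002.result (pullback.snd a b) _ (PerfLib.isPerfect_of_iso (c.app _)
    (KFlatLib.isPerfect_lTensor P₀ (KFlatLib.good_resP P).1 (PerfLib.isPerfect_of_iso eP.symm hP) _
      (KFlatLib.isPerfect_lpull (pullback.fst a b) E hE)))

theorem eq_zero_of_gg {Y : Scheme.{u}} {G : Y.Modules} (hG : Curv2.IsGloballyGenerated G)
    (h : ∀ f : Coh.structureModule Y ⟶ G, f = 0) : IsZero G := by
  obtain ⟨ι, p, hp⟩ := hG
  haveI := hp
  exact IsZero.of_epi_eq_zero p (Cofan.IsColimit.hom_ext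
    (SheafOfModules.isColimitFreeCofan (R := Y.ringCatSheaf) ι) _ _ fun i =>
      (h _).trans comp_zero.symm)

/-- `R^iΦ(F) = 0` iff `H^i(X, Ψ(L^n) ⊗ F) = 0`, uniformly in `i`, for large `n`. -/
theorem exists_bound_hyper (k : Type u) [Field k] [IsAlgClosed k]
    (X Y : Scheme.{u}) (a : X ⟶ Spec (CommRingCat.of k)) (b : Y ⟶ Spec (CommRingCat.of k)) [IsProper a] [IsProper b]
    (P : CochainComplex (pullback a b).Modules ℤ) (hP : DCoh.IsPerfect (DCoh.toD (pullback a b) P))
    [DCoh.HasLpull (pullback.fst a b)] [DCoh.HasLpull (pullback.snd a b)] [DCoh.HasLTensorCx P]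
    [DCoh.HasRpush (pullback.fst a b)] [DCoh.HasRpush (pullback.snd a b)] [DCoh.HasRΓ X]
    (L : Y.Modules) (hL : CohB1.IsAmple L)
    (F : CochainComplex X.Modules ℤ) (hF : DCoh.IsPerfect (DCoh.toD X F)) [DCoh.HasLTensorCx F] :
    ∃ n₀ : ℕ, ∀ n : ℕ, n₀ ≤ n → ∀ i : ℤ,
      (IsZero (DCoh.HD ((FMK.phi a b P).obj (DCoh.toD X F)) i) ↔
        IsZero ((DerivedCategory.homologyFunctor AddCommGrpCat.{u} i).obj ((DCoh.RΓ X).obj
          ((DCoh.LTensorCx F).obj ((DCoh.Lpull (pullback.snd a b) ⋙ DCoh.LTensorCx P ⋙ DCoh.Rpush (pullback.fst a b)).obj (DCoh.inD Y (CohB1.tensorPow L n))))))) := by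
  haveI : IsLocallyNoetherian Y := LocallyOfFiniteType.isLocallyNoetherian b
  haveI : CompactSpace Y := hL.2.1
  haveI : IsNoetherian Y := ⟨⟩
  haveI : Y.IsSeparated := MiscFlat6.isSeparated_of_isAmple hL
  haveI := DCohRestrLib.hasRΓ Y
  let Φ := (FMK.phi a b P).obj (DCoh.toD X F)
  obtain ⟨hcoh, c, d, hc, hd⟩ := PerfLib.isCohD_and_bounded_of_isPerfect (isPerfect_phi k a b P hP _ hF)
  haveI : Φ.IsGE c := hc
  haveI : Φ.IsLE d := hd
  choose N₁ hN₁ using fun q : ℤ => (S0051.result k Y b L hL.1).1 hL (DCoh.HD Φ q) (hcoh q)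
  choose N₂ hN₂ using fun q : ℤ => S2325.result Y L hL (DCoh.HD Φ q) (hcoh q)
  refine ⟨(Finset.Icc c d).sup fun q => max (N₁ q) (N₂ q), fun n hn i => ?_⟩
  let Ln := CohB1.tensorPow L n
  have hLn : PicF.IsInvertible Ln := AmpleThLib.tensorPow_isInvertible hL.1 n
  haveI := KFlatLib.hasLTensorCx (oneCx Ln)
  let T := (DCoh.LTensorCx (oneCx Ln)).obj Φ
  have eT : ∀ q : ℤ, Nonempty (DCoh.HD T q ≅ CohB1.tensorMod (DCoh.HD Φ q) Ln) := fun q =>
    nonempty_HD_twist Ln hLn Φ q
  haveI := KoszOrthLib.isEquivalence_tensorRightMod hLn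
  have hz : ∀ q : ℤ, IsZero (DCoh.HD Φ q) → IsZero (DCoh.HD T q) := fun q hq => by
    obtain ⟨e⟩ := eT q
    exact ((DCoh.tensorRightMod Ln).map_isZero hq).of_iso e
  have hout : ∀ q : ℤ, q ∉ Finset.Icc c d → IsZero (DCoh.HD Φ q) := fun q hq => by
    rw [Finset.mem_Icc, not_and_or] at hq
    rcases hq with hq | hq
    · exact DerivedCategory.isZero_of_isGE Φ c q (by omega)
    · exact DerivedCategory.isZero_of_isLE Φ d q (by omega)
  haveI : T.IsGE c := (DerivedCategory.isGE_iff T c).2 fun q hq =>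
    hz q (DerivedCategory.isZero_of_isGE Φ c q hq)
  haveI : T.IsLE d := (DerivedCategory.isLE_iff T d).2 fun q hq =>
    hz q (DerivedCategory.isZero_of_isLE Φ d q hq)
  have hbd : ∀ q ∈ Finset.Icc c d, N₁ q ≤ n ∧ N₂ q ≤ n := fun q hq =>
    max_le_iff.mp ((Finset.le_sup (f := fun q => max (N₁ q) (N₂ q)) hq).trans hn)
  have hvan : ∀ (q : ℤ) (p : ℕ), 0 < p → Subsingleton (Coh.HH Y (DCoh.HD T q) p) := fun q p hp => by
    by_cases hq : q ∈ Finset.Icc c d
    · obtain ⟨e⟩ := eT q
      exact SerreVanLib.subsingleton_HH_of_iso e _ (hN₁ q n (hbd q hq).1 p hp)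
    · exact AVIndexLib.subsingleton_HH_isZero (hz q (hout q hq)) _
  have hP₀ : DCoh.IsPerfect (DCoh.toD Y (oneCx Ln)) :=
    isPerfect_oneCx Ln (AmpleDevLib.isFinLocFree_of_isInvertible hLn)
  obtain ⟨e⟩ := S16375.result k X Y a b P F hF (oneCx Ln) hP₀
  have key : IsZero ((DerivedCategory.homologyFunctor AddCommGrpCat.{u} i).obj ((DCoh.RΓ X).obj
      ((DCoh.LTensorCx F).obj ((DCoh.Lpull (pullback.snd a b) ⋙ DCoh.LTensorCx P ⋙ DCoh.Rpush (pullback.fst a b)).obj (DCoh.inD Y Ln))))) ↔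
      NoHom T i := by
    rw [← isZero_RΓ_iff]
    exact ((DerivedCategory.homologyFunctor AddCommGrpCat.{u} i).mapIso
      ((DCoh.RΓ X).mapIso ((DCoh.LTensorCx F).mapIso ((DCoh.Lpull (pullback.snd a b) ⋙ DCoh.LTensorCx P ⋙
        DCoh.Rpush (pullback.fst a b)).mapIso (oneCxIso Ln).symm)) ≪≫ e)).isZero_iff
  rw [key, noHom_iff_hom T c d i hvan]
  refine ⟨fun hi f => (hz i hi).eq_of_tgt _ _, fun h => ?_⟩
  by_cases hi : i ∈ Finset.Icc c d
  · obtain ⟨e'⟩ := eT i
    have h' : IsZero ((DCoh.tensorRightMod Ln).obj (DCoh.HD Φ i)) :=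
      eq_zero_of_gg (hN₂ i n (hbd i hi).2) fun f => by
        rw [← cancel_mono e'.inv, zero_comp]
        exact h _
    exact IsZero.of_iso ((DCoh.tensorRightMod Ln).inv.map_isZero h')
      ((DCoh.tensorRightMod Ln).asEquivalence.unitIso.app _)
  · exact hout i hi

end Groth.Agent.FMKLib
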