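import Groth.Agent.FMKLib.Split
import Groth.Agent.FMKLib.Hyper
import Groth.Agent.S6515
import Groth.Agent.PerfDualLib.PseudoC
import Groth.Agent.RelFlatLib.SpreadPerfect
import Groth.Agent.Dual3Lib.AffQh
import Groth.Agent.Dual3Lib.Detect
import Groth.Agent.Dual3Lib.TwistBij
import Groth.Agent.DualFMLib.FlatHom.PC
import Groth.Agent.DualCxLib.Chart2
import Groth.Agent.MiscFlat6.FreeStalks
import Groth.Agent.QCohLib.Vanishing
import Groth.Agent.BidualSchLib.Exists
import Mathlib.AlgebraicGeometry.Properties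

/-!
# The cohomology of the dual of a perfect complex with bounded cohomology
-/

set_option autoImplicit false
set_option linter.style.haveILetI false
set_option backward.isDefEq.respectTransparency false
set_option backward.isDefEq.respectTransparency.types false
set_option maxHeartbeats 1000000

universe u

open CategoryTheory CategoryTheory.Limits AlgebraicGeometry HomologicalComplex
open Groth.Agent.DerLib Groth.Agent.PerfDualLib

attribute [local instance] HasDerivedCategory.standard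

noncomputable section

namespace Groth.Agent.FMKLib

variable {X : Scheme.{u}}

/-- `K` is the dual of `E`. -/
def IsDualOf (E : CochainComplex X.Modules ℤ) (K : DCoh.D X) : Prop :=
  ∀ [DCoh.HasLTensorCx E] [DCoh.HasRSheafHom E],
    Nonempty (K ≅ (DCoh.RSheafHom E).obj (oD X))

theorem IsDualOf.congr {E E' : CochainComplex X.Modules ℤ} {K : DCoh.D X} (h : IsDualOf E K)
    (e : DerivedCategory.Q.obj E ≅ DerivedCategory.Q.obj E') : IsDualOf E' K := by
  intro _ _
  haveI := KFlatLib.hasLTensorCx E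
  haveI := BidualSchLib.hasRSheafHom E
  obtain ⟨a⟩ := h
  obtain ⟨J, hJ, ⟨eJ⟩⟩ := KInjUse.exists_iso_Q_kInjective (oD X)
  haveI := hJ
  obtain ⟨g₁⟩ := nonempty_rSheafHom_iso E J eJ.symm
  obtain ⟨g₂⟩ := nonempty_iG_congr e J
  obtain ⟨g₃⟩ := nonempty_rSheafHom_iso E' J eJ.symm
  exact ⟨a ≪≫ g₁ ≪≫ g₂ ≪≫ g₃.symm⟩

theorem IsDualOf.restrict {E : CochainComplex X.Modules ℤ} {K : DCoh.D X} (h : IsDualOf E K)
    (U : X.Opens) : IsDualOf ((DCoh.restrictCx U).obj E) ((DCoh.restrictD U.ι).obj K) := by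
  intro _ _
  haveI := KFlatLib.hasLTensorCx E
  haveI := BidualSchLib.hasRSheafHom E
  haveI : PreservesFiniteLimits (Scheme.Modules.restrictFunctor U.ι) := inferInstance
  obtain ⟨a⟩ := h
  obtain ⟨b⟩ := S6515.result U E (oD X)
  exact ⟨(DCoh.restrictD U.ι).mapIso a ≪≫ b ≪≫
    (DCoh.RSheafHom _).mapIso (DualCxLib.restrictInDUnit U.ι)⟩

/-- Maps into a module in one degree out of a complex split there are null. -/
theorem quotient_map_eq_zero_of_contraction (E : CochainComplex X.Modules ℤ) (q : ℤ)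
    (s : E.X q ⟶ E.X (q - 1)) (t : E.X (q + 1) ⟶ E.X q)
    (hst : s ≫ E.d (q - 1) q + E.d q (q + 1) ≫ t = 𝟙 (E.X q)) (M : X.Modules)
    (f : E ⟶ (single X.Modules (ComplexShape.up ℤ) q).obj M) :
    (HomotopyCategory.quotient X.Modules (ComplexShape.up ℤ)).map f = 0 := by
  let S := (single X.Modules (ComplexShape.up ℤ) q).obj M
  let h : ∀ i j : ℤ, (ComplexShape.up ℤ).Rel j i → (E.X i ⟶ S.X j) := fun i j hji =>
    if hj : j = q then (E.XIsoOfEq (show i = q + 1 by subst hj; exact hji.symm)).hom ≫ t ≫ f.f q ≫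
      (S.XIsoOfEq hj).inv else 0
  have key : f = Homotopy.nullHomotopicMap' h := by
    refine HomologicalComplex.hom_ext _ _ fun i => ?_
    by_cases hi : i = q
    · subst hi
      rw [Homotopy.nullHomotopicMap'_f (k₂ := i - 1) (k₀ := i + 1) (by simp) (by simp)]
      have h0 : E.d (i - 1) i ≫ f.f i = 0 := by
        rw [← f.comm, single_obj_d, comp_zero]
      simp only [h, dif_pos, XIsoOfEq_rfl, Iso.refl_hom, Iso.refl_inv, Category.id_comp,
        Category.comp_id, S, single_obj_d, comp_zero, add_zero]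
      conv_lhs => rw [← Category.id_comp (f.f i), ← hst]
      rw [Preadditive.add_comp, Category.assoc, h0, comp_zero, zero_add, Category.assoc]
    · exact (isZero_single_obj_X (ComplexShape.up ℤ) q M i hi).eq_of_tgt _ _
  rw [key, HomotopyCategory.eq_of_homotopy _ 0 (Homotopy.nullHomotopy' h), Functor.map_zero]

/-- A coherent module on an affine scheme without sections is zero. -/
theorem isZero_of_hom_eq_zero [IsAffine X] (M : X.Modules) (hM : Coh.IsCoh M)
    (h : ∀ f : Coh.structureModule X ⟶ M, f = 0) : IsZero M := by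
  obtain ⟨k, p, hp⟩ := DualFMLib.exists_epi_free_affine M hM
  haveI := hp
  exact IsZero.of_epi_eq_zero p (Sigma.hom_ext _ _ fun j => (h _).trans comp_zero.symm)

/-- On an affine scheme: a splitting of `E` in degree `-i` kills `H^i` of the dual. -/
theorem isZero_HD_of_contraction [IsAffine X] [IsLocallyNoetherian X] (E : CochainComplex X.Modules ℤ) (b : ℤ)
    (hb : ∀ i : ℤ, b < i → IsZero (E.X i)) (hE : ∀ i : ℤ, FlatMod.IsFinLocFree (E.X i))
    (K : DCoh.D X) (hK : IsDualOf E K) (hKc : DCoh.IsCohD K) (a₀ b₀ : ℤ) [K.IsGE a₀] [K.IsLE b₀]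
    (i q : ℤ) (hq : q + i = 0) (s : E.X q ⟶ E.X (q - 1)) (t : E.X (q + 1) ⟶ E.X q)
    (hst : s ≫ E.d (q - 1) q + E.d q (q + 1) ≫ t = 𝟙 (E.X q)) : IsZero (DCoh.HD K i) := by
  haveI := KFlatLib.hasLTensorCx E
  haveI := BidualSchLib.hasRSheafHom E
  obtain ⟨eK⟩ := hK
  let eO := (DerivedCategory.singleFunctorIsoCompQ X.Modules 0).app (Coh.structureModule X)
  let W : CochainComplex X.Modules ℤ := (unitCx X)⟦(-i)⟧
  have hW : DCoh.IsKFlat W := Dual3Lib.isKFlat_shiftN (KFlatLib.isKFlat_of_isStrictlyPerfect (isStrictlyPerfect_unitCx X)) _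
  obtain ⟨eT⟩ := KFlatLib.exists_lTensorCxObjIso E W hW
  let eW : (DCoh.LTensorCx E).obj (DerivedCategory.Q.obj W) ≅ (DerivedCategory.Q.obj E)⟦(-i)⟧ :=
    eT ≪≫ DerivedCategory.Q.mapIso
      (CochainComplex.mapBifunctorShift₁Iso (unitCx X) E (DCoh.tensorBi (X := X)) (-i) ≪≫
        (shiftFunctor _ (-i)).mapIso (bX (unitCx X) E ≪≫ unitNat.app E)) ≪≫
      (DerivedCategory.Q.commShiftIso (-i)).app E
  -- maps `E ⟶ O⟦i⟧` vanish
  have hE0 : ∀ ψ : DerivedCategory.Q.obj E ⟶ (oD X)⟦i⟧, ψ = 0 := fun ψ => by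
    let e := ((DerivedCategory.singleFunctors X.Modules).shiftIso i q 0 (by omega)).app (Coh.structureModule X)
    let e' := (DerivedCategory.singleFunctorIsoCompQ X.Modules q).app (Coh.structureModule X)
    haveI hF : ∀ j, Coh.IsQCoh (((single X.Modules (ComplexShape.up ℤ) q).obj (Coh.structureModule X)).X j) :=
      fun j => by
        by_cases hj : j = q
        · subst hj
          haveI : Coh.IsQCoh (Coh.structureModule X) := QCohLib.isQCoh_unit
          exact QCohLib.isQCoh_of_iso (singleObjXSelf (ComplexShape.up ℤ) j _).symm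
        · exact KFlatLib.isQCoh_zero (isZero_single_obj_X _ _ _ _ hj)
    obtain ⟨g, hg⟩ := (Dual3Lib.bijective_Qh_of_locFree E _ b hb hE hF).2
      ((DerivedCategory.quotientCompQhIso X.Modules).hom.app E ≫ ψ ≫ e.hom ≫ e'.hom ≫
        (DerivedCategory.quotientCompQhIso X.Modules).inv.app _)
    obtain ⟨g', rfl⟩ := (HomotopyCategory.quotient X.Modules (ComplexShape.up ℤ)).map_surjective g
    rw [quotient_map_eq_zero_of_contraction E q s t hst _ g'] at hg
    simp only [Functor.map_zero] at hg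
    rw [← cancel_epi ((DerivedCategory.quotientCompQhIso X.Modules).hom.app E), comp_zero,
      ← cancel_mono (e.hom ≫ e'.hom ≫ (DerivedCategory.quotientCompQhIso X.Modules).inv.app _), zero_comp,
      Category.assoc]
    exact hg.symm
  have hno : NoHom K i := fun φ => by
    let A := (shiftEquiv' (DCoh.D X) (-i) i (by omega)).toAdjunction
    let eW' : DerivedCategory.Q.obj W ≅ (oD X)⟦(-i)⟧ :=
      (DerivedCategory.Q.commShiftIso (-i)).app (unitCx X) ≪≫ (shiftFunctor _ (-i)).mapIso eO.symm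
    have hz : ∀ ρ : (oD X)⟦(-i)⟧ ⟶ K, ρ = 0 := fun ρ => by
      rw [← cancel_epi eW'.hom, ← cancel_mono eK.hom, comp_zero, zero_comp]
      refine ((DCoh.RSheafHomAdj E).homEquiv _ _).symm.injective ?_
      rw [← cancel_epi eW.inv]
      exact (A.homEquiv _ _).injective ((hE0 _).trans (hE0 _).symm)
    exact (A.homEquiv (oD X) K).symm.injective ((hz _).trans (hz _).symm)
  refine isZero_of_hom_eq_zero _ (hKc i) ((noHom_iff_hom K a₀ b₀ i fun q p hp => ?_).1 hno)
  haveI := (hKc q).1
  exact QCohLib.subsingleton_HH_affine _ p hp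

end Groth.Agent.FMKLib
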