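import Groth.Agent.DualCxLib.DepthApps
import Groth.Agent.DualCxLib.S2
import Groth.Agent.DerLib.Devissage
import Groth.Agent.InvLib.Depth

/-!
# A dualizing complex in one degree is a maximal Cohen-Macaulay module
-/

set_option autoImplicit false
set_option linter.style.haveILetI false
set_option backward.isDefEq.respectTransparency false
set_option backward.isDefEq.respectTransparency.types false

universe u

open CategoryTheory CategoryTheory.Limits
open Groth.Agent DTen
open DTenLib.Point (hH sg)
open Groth.Agent.DualCxLib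

attribute [local instance] HasDerivedCategory.standard

noncomputable section

namespace Groth.Agent.FMKLib

variable {A : Type u} [CommRing A] [IsNoetherianRing A] {ω : Dual.D A}

/-- The module of a dualizing complex in one degree has depth the dimension at every prime. -/
theorem le_depth_of_single (hω : Dual.IsDualizing A ω) (n : ℤ)
    (hs : ∀ i : ℤ, i ≠ n → Subsingleton (Dual.HD A ω i)) (p : PrimeSpectrum A) (m : ℕ)
    (hm : (m : WithBot ℕ∞) ≤ ringKrullDim (Localization.AtPrime p.asIdeal)) :
    (m : ℕ∞) ≤ LocCoh.depth (Localization.AtPrime p.asIdeal)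
      (LocalizedModule p.asIdeal.primeCompl (Dual.HD A ω n)) := by
  haveI := hω.finite_cohomology n
  have hn : ∀ q, n ≤ deg hω q := fun q => by
    obtain ⟨q₀, -, hle, hmin, hne⟩ := exists_min_deg hω q A (mem_support_ring q)
    refine le_trans (le_of_eq ?_) (hmin q (mem_support_ring q) le_rfl)
    by_contra h
    exact hne (@van_of_subsingleton A _ q.asIdeal _ _ _ _
      ((extHL ω _).toEquiv.subsingleton_congr.2 (hs _ (Ne.symm h))))
  have hm' : (m : ℤ) ≤ (deg hω p - n).toNat := by
    have h := hm.trans (ringKrullDim_localized_le hω n hn p)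
    exact_mod_cast h
  refine (le_depth_iff_van hω p m _).2 fun δ hδ => ?_
  haveI : ω.IsGE n := (DerivedCategory.isGE_iff ω n).2 fun i hi =>
    @ModuleCat.isZero_of_subsingleton _ _ _ (hs i (by omega))
  haveI : ω.IsLE n := (DerivedCategory.isLE_iff ω n).2 fun i hi =>
    @ModuleCat.isZero_of_subsingleton _ _ _ (hs i (by omega))
  obtain ⟨e⟩ := DerLib.Devissage.nonempty_iso_single ω n
  let W := ModuleCat.of A (Dual.HD A ω n)
  let e' : ω⟦n⟧ ≅ sg W 0 := (shiftFunctor _ n).mapIso e ≪≫
    ((DerivedCategory.singleFunctors (ModuleCat.{u} A)).shiftIso n 0 n (by omega)).app W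
  have hsub : Subsingleton (Ext ω W (deg hω p - δ)) := ⟨fun f g => by
    haveI := hω.ext_self_subsingleton (deg hω p - δ - n) (by omega)
    let a : (ω⟦deg hω p - δ - n⟧)⟦n⟧ ≅ ω⟦deg hω p - δ⟧ :=
      ((shiftFunctorAdd' _ (deg hω p - δ - n) n (deg hω p - δ) (by omega)).app ω).symm
    rw [← cancel_epi e'.hom, ← cancel_mono a.inv]
    obtain ⟨f', hf⟩ := (shiftFunctor (Dual.D A) n).map_surjective ((e'.hom ≫ f) ≫ a.inv)
    obtain ⟨g', hg⟩ := (shiftFunctor (Dual.D A) n).map_surjective ((e'.hom ≫ g) ≫ a.inv)
    rw [← hf, ← hg, Subsingleton.elim f' g']⟩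
  exact @van_of_subsingleton A _ p.asIdeal _ _ _ _ hsub

theorem hasSeq_of_single (hω : Dual.IsDualizing A ω) (n : ℤ)
    (hs : ∀ i : ℤ, i ≠ n → Subsingleton (Dual.HD A ω i)) (p : Ideal A) [p.IsPrime] (m : ℕ)
    (hm : (m : WithBot ℕ∞) ≤ ringKrullDim (Localization.AtPrime p)) :
    InvLib.HasSeq (Localization.AtPrime p) (LocalizedModule p.primeCompl (Dual.HD A ω n)) m := by
  haveI := hω.finite_cohomology n
  haveI : Module.Finite (Localization.AtPrime p) (LocalizedModule p.primeCompl (Dual.HD A ω n)) :=
    Module.Finite.of_isLocalizedModule p.primeCompl (LocalizedModule.mkLinearMap p.primeCompl _)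
  exact InvLib.hasSeq_of_le_depth (le_depth_of_single hω n hs ⟨p, inferInstance⟩ m hm)

end Groth.Agent.FMKLib
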