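import Groth.Agent.FMKLib.PullDual
import Groth.Agent.DualFMLib.Twist.Adj
import Groth.Agent.Dual3Lib.PushHom
import Groth.Agent.Dual3Lib.Detect
import Groth.Agent.Dual3Lib.TwistBij
import Groth.Agent.BidualSchLib.Exists
import Groth.Agent.S1002

/-!
# The dual of an integral transform
-/

set_option autoImplicit false
set_option linter.style.haveILetI false
set_option backward.isDefEq.respectTransparency false
set_option backward.isDefEq.respectTransparency.types false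
set_option maxHeartbeats 2000000
set_option synthInstance.maxHeartbeats 400000

universe u

open CategoryTheory CategoryTheory.Limits AlgebraicGeometry HomologicalComplex
open Groth.Agent.DerLib Groth.Agent.PerfDualLib

attribute [local instance] HasDerivedCategory.standard

noncomputable section

namespace Groth.Agent.FMKLib

variable {X : Scheme.{u}}

/-- `RHom` is invariant under isomorphism of the first argument. -/
theorem nonempty_rSheafHom_congr {K K' : Cx X}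
    (e : DerivedCategory.Q.obj K ≅ DerivedCategory.Q.obj K')
    [DCoh.HasLTensorCx K] [DCoh.HasRSheafHom K] [DCoh.HasLTensorCx K'] [DCoh.HasRSheafHom K']
    (L : DCoh.D X) : Nonempty ((DCoh.RSheafHom K).obj L ≅ (DCoh.RSheafHom K').obj L) := by
  obtain ⟨J, hJ, ⟨eJ⟩⟩ := KInjUse.exists_iso_Q_kInjective L
  haveI := hJ
  obtain ⟨g₁⟩ := nonempty_rSheafHom_iso K J eJ.symm
  obtain ⟨g₂⟩ := nonempty_iG_congr e J
  obtain ⟨g₃⟩ := nonempty_rSheafHom_iso K' J eJ.symm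
  exact ⟨g₁ ≪≫ g₂ ≪≫ g₃.symm⟩

/-- `- ⊗ E` commutes with shifts. -/
theorem nonempty_lTensor_shift (E : Cx X) [DCoh.HasLTensorCx E] (M : DCoh.D X) (n : ℤ) :
    Nonempty ((DCoh.LTensorCx E).obj (M⟦n⟧) ≅ ((DCoh.LTensorCx E).obj M)⟦n⟧) := by
  obtain ⟨P, hP, ⟨eP⟩⟩ := exists_kFlat_model M
  obtain ⟨e₁⟩ := KFlatLib.exists_lTensorCxObjIso E (P⟦n⟧) (Dual3Lib.isKFlat_shiftN hP n)
  obtain ⟨e₂⟩ := KFlatLib.exists_lTensorCxObjIso E P hP
  exact ⟨(DCoh.LTensorCx E).mapIso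
      (((shiftFunctor _ n).mapIso eP).symm ≪≫ ((DerivedCategory.Q.commShiftIso n).app P).symm) ≪≫
    e₁ ≪≫ DerivedCategory.Q.mapIso
      (CochainComplex.mapBifunctorShift₁Iso P E (DCoh.tensorBi (X := X)) n) ≪≫
    (DerivedCategory.Q.commShiftIso n).app _ ≪≫ (shiftFunctor _ n).mapIso (e₂.symm ≪≫ (DCoh.LTensorCx E).mapIso eP)⟩

/-- A K-flat dual of a perfect complex. -/
theorem exists_dual_model (K : Cx X) (hK : DCoh.IsPerfect (DerivedCategory.Q.obj K))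
    [DCoh.HasLTensorCx K] [DCoh.HasRSheafHom K] :
    ∃ (D : Cx X) (_ : DCoh.HasLTensorCx D) (_ : DCoh.IsKFlat D)
      (_ : DerivedCategory.Q.obj D ≅ (DCoh.RSheafHom K).obj (DerivedCategory.Q.obj (unitCx X))),
      ∀ M : DCoh.D X, Nonempty ((DCoh.LTensorCx D).obj M ≅ (DCoh.RSheafHom K).obj M) := by
  obtain ⟨D, hD, ⟨eD⟩⟩ := exists_kFlat_model ((DCoh.RSheafHom K).obj (DerivedCategory.Q.obj (unitCx X)))
  haveI := KFlatLib.hasLTensorCx D
  exact ⟨D, inferInstance, hD, eD, fun M => nonempty_lTensor_dual K hK D eD M⟩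

/-- `RHom(K, M⟦n⟧) ≅ RHom(K, M)⟦n⟧` for perfect `K`. -/
theorem nonempty_rSheafHom_shift (K : Cx X) (hK : DCoh.IsPerfect (DerivedCategory.Q.obj K))
    [DCoh.HasLTensorCx K] [DCoh.HasRSheafHom K] (M : DCoh.D X) (n : ℤ) :
    Nonempty ((DCoh.RSheafHom K).obj (M⟦n⟧) ≅ ((DCoh.RSheafHom K).obj M)⟦n⟧) := by
  obtain ⟨D, hD, -, -, h⟩ := exists_dual_model K hK
  obtain ⟨h₁⟩ := h (M⟦n⟧)
  obtain ⟨h₂⟩ := h M
  obtain ⟨h₃⟩ := nonempty_lTensor_shift D M n
  exact ⟨h₁.symm ≪≫ h₃ ≪≫ (shiftFunctor _ n).mapIso h₂⟩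

/-- `RHom(Φ_P E, O) ≅ Φ_{P^∨}(RHom(E, a^×O))`. -/
theorem nonempty_dual_phi {S X Y : Scheme.{u}} [IsNoetherian S] (a : X ⟶ S) (b : Y ⟶ S)
    [IsProper a] [Flat a] [IsProper b] [Flat b]
    [DCoh.HasRpush a] (ha : DCoh.RpushPreservesQCoh a)
    (adx : DCoh.DQCoh S ⥤ DCoh.DQCoh X) (adj : DCoh.RpushQ a ha ⊣ adx)
    (O : DCoh.DQCoh S) (hO : O.obj ≅ DCoh.inD S (Coh.structureModule S))
    (P : Cx (pullback a b)) (hP : DCoh.IsPerfect (DerivedCategory.Q.obj P))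
    [DCoh.HasLpull (pullback.fst a b)] [DCoh.HasLTensorCx P] [DCoh.HasRSheafHom P]
    [DCoh.HasRpush (pullback.snd a b)]
    (P' : Cx (pullback a b)) [DCoh.HasLTensorCx P']
    (eP' : DerivedCategory.Q.obj P' ≅
      (DCoh.RSheafHom P).obj (DCoh.inD (pullback a b) (Coh.structureModule (pullback a b))))
    (E : Cx X) (hE : DCoh.IsPerfect (DerivedCategory.Q.obj E)) [DCoh.HasLTensorCx E] [DCoh.HasRSheafHom E]
    (K : Cx Y) [DCoh.HasLTensorCx K] [DCoh.HasRSheafHom K]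
    (eK : DerivedCategory.Q.obj K ≅ (FMK.phi a b P).obj (DerivedCategory.Q.obj E)) :
    Nonempty ((DCoh.RSheafHom K).obj (DCoh.inD Y (Coh.structureModule Y)) ≅
      (FMK.phi a b P').obj ((DCoh.RSheafHom E).obj (adx.obj O).obj)) := by
  haveI : IsLocallyNoetherian X := LocallyOfFiniteType.isLocallyNoetherian a
  haveI : CompactSpace X := QuasiCompact.compactSpace_of_compactSpace a
  haveI : IsNoetherian X := ⟨⟩
  haveI : IsLocallyNoetherian Y := LocallyOfFiniteType.isLocallyNoetherian b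
  haveI : CompactSpace Y := QuasiCompact.compactSpace_of_compactSpace b
  haveI : IsNoetherian Y := ⟨⟩
  let p := pullback.fst a b
  let q := pullback.snd a b
  haveI : IsProper q := MorphismProperty.pullback_snd (P := @IsProper) a b inferInstance
  haveI : IsProper p := MorphismProperty.pullback_fst (P := @IsProper) a b inferInstance
  haveI : Flat q := MorphismProperty.pullback_snd (P := @Flat) a b inferInstance
  haveI : Flat p := MorphismProperty.pullback_fst (P := @Flat) a b inferInstance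
  haveI : IsLocallyNoetherian (pullback a b) := LocallyOfFiniteType.isLocallyNoetherian q
  haveI : CompactSpace (pullback a b : Scheme.{u}) := QuasiCompact.compactSpace_of_compactSpace q
  haveI : IsNoetherian (pullback a b) := ⟨⟩
  have hq : DCoh.RpushPreservesQCoh q := fun E hE => QRlimLib.isQCohD_rpush q hE
  haveI : LocallyOfFinitePresentation q := by infer_instance
  -- flat models
  obtain ⟨E₀, hE₀, ⟨eE⟩⟩ := DualFMLib.exists_flat_rep (DerivedCategory.Q.obj E)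
  obtain ⟨P₀, hP₀, ⟨eP⟩⟩ := DualFMLib.exists_flat_rep (DerivedCategory.Q.obj P)
  haveI := KFlatLib.hasLTensorCx E₀
  haveI := BidualSchLib.hasRSheafHom E₀
  haveI := KFlatLib.hasLTensorCx P₀
  haveI := BidualSchLib.hasRSheafHom P₀
  have hE₀p : DCoh.IsPerfect (DerivedCategory.Q.obj E₀) := PerfLib.isPerfect_of_iso eE.symm hE
  have hP₀p : DCoh.IsPerfect (DerivedCategory.Q.obj P₀) := PerfLib.isPerfect_of_iso eP.symm hP
  let E₁ := (ProjFormLib.pullC p).obj E₀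
  have hE₁ : DCoh.IsKFlat E₁ := KFlatLib.isKFlat_pull p hE₀
  haveI := KFlatLib.hasLTensorCx E₁
  haveI := BidualSchLib.hasRSheafHom E₁
  let lE : DerivedCategory.Q.obj E₁ ≅ (DCoh.Lpull p).obj (DerivedCategory.Q.obj E₀) :=
    (KFlatLib.lpullObjIso p E₀ hE₀).symm
  have hE₁p : DCoh.IsPerfect (DerivedCategory.Q.obj E₁) :=
    PerfLib.isPerfect_of_iso lE.symm (KFlatLib.isPerfect_lpull p _ hE₀p)
  obtain ⟨cP⟩ := ProjFormLib.nonempty_lTensor_congr_iso eP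
  let T₀ := (DCoh.LTensorCx P).obj ((DCoh.Lpull p).obj (DerivedCategory.Q.obj E))
  let T := ((DCoh.tensorCx (X := pullback a b)).obj P₀).obj E₁
  haveI := KFlatLib.hasLTensorCx T
  haveI := BidualSchLib.hasRSheafHom T
  obtain ⟨cT⟩ := TensorAssocLib.nonempty_lTensor_comp P₀ E₁ hE₁
  let eT : DerivedCategory.Q.obj T ≅ T₀ :=
    DerivedCategory.Q.mapIso (PerfDualLib.bX P₀ E₁) ≪≫ ((Dual3Lib.flatCnt' P₀ hP₀).app E₁).symm ≪≫
      cP.app _ ≪≫ (DCoh.LTensorCx P).mapIso (lE ≪≫ (DCoh.Lpull p).mapIso eE)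
  have hTp : DCoh.IsPerfect (DerivedCategory.Q.obj T) :=
    PerfLib.isPerfect_of_iso (DerivedCategory.Q.mapIso (PerfDualLib.bX P₀ E₁) ≪≫
        ((Dual3Lib.flatCnt' P₀ hP₀).app E₁).symm).symm
      (KFlatLib.isPerfect_lTensor P₀ hP₀ hP₀p _ hE₁p)
  -- injective model of the kernel product and flat model of its direct image
  obtain ⟨I, hI, ⟨eI⟩⟩ := KInjUse.exists_iso_Q_kInjective T₀
  haveI := hI
  haveI := KFlatLib.hasLTensorCx I
  haveI := BidualSchLib.hasRSheafHom I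
  have hIp : DCoh.IsPerfect (DerivedCategory.Q.obj I) := PerfLib.isPerfect_of_iso (eT ≪≫ eI) hTp
  let A := (KFlatLib.resP Y).obj ((ProjFormLib.pushC q).obj I)
  let ψ : A ⟶ (ProjFormLib.pushC q).obj I := (KFlatLib.resψ Y).app ((ProjFormLib.pushC q).obj I)
  haveI : QuasiIso ψ := KFlatLib.quasiIso_resψ _
  have hA : DCoh.IsKFlat A := (KFlatLib.good_resP _).1
  haveI := KFlatLib.hasLTensorCx A
  haveI := BidualSchLib.hasRSheafHom A
  haveI := Dual3Lib.isIso_pushQ q I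
  let eA : DerivedCategory.Q.obj A ≅ DerivedCategory.Q.obj K :=
    asIso (DerivedCategory.Q.map ψ) ≪≫ asIso (Dual3Lib.pushQ q I) ≪≫
      (DCoh.Rpush q).mapIso eI.symm ≪≫ eK.symm
  have hAp : DCoh.IsPerfect (DerivedCategory.Q.obj A) :=
    PerfLib.isPerfect_of_iso ((asIso (DerivedCategory.Q.map ψ) ≪≫ asIso (Dual3Lib.pushQ q I))).symm
      (S1002.result q _ hIp)
  -- the twisted inverse image
  haveI := KoszOrthLib.isLeftAdjoint_rpushQ q hq
  let adjq := Adjunction.ofIsLeftAdjoint (DCoh.RpushQ q hq)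
  let OY : DCoh.DQCoh Y := ⟨DerivedCategory.Q.obj (unitCx Y),
    KoszOrthLib.isQCohD_of_isPerfect (PerfBaseLib.isPerfect_of_strictlyPerfect (isStrictlyPerfect_unitCx Y))⟩
  obtain ⟨eW⟩ := DualFMLib.nonempty_relDualizing_bc (IsPullback.of_hasPullback a b) adj adjq O hO
    OY (DualFMLib.inDUnit Y).symm
  obtain ⟨push⟩ := Dual3Lib.nonempty_pushHom q hq _ adjq OY I hIp A ψ hA
    (PerfDualLib.isQCohD_rSheafHom_of_isPerfect A hAp OY.obj OY.property)
  obtain ⟨cK⟩ := nonempty_rSheafHom_congr (K := A) (K' := K) eA OY.obj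
  obtain ⟨cI⟩ := nonempty_rSheafHom_congr (K := I) (K' := T) (eI.symm ≪≫ eT.symm)
    ((DCoh.Lpull p).obj (adx.obj O).obj)
  -- `RHom` out of a product
  let ρ : DCoh.RSheafHom T ≅ DCoh.RSheafHom E₁ ⋙ DCoh.RSheafHom P₀ :=
    (DCoh.RSheafHomAdj T).rightAdjointUniq
      (((DCoh.RSheafHomAdj P₀).comp (DCoh.RSheafHomAdj E₁)).ofNatIsoLeft cT)
  -- the dual of the inverse image
  obtain ⟨D₀, hD₀h, hD₀, eD₀, hD₀M⟩ := exists_dual_model E₀ hE₀p
  haveI := hD₀h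
  let D₁ := (ProjFormLib.pullC p).obj D₀
  haveI := KFlatLib.hasLTensorCx D₁
  obtain ⟨pd⟩ := nonempty_lpull_dual p E₀ hE₀p E₁ lE
  let eD₁ : DerivedCategory.Q.obj D₁ ≅ (DCoh.RSheafHom E₁).obj (DerivedCategory.Q.obj (unitCx _)) :=
    (KFlatLib.lpullObjIso p D₀ hD₀).symm ≪≫ (DCoh.Lpull p).mapIso eD₀ ≪≫ pd
  obtain ⟨d₁⟩ := nonempty_lTensor_dual E₁ hE₁p D₁ eD₁ ((DCoh.Lpull p).obj (adx.obj O).obj)
  obtain ⟨l₁⟩ := KFlatLib.lpull_lTensorCx p D₀ hD₀ (adx.obj O).obj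
  obtain ⟨d₀⟩ := hD₀M (adx.obj O).obj
  obtain ⟨cE⟩ := nonempty_rSheafHom_congr (K := E₀) (K' := E) eE (adx.obj O).obj
  obtain ⟨cU⟩ := nonempty_rSheafHom_congr (K := P) (K' := P₀) eP.symm
    (DerivedCategory.Q.obj (unitCx (pullback a b)))
  obtain ⟨dP⟩ := nonempty_lTensor_dual P₀ hP₀p P'
    (eP' ≪≫ (DCoh.RSheafHom P).mapIso (DualFMLib.inDUnit _) ≪≫ cU)
    ((DCoh.RSheafHom E₁).obj ((DCoh.Lpull p).obj (adx.obj O).obj))
  let M := (DCoh.RSheafHom E).obj (adx.obj O).obj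
  let e₁ : (DCoh.LTensorCx P').obj ((DCoh.Lpull p).obj M) ≅
      (DCoh.RSheafHom P₀).obj ((DCoh.RSheafHom E₁).obj ((DCoh.Lpull p).obj (adx.obj O).obj)) :=
    (DCoh.LTensorCx P').mapIso ((DCoh.Lpull p).mapIso (cE.symm ≪≫ d₀.symm) ≪≫ l₁ ≪≫ d₁) ≪≫ dP
  let e₂ : (DCoh.LTensorCx P').obj ((DCoh.Lpull p).obj M) ≅
      (DCoh.RSheafHom I).obj ((DCoh.RpushQ q hq).rightAdjoint.obj OY).obj :=
    e₁ ≪≫ (ρ.app _).symm ≪≫ cI.symm ≪≫ (DCoh.RSheafHom I).mapIso eW.symm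
  exact ⟨(DCoh.RSheafHom K).mapIso (DualFMLib.inDUnit Y) ≪≫ cK.symm ≪≫ push.symm ≪≫
    (DCoh.Rpush q).mapIso e₂.symm⟩

end Groth.Agent.FMKLib
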