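import Groth.Agent.FMKLib.Ample
import Groth.Agent.FMKLib.DualPhi
import Groth.Agent.FMKLib.CMDual
import Groth.Agent.Dual3Lib.SerreIntegral
import Groth.Agent.AmpleAffLib.Gen
import Groth.Agent.CohCmpLib.SectionPair
import Groth.Agent.KiehlLib.ExtFin

/-!
# Hypercohomology against twisted dualizing modules and duals
-/

set_option autoImplicit false
set_option linter.style.haveILetI false
set_option backward.isDefEq.respectTransparency false
set_option backward.isDefEq.respectTransparency.types false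
set_option maxHeartbeats 2000000
set_option synthInstance.maxHeartbeats 400000

universe u

open CategoryTheory CategoryTheory.Limits AlgebraicGeometry HomologicalComplex
open Groth.Agent.DerLib Groth.Agent.PerfDualLib
open DerivedCategory.TStructure (t)

attribute [local instance] HasDerivedCategory.standard

noncomputable section

namespace Groth.Agent.FMKLib

/-- Over a field, an object without maps to the structure sheaf has no sections in degree zero. -/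
theorem noHom_zero_of_field {k : Type u} [Field k] {L C : DCoh.D (Spec (CommRingCat.of k))}
    (e : L ≅ (DCoh.tildeD (CommRingCat.of k)).obj (Dual.inD k k)) (hC : DCoh.IsQCohD C)
    (h : ∀ f : C ⟶ L, f = 0) : ∀ g : oD (Spec (CommRingCat.of k)) ⟶ C, g = 0 := by
  intro g
  obtain ⟨hF, hFa, hq⟩ := Groth.Agent.S0997.result (CommRingCat.of k)
  obtain ⟨N, ⟨eN⟩⟩ := (hq C).1 hC
  let eK := AddEquiv.ofBijective _ (Dual3Lib.bijective_evS eN.symm)
  apply eK.injective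
  rw [map_zero]
  refine (Module.forall_dual_apply_eq_zero_iff k (eK g)).1 fun θ => ?_
  let Ψ : (Dual3Lib.uO (Spec (CommRingCat.of k)) ⟶ C) →+ k := θ.toAddMonoidHom.comp eK.toAddMonoidHom
  obtain ⟨f, hf, -⟩ := Dual3Lib.existsUnique_of_evS_field e hC Ψ fun r g => by
    show θ (eK _) = r • θ (eK g)
    rw [← map_smul]
    exact congrArg θ (Dual3Lib.evS_smul eN.symm r g)
  have h1 := hf g
  rw [h f, comp_zero, map_zero, map_zero] at h1
  exact h1.symm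

/-- Serre duality, vanishing half: no maps into the dualizing complex kills the sections. -/
theorem noHom_zero_of_hom_rightAdjoint {k : Type u} [Field k] {Y : Scheme.{u}}
    (b : Y ⟶ Spec (CommRingCat.of k)) [IsProper b] [DCoh.HasRpush b] (hb : DCoh.RpushPreservesQCoh b)
    (bdx : DCoh.DQCoh (Spec (CommRingCat.of k)) ⥤ DCoh.DQCoh Y) (adj : DCoh.RpushQ b hb ⊣ bdx)
    (O : DCoh.DQCoh (Spec (CommRingCat.of k)))
    (eO : O.obj ≅ DCoh.inD (Spec (CommRingCat.of k)) (Coh.structureModule (Spec (CommRingCat.of k))))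
    (T : DCoh.D Y) (hT : DCoh.IsQCohD T) (h : ∀ φ : T ⟶ (bdx.obj O).obj, φ = 0) :
    ∀ g : oD Y ⟶ T, g = 0 := by
  haveI := KFlatLib.hasLpull b
  have h0 : ∀ ψ : (DCoh.Rpush b).obj T ⟶ O.obj, ψ = 0 := fun ψ => by
    have h1 : adj.homEquiv ⟨T, hT⟩ O (ObjectProperty.homMk ψ) = adj.homEquiv ⟨T, hT⟩ O (ObjectProperty.homMk 0) :=
      ObjectProperty.hom_ext _ ((h _).trans (h _).symm)
    exact congrArg (fun l => l.hom) ((adj.homEquiv _ _).injective h1)
  have h2 := noHom_zero_of_field (eO ≪≫ Dual3Lib.inDSpecIso.symm) (hb T hT) h0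
  let u : (DCoh.Lpull b).obj (oD (Spec (CommRingCat.of k))) ≅ oD Y :=
    (DCoh.Lpull b).mapIso (DualFMLib.inDUnit _) ≪≫ KiehlLib.lpullUnitIso b ≪≫ (DualFMLib.inDUnit Y).symm
  intro g
  rw [← cancel_epi u.hom, comp_zero]
  exact ((KFlatLib.lpullRpushAdj b).homEquiv _ _).injective ((h2 _).trans (h2 _).symm)

variable {S X Y : Scheme.{u}}

/-- Hypercohomology of `Ψ(G) ⊗ F` is that of `G ⊗ Φ(F)` for quasi-coherent `G`. -/
theorem exists_hyper_transfer (a : X ⟶ S) (b : Y ⟶ S) (P : Cx (pullback a b))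
    [IsNoetherian Y] [QuasiCompact (pullback.snd a b)] [QuasiSeparated (pullback.snd a b)]
    (hP : DCoh.IsPerfect (DerivedCategory.Q.obj P))
    [DCoh.HasLpull (pullback.fst a b)] [DCoh.HasLpull (pullback.snd a b)] [DCoh.HasLTensorCx P]
    [DCoh.HasRpush (pullback.fst a b)] [DCoh.HasRpush (pullback.snd a b)] [DCoh.HasRΓ X]
    (F : Cx X) (hF : DCoh.IsPerfect (DerivedCategory.Q.obj F)) [DCoh.HasLTensorCx F]
    (G : Y.Modules) (hG : Coh.IsQCoh G) :
    ∃ (M : Cx Y) (_ : DCoh.HasLTensorCx M) (_ : DCoh.IsKFlat M)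
      (_ : DerivedCategory.Q.obj M ≅ DCoh.inD Y G),
      ∀ j : ℤ, IsZero ((DerivedCategory.homologyFunctor AddCommGrpCat.{u} j).obj ((DCoh.RΓ X).obj
          ((DCoh.LTensorCx F).obj ((DCoh.Lpull (pullback.snd a b) ⋙ DCoh.LTensorCx P ⋙ DCoh.Rpush (pullback.fst a b)).obj
            (DCoh.inD Y G))))) ↔
        NoHom ((DCoh.LTensorCx M).obj ((FMK.phi a b P).obj (DerivedCategory.Q.obj F))) j := by
  haveI := DCohRestrLib.hasRΓ Y
  let p := pullback.fst a b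
  let q := pullback.snd a b
  obtain ⟨E₀, hE₀, ⟨eE⟩⟩ := DualFMLib.exists_flat_rep (DerivedCategory.Q.obj F)
  obtain ⟨F₀, hF₀, ⟨eF⟩⟩ := DualFMLib.exists_flat_rep (DCoh.inD Y G)
  obtain ⟨P₀, hP₀, ⟨eP⟩⟩ := DualFMLib.exists_flat_rep (DerivedCategory.Q.obj P)
  haveI := KFlatLib.hasLTensorCx E₀
  haveI := KFlatLib.hasLTensorCx F₀
  haveI := KFlatLib.hasLTensorCx P₀
  let E₁ := (ProjFormLib.pullC p).obj E₀
  let F₁ := (ProjFormLib.pullC q).obj F₀
  haveI := KFlatLib.hasLTensorCx E₁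
  haveI := KFlatLib.hasLTensorCx F₁
  have hE₁ : DCoh.IsKFlat E₁ := KFlatLib.isKFlat_pull p hE₀
  have hF₁ : DCoh.IsKFlat F₁ := KFlatLib.isKFlat_pull q hF₀
  obtain ⟨cE⟩ := ProjFormLib.nonempty_lTensor_congr_iso eE
  obtain ⟨cP⟩ := ProjFormLib.nonempty_lTensor_congr_iso eP
  haveI : DCoh.HasRΓ (pullback a b) := DCohRestrLib.hasRΓ (pullback a b)
  obtain ⟨gX⟩ := DCohRestrLib.nonempty_RΓ_Rpush p
  obtain ⟨gY⟩ := DCohRestrLib.nonempty_RΓ_Rpush q
  let T := ((DCoh.tensorCx (X := pullback a b)).obj P₀).obj E₁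
  haveI := KFlatLib.hasLTensorCx T
  obtain ⟨cT⟩ := TensorAssocLib.nonempty_lTensor_comp P₀ E₁ hE₁
  let lF : DCoh.toD _ F₁ ≅ (DCoh.Lpull q).obj (DCoh.inD Y G) :=
    (KFlatLib.lpullObjIso q F₀ hF₀).symm ≪≫ (DCoh.Lpull q).mapIso eF
  let lE : DCoh.toD _ E₁ ≅ (DCoh.Lpull p).obj (DCoh.toD X F) :=
    (KFlatLib.lpullObjIso p E₀ hE₀).symm ≪≫ (DCoh.Lpull p).mapIso eE
  have hT : DCoh.IsKFlat T := KFlatLib.isKFlat_tensorCx hP₀ hE₁
  let sw : (DCoh.LTensorCx E₁).obj ((DCoh.LTensorCx P₀).obj (DCoh.toD _ F₁)) ≅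
      (DCoh.LTensorCx F₁).obj ((DCoh.LTensorCx P₀).obj (DCoh.toD _ E₁)) :=
    cT.app _ ≪≫ (Dual3Lib.flatCnt' T hT).app F₁ ≪≫
      DerivedCategory.Q.mapIso (PerfDualLib.bX F₁ T ≪≫
        ((DCoh.tensorCx (X := pullback a b)).mapIso (PerfDualLib.bX P₀ E₁)).app F₁) ≪≫
      ((Dual3Lib.flatCnt' F₁ hF₁).app _).symm ≪≫
      (DCoh.LTensorCx F₁).mapIso ((Dual3Lib.flatCnt' P₀ hP₀).app E₁).symm
  let AF := (DCoh.LTensorCx P).obj ((DCoh.Lpull q).obj (DCoh.inD Y G))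
  let AE := (DCoh.LTensorCx P).obj ((DCoh.Lpull p).obj (DCoh.toD X F))
  have hAE : DCoh.IsQCohD AE := KFlatLib.isQCohD_lTensorCx P (KoszOrthLib.isQCohD_of_isPerfect hP) _
    (KFlatLib.isQCohD_lpull p _ (KoszOrthLib.isQCohD_of_isPerfect hF))
  obtain ⟨pX⟩ := ProjFormLib.nonempty_projection_formula p E₀ hE₀
    (PerfLib.isPerfect_of_iso eE.symm hF) AF
  obtain ⟨pY⟩ := ProjFormLib.nonempty_projection_qcoh q F₀ hF₀
    (KFlatLib.isQCohD_iso eF.symm (PerfBaseLib.isQCohD_inD G hG)) AE hAE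
  let e := (DCoh.RΓ X).mapIso ((cE.app _).symm ≪≫ pX) ≪≫ gX.app _ ≪≫
    (DCoh.RΓ _).mapIso ((DCoh.LTensorCx E₁).mapIso ((cP.app _).symm ≪≫
        (DCoh.LTensorCx P₀).mapIso lF.symm) ≪≫ sw ≪≫
      (DCoh.LTensorCx F₁).mapIso ((DCoh.LTensorCx P₀).mapIso lE ≪≫ cP.app _)) ≪≫
    (gY.app _).symm ≪≫ (DCoh.RΓ Y).mapIso pY.symm
  refine ⟨F₀, inferInstance, hF₀, eF, fun j => ?_⟩
  rw [← isZero_RΓ_iff]
  exact ((DerivedCategory.homologyFunctor AddCommGrpCat.{u} j).mapIso e).isZero_iff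

/-- Twisting by inverse modules gives inverse equivalences. -/
theorem nonempty_twist_adj {Y : Scheme.{u}} (N N' : Y.Modules) (hN : PicF.IsInvertible N)
    (e : CohB1.tensorMod N N' ≅ Coh.structureModule Y)
    [DCoh.HasLTensorCx (oneCx N)] [DCoh.HasLTensorCx (oneCx N')] :
    Nonempty (DCoh.LTensorCx (oneCx N) ⊣ DCoh.LTensorCx (oneCx N')) := by
  have hN' := CohCmpLib.isInvertible_of_inverse' hN e
  let T := (DCoh.LTensorCx (oneCx N')).obj (DCoh.inD Y N)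
  haveI : (DCoh.inD Y N).IsLE 0 := inferInstanceAs
    (t.IsLE ((DerivedCategory.singleFunctor Y.Modules 0).obj N) 0)
  haveI : (DCoh.inD Y N).IsGE 0 := inferInstanceAs
    (t.IsGE ((DerivedCategory.singleFunctor Y.Modules 0).obj N) 0)
  haveI := KoszOrthLib.isEquivalence_tensorRightMod hN'
  have hz : ∀ q : ℤ, IsZero (DCoh.HD (DCoh.inD Y N) q) → IsZero (DCoh.HD T q) := fun q hq => by
    obtain ⟨e⟩ := nonempty_HD_twist N' hN' (DCoh.inD Y N) q
    exact ((DCoh.tensorRightMod N').map_isZero hq).of_iso e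
  haveI : T.IsGE 0 := (DerivedCategory.isGE_iff T 0).2 fun q hq =>
    hz q (DerivedCategory.isZero_of_isGE _ 0 q hq)
  haveI : T.IsLE 0 := (DerivedCategory.isLE_iff T 0).2 fun q hq =>
    hz q (DerivedCategory.isZero_of_isLE _ 0 q hq)
  obtain ⟨eT⟩ := DerLib.Devissage.nonempty_iso_single T 0
  obtain ⟨eH⟩ := nonempty_HD_twist N' hN' (DCoh.inD Y N) 0
  let eE : DerivedCategory.Q.obj (unitCx Y) ≅ (DCoh.LTensorCx (oneCx N')).obj (DerivedCategory.Q.obj (oneCx N)) :=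
    (DualFMLib.inDUnit Y).symm ≪≫
      (DerivedCategory.singleFunctor Y.Modules 0).mapIso
        (e.symm ≪≫ (DCoh.tensorRightMod N').mapIso
          ((DerivedCategory.singleFunctorCompHomologyFunctorIso Y.Modules 0).app N).symm ≪≫ eH.symm) ≪≫
      eT.symm ≪≫ (DCoh.LTensorCx (oneCx N')).mapIso (oneCxIso N).symm
  obtain ⟨⟨h₁⟩, ⟨h₂⟩⟩ := DualFMLib.nonempty_lTensor_inverse (oneCx N) (oneCx N') eE
  exact ⟨(CategoryTheory.Equivalence.mk (DCoh.LTensorCx (oneCx N)) (DCoh.LTensorCx (oneCx N'))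
    h₁.symm h₂).toAdjunction⟩

/-- Vanishing of `G ⊗ ω` in hypercohomology kills the sections of a twisted dual. -/
theorem noHom_dual_twist {k : Type u} [Field k] {Y : Scheme.{u}}
    (b : Y ⟶ Spec (CommRingCat.of k)) [IsProper b] [DCoh.HasRpush b] (hb : DCoh.RpushPreservesQCoh b)
    (bdx : DCoh.DQCoh (Spec (CommRingCat.of k)) ⥤ DCoh.DQCoh Y) (adj : DCoh.RpushQ b hb ⊣ bdx)
    (O : DCoh.DQCoh (Spec (CommRingCat.of k)))
    (eO : O.obj ≅ DCoh.inD (Spec (CommRingCat.of k)) (Coh.structureModule (Spec (CommRingCat.of k))))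
    (g : ℤ) (ω : Y.Modules) (ew : (bdx.obj O).obj ≅ (DerivedCategory.singleFunctor Y.Modules (-g)).obj ω)
    (N N' : Y.Modules) (hN : PicF.IsInvertible N) (e : CohB1.tensorMod N N' ≅ Coh.structureModule Y)
    (K : Cx Y) (hK : DCoh.IsKFlat K) (hKp : DCoh.IsPerfect (DerivedCategory.Q.obj K))
    (G : Cx Y) [DCoh.HasLTensorCx K] [DCoh.HasRSheafHom K] [DCoh.HasLTensorCx G] [DCoh.HasRSheafHom G]
    (eG : DerivedCategory.Q.obj G ≅ (DCoh.RSheafHom K).obj (DerivedCategory.Q.obj (unitCx Y)))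
    [DCoh.HasLTensorCx (oneCx N)]
    (M : Cx Y) [DCoh.HasLTensorCx M] (hM : DCoh.IsKFlat M)
    (eM : DerivedCategory.Q.obj M ≅ DCoh.inD Y (CohB1.tensorMod N' ω)) (j : ℤ)
    (h : NoHom ((DCoh.LTensorCx M).obj (DerivedCategory.Q.obj K)) j) :
    NoHom ((DCoh.LTensorCx (oneCx N)).obj (DerivedCategory.Q.obj G)) (g - j) := by
  haveI := KFlatLib.hasLTensorCx (oneCx N')
  haveI := KFlatLib.hasLTensorCx (unitCx Y)
  haveI := BidualSchLib.hasRSheafHom (unitCx Y)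
  have hN' := CohCmpLib.isInvertible_of_inverse' hN e
  have hGp : DCoh.IsPerfect (DerivedCategory.Q.obj G) := PerfLib.isPerfect_of_iso eG.symm (isPerfect_dual K hKp)
  obtain ⟨A⟩ := nonempty_twist_adj N N' hN e
  let T := (DCoh.LTensorCx (oneCx N)).obj (DerivedCategory.Q.obj G)
  -- the twisted dualizing module
  let w := DCoh.inD Y ω
  let W := (DCoh.LTensorCx (oneCx N')).obj w
  haveI := KoszOrthLib.isEquivalence_tensorRightMod hN'
  haveI : w.IsLE 0 := inferInstanceAs (t.IsLE ((DerivedCategory.singleFunctor Y.Modules 0).obj ω) 0)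
  haveI : w.IsGE 0 := inferInstanceAs (t.IsGE ((DerivedCategory.singleFunctor Y.Modules 0).obj ω) 0)
  have hz : ∀ q : ℤ, IsZero (DCoh.HD w q) → IsZero (DCoh.HD W q) := fun q hq => by
    obtain ⟨e⟩ := nonempty_HD_twist N' hN' w q
    exact ((DCoh.tensorRightMod N').map_isZero hq).of_iso e
  haveI : W.IsGE 0 := (DerivedCategory.isGE_iff W 0).2 fun q hq =>
    hz q (DerivedCategory.isZero_of_isGE _ 0 q hq)
  haveI : W.IsLE 0 := (DerivedCategory.isLE_iff W 0).2 fun q hq =>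
    hz q (DerivedCategory.isZero_of_isLE _ 0 q hq)
  obtain ⟨eW⟩ := DerLib.Devissage.nonempty_iso_single W 0
  obtain ⟨eH⟩ := nonempty_HD_twist N' hN' w 0
  let eMW : DerivedCategory.Q.obj M ≅ W := eM ≪≫ (DerivedCategory.singleFunctor Y.Modules 0).mapIso
    (HilbPolyLib.swapIso _ _ ≪≫ (DCoh.tensorRightMod N').mapIso
      ((DerivedCategory.singleFunctorCompHomologyFunctorIso Y.Modules 0).app ω).symm ≪≫ eH.symm) ≪≫ eW.symm
  obtain ⟨d⟩ := Dual3Lib.nonempty_rSheafHom_dual K G hKp hGp eG (DerivedCategory.Q.obj M)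
  let eR : (DCoh.LTensorCx M).obj (DerivedCategory.Q.obj K) ≅ (DCoh.RSheafHom G).obj W :=
    (Dual3Lib.flatCnt' M hM).app K ≪≫ DerivedCategory.Q.mapIso (bX K M) ≪≫
      ((Dual3Lib.flatCnt' K hK).app M).symm ≪≫ d ≪≫ (DCoh.RSheafHom G).mapIso eMW
  have h' := h.of_iso eR
  -- transposing
  let U := (oD Y)⟦-j⟧
  have hU : ∀ ρ : U ⟶ (DCoh.RSheafHom G).obj W, ρ = 0 := fun ρ =>
    ((shiftEquiv' (DCoh.D Y) (-j) j (by omega)).toAdjunction.homEquiv _ _).injective ((h' _).trans (h' _).symm)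
  have hU' : ∀ ρ : (DCoh.LTensorCx (oneCx N)).obj ((DCoh.LTensorCx G).obj U) ⟶ w, ρ = 0 := fun ρ => by
    refine (A.homEquiv _ _).injective ?_
    refine ((DCoh.RSheafHomAdj G).homEquiv _ _).injective ?_
    exact (hU _).trans (hU _).symm
  obtain ⟨s₁⟩ := nonempty_lTensor_shift G (oD Y) (-j)
  obtain ⟨u⟩ := Dual3Lib.nonempty_lTensorCx_unit G
  obtain ⟨s₂⟩ := nonempty_lTensor_shift (oneCx N) (DerivedCategory.Q.obj G) (-j)
  let eU : T⟦-j⟧ ≅ (DCoh.LTensorCx (oneCx N)).obj ((DCoh.LTensorCx G).obj U) :=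
    s₂.symm ≪≫ (DCoh.LTensorCx (oneCx N)).mapIso
      ((shiftFunctor _ (-j)).mapIso (u.symm ≪≫ (DCoh.LTensorCx G).mapIso (DualFMLib.inDUnit Y).symm) ≪≫ s₁.symm)
  let ew' : (bdx.obj O).obj ≅ w⟦g⟧ :=
    ew ≪≫ (((DerivedCategory.singleFunctors Y.Modules).shiftIso g (-g) 0 (by omega)).app ω).symm
  let T' := (T⟦-j⟧)⟦g⟧
  have hT' : ∀ φ : T' ⟶ (bdx.obj O).obj, φ = 0 := fun φ => by
    obtain ⟨φ', hφ'⟩ := (shiftFunctor (DCoh.D Y) g).map_surjective (φ ≫ ew'.hom)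
    have : φ' = 0 := by rw [← cancel_epi eU.inv, comp_zero]; exact hU' _
    rw [← cancel_mono ew'.hom, zero_comp, ← hφ', this, Functor.map_zero]
  have hTq : DCoh.IsQCohD T' := (DCoh.IsQCohD (X := Y)).le_shift g _ ((DCoh.IsQCohD (X := Y)).le_shift (-j) _
    (KFlatLib.isQCohD_lTensorCx (oneCx N) (KoszOrthLib.isQCohD_of_isPerfect
      (isPerfect_oneCx N (AmpleDevLib.isFinLocFree_of_isInvertible hN))) _ (KoszOrthLib.isQCohD_of_isPerfect hGp)))
  have h₀ := noHom_zero_of_hom_rightAdjoint b hb bdx adj O eO T' hTq hT'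
  let es : T⟦g - j⟧ ≅ T' := (shiftFunctorAdd' (DCoh.D Y) (-j) g (g - j) (by omega)).app T
  intro φ
  rw [← cancel_mono es.hom, zero_comp]
  exact h₀ _

end Groth.Agent.FMKLib
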