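import Groth.Agent.FMKLib.DualBound
import Groth.Agent.FpqcPCLib.Main
import Groth.Agent.PerfLib.Coherent
import Groth.Agent.RelFlatLib.SpreadPerfect
import Groth.Agent.NewIntersectLib.Module

/-!
# Duals of perfect complexes with cohomology in a range are generic vanishing objects
-/

set_option autoImplicit false
set_option linter.style.haveILetI false
set_option backward.isDefEq.respectTransparency false
set_option backward.isDefEq.respectTransparency.types false
set_option maxHeartbeats 2000000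
set_option synthInstance.maxHeartbeats 400000

universe u

open CategoryTheory CategoryTheory.Limits AlgebraicGeometry HomologicalComplex
open Groth.Agent.DerLib Groth.Agent.PerfDualLib
open DerivedCategory.TStructure (t)

attribute [local instance] HasDerivedCategory.standard

noncomputable section

namespace Groth.Agent.FMKLib

variable {X : Scheme.{u}}

instance preservesFiniteLimits_res {U V : Scheme.{u}} (j : U ⟶ V) [IsOpenImmersion j] :
    PreservesFiniteLimits (Scheme.Modules.restrictFunctor j) := inferInstance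

/-- Stalks of a free module are finite free. -/
theorem finite_projective_stalk {M : X.Modules} (h : FlatMod.IsFinLocFree M) (x : X) :
    Module.Finite (X.presheaf.stalk x) ((DerSch.stalkFunctor X x).obj M) ∧
      Projective ((DerSch.stalkFunctor X x).obj M) := by
  obtain ⟨U, n, e, hx, he⟩ := ProjFormLib.exists_frame h x
  haveI : Module.Finite (X.presheaf.stalk x) (M.presheaf.stalk x) := Module.Finite.of_basis (he.basis x hx)
  haveI : Module.Free (X.presheaf.stalk x) (M.presheaf.stalk x) := Module.Free.of_basis (he.basis x hx)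
  haveI hfin : Module.Finite (X.presheaf.stalk x) ((DerSch.stalkFunctor X x).obj M) :=
    inferInstanceAs (Module.Finite (X.presheaf.stalk x) (M.presheaf.stalk x))
  haveI : Module.Free (X.presheaf.stalk x) ((DerSch.stalkFunctor X x).obj M) :=
    inferInstanceAs (Module.Free (X.presheaf.stalk x) (M.presheaf.stalk x))
  exact ⟨hfin, (IsProjective.iff_projective _).1 (Module.Projective.of_free)⟩

/-- Contractions at a stalk extend to a neighbourhood. -/
theorem exists_contraction_nhd (E : Cx X) (x : X) (hE : ∀ i, KFlatLib.IsFinFree (E.X i)) (q : ℤ)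
    (s : ((KFlatLib.stalkCx X x).obj E).X q ⟶ ((KFlatLib.stalkCx X x).obj E).X (q - 1))
    (t' : ((KFlatLib.stalkCx X x).obj E).X (q + 1) ⟶ ((KFlatLib.stalkCx X x).obj E).X q)
    (hst : s ≫ ((KFlatLib.stalkCx X x).obj E).d (q - 1) q +
      ((KFlatLib.stalkCx X x).obj E).d q (q + 1) ≫ t' = 𝟙 _) :
    ∃ (W : X.Opens) (W' : (W : Scheme.{u}).Opens) (w : (W' : Scheme.{u})), W.ι (W'.ι w) = x ∧
      ∃ (σ : ((PerfLib.resC W'.ι).obj ((PerfLib.resC W.ι).obj E)).X q ⟶
          ((PerfLib.resC W'.ι).obj ((PerfLib.resC W.ι).obj E)).X (q - 1))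
        (τ : ((PerfLib.resC W'.ι).obj ((PerfLib.resC W.ι).obj E)).X (q + 1) ⟶
          ((PerfLib.resC W'.ι).obj ((PerfLib.resC W.ι).obj E)).X q),
        σ ≫ ((PerfLib.resC W'.ι).obj ((PerfLib.resC W.ι).obj E)).d (q - 1) q +
          ((PerfLib.resC W'.ι).obj ((PerfLib.resC W.ι).obj E)).d q (q + 1) ≫ τ = 𝟙 _ := by
  let S := DerSch.stalkFunctor X x
  let e : E.X q ⟶ E.X (q + 1 - 1) := (E.XIsoOfEq (show q = q + 1 - 1 by omega)).hom
  let e' : E.X (q + 1 - 1) ⟶ E.X q := (E.XIsoOfEq (show q + 1 - 1 = q by omega)).hom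
  have hee : e ≫ e' = 𝟙 _ := by simp [e, e']
  let f : ∀ i : ℤ, S.obj (E.X i) ⟶ S.obj (E.X (i - 1)) := fun i =>
    if h : i = q then S.map (E.XIsoOfEq h).hom ≫ s ≫ S.map (E.XIsoOfEq (show q - 1 = i - 1 by omega)).hom
    else if h' : i = q + 1 then
      S.map (E.XIsoOfEq h').hom ≫ t' ≫ S.map e ≫
        S.map (E.XIsoOfEq (show q + 1 - 1 = i - 1 by omega)).hom
    else 0
  obtain ⟨W, hxW, k, hk⟩ := RelFlatLib.exists_maps_nhd x {q, q + 1} (fun i => E.X i) (fun i => E.X (i - 1)) hE f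
  have hs : f q = s := by
    simp only [f, dif_pos, XIsoOfEq_rfl, Iso.refl_hom, CategoryTheory.Functor.map_id]
    erw [Category.id_comp, Category.comp_id]
  have ht : f (q + 1) ≫ S.map e' = t' := by
    simp only [f, dif_neg (show ¬ q + 1 = q by omega), dif_pos, XIsoOfEq_rfl, Iso.refl_hom,
      CategoryTheory.Functor.map_id]
    erw [Category.id_comp, Category.comp_id]
    rw [Category.assoc]
    erw [← Functor.map_comp, hee, CategoryTheory.Functor.map_id, Category.comp_id]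
  let r := PerfLib.res W.ι
  let w : (W : Scheme.{u}) := ⟨x, hxW⟩
  let G := DerSch.stalkFunctor (W : Scheme.{u}) w
  let θ := RelFlatLib.stalkResExt W.ι w
  let Ext := ModuleCat.extendScalars.{u, u, u} (W.ι.stalkMap w).hom
  haveI : Ext.Additive := (ModuleCat.extendRestrictScalarsAdj _).left_adjoint_additive
  have hmap : ∀ {A B : X.Modules} (g : A ⟶ B), G.map (r.map g) =
      θ.hom.app A ≫ Ext.map (S.map g) ≫ θ.inv.app B := fun {A B} g => by
    rw [← Category.assoc]
    refine Eq.trans ?_ (congrArg (· ≫ θ.inv.app B) (θ.hom.naturality g))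
    rw [Category.assoc, Iso.hom_inv_id_app]
    erw [Category.comp_id]
    rfl
  let s₀ : S.obj (E.X q) ⟶ S.obj (E.X (q - 1)) := s
  let d₁ := E.d (q - 1) q
  let d₂ := E.d q (q + 1)
  let g : r.obj (E.X q) ⟶ r.obj (E.X q) := k q ≫ r.map d₁ + r.map d₂ ≫ k (q + 1) ≫ r.map e' - 𝟙 _
  have hg : G.map g = 0 := by
    have h1 : G.map (k q) = θ.hom.app _ ≫ Ext.map s₀ ≫ θ.inv.app _ := by
      rw [show s₀ = f q from hs.symm]
      exact hk q (by simp)
    have h2 : G.map (k (q + 1)) = θ.hom.app _ ≫ Ext.map (f (q + 1)) ≫ θ.inv.app _ := hk (q + 1) (by simp)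
    have key : ∀ {A B C : X.Modules} (u : S.obj A ⟶ S.obj B) (v : S.obj B ⟶ S.obj C),
        (θ.hom.app A ≫ Ext.map u ≫ θ.inv.app B) ≫ θ.hom.app B ≫ Ext.map v ≫ θ.inv.app C =
          θ.hom.app A ≫ Ext.map (u ≫ v) ≫ θ.inv.app C := fun u v => by
      simp only [Category.assoc, Iso.inv_hom_id_app_assoc, Functor.map_comp]
    simp only [g, Functor.map_sub, Functor.map_add, Functor.map_comp, h1, h2, hmap]
    rw [key, key, key]
    have hst' : s₀ ≫ S.map d₁ + S.map d₂ ≫ f (q + 1) ≫ S.map e' = 𝟙 _ := by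
      rw [ht]
      exact hst
    rw [← Preadditive.comp_add, ← Preadditive.add_comp, ← Functor.map_add, hst',
      CategoryTheory.Functor.map_id G]
    refine sub_eq_zero.2 ((congrArg (fun m => θ.hom.app _ ≫ m ≫ θ.inv.app _) (Ext.map_id _)).trans ?_)
    erw [Category.id_comp]
    exact θ.hom_inv_id_app _
  obtain ⟨W', hwW', h0⟩ := RelFlatLib.exists_zero_nhd w {0} (fun _ => r.obj (E.X q)) (fun _ => r.obj (E.X q))
    (fun _ => PerfLib.isFinFree_res W.ι (hE q)) (fun _ => g) (fun _ _ => hg)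
  refine ⟨W, W', ⟨w, hwW'⟩, rfl, (PerfLib.res W'.ι).map (k q),
    (PerfLib.res W'.ι).map (k (q + 1) ≫ r.map e'), ?_⟩
  have h := h0 0 (by simp)
  rw [Functor.map_sub, CategoryTheory.Functor.map_id, sub_eq_zero] at h
  rw [Functor.map_add, Functor.map_comp, Functor.map_comp] at h
  exact h

/-- A dual is perfect. -/
theorem isPerfect_of_isDualOf (E : Cx X) (hE : DCoh.IsPerfect (DerivedCategory.Q.obj E))
    (K : DCoh.D X) (hK : IsDualOf E K) : DCoh.IsPerfect K := by
  haveI := KFlatLib.hasLTensorCx E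
  haveI := BidualSchLib.hasRSheafHom E
  obtain ⟨eK⟩ := @hK _ _
  exact PerfLib.isPerfect_of_iso
    (eK ≪≫ (DCoh.RSheafHom E).mapIso ((DerivedCategory.singleFunctorIsoCompQ X.Modules 0).app _)).symm
    (isPerfect_dual E hE)

/-- A splitting of a free model at a point kills the stalk of the cohomology of the dual there. -/
theorem subsingleton_stalk_of_split [IsNoetherian X] (E : Cx X) (hE : DCoh.IsPerfect (DerivedCategory.Q.obj E))
    (K : DCoh.D X) (hK : IsDualOf E K) (U : X.Opens) (v : (U : Scheme.{u})) (E' : Cx (U : Scheme.{u})) (b : ℤ)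
    (hvb : ∀ j : ℤ, b < j → IsZero (E'.X j)) (hf : ∀ j, KFlatLib.IsFinFree (E'.X j))
    (e' : DerivedCategory.Q.obj E' ≅ DerivedCategory.Q.obj ((rC U).obj E)) (i q : ℤ) (hqi : q + i = 0)
    (s : ((KFlatLib.stalkCx (U : Scheme.{u}) v).obj E').X q ⟶ ((KFlatLib.stalkCx (U : Scheme.{u}) v).obj E').X (q - 1))
    (t' : ((KFlatLib.stalkCx (U : Scheme.{u}) v).obj E').X (q + 1) ⟶ ((KFlatLib.stalkCx (U : Scheme.{u}) v).obj E').X q)
    (hst : s ≫ ((KFlatLib.stalkCx (U : Scheme.{u}) v).obj E').d (q - 1) q +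
      ((KFlatLib.stalkCx (U : Scheme.{u}) v).obj E').d q (q + 1) ≫ t' = 𝟙 _) :
    Subsingleton ((DCoh.HD K i).presheaf.stalk (U.ι v)) := by
  haveI : IsLocallyNoetherian (U : Scheme.{u}) := isLocallyNoetherian_of_isOpenImmersion U.ι
  obtain ⟨hKc, a₀, b₀, ha₀, hb₀⟩ := PerfLib.isCohD_and_bounded_of_isPerfect (isPerfect_of_isDualOf E hE K @hK)
  obtain ⟨W, W', w, hw, σ, τ, hστ⟩ := exists_contraction_nhd E' v hf q s t' hst
  obtain ⟨V, hV, hwV, -⟩ := AlgebraicGeometry.exists_isAffineOpen_mem_and_subset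
    (X := (W' : Scheme.{u})) (x := w) (U := ⊤) trivial
  haveI : IsAffine (V : Scheme.{u}) := hV
  haveI : IsLocallyNoetherian (W : Scheme.{u}) := isLocallyNoetherian_of_isOpenImmersion W.ι
  haveI : IsLocallyNoetherian (W' : Scheme.{u}) := isLocallyNoetherian_of_isOpenImmersion W'.ι
  haveI : IsLocallyNoetherian (V : Scheme.{u}) := isLocallyNoetherian_of_isOpenImmersion V.ι
  let K₁ := (DCoh.restrictD U.ι).obj K
  let K₂ := (DCoh.restrictD W.ι).obj K₁
  let K₃ := (DCoh.restrictD W'.ι).obj K₂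
  let K₄ := (DCoh.restrictD V.ι).obj K₃
  let E₄ := (DCoh.restrictCx V).obj ((DCoh.restrictCx W').obj ((DCoh.restrictCx W).obj E'))
  have hd₀ : IsDualOf ((DCoh.restrictCx U).obj E) K₁ := @IsDualOf.restrict _ _ _ @hK U
  have hd₁ : IsDualOf E' K₁ := @IsDualOf.congr _ _ _ _ @hd₀ e'.symm
  have hd₂ : IsDualOf ((DCoh.restrictCx W).obj E') K₂ := @IsDualOf.restrict _ _ _ @hd₁ W
  have hd₃ : IsDualOf ((DCoh.restrictCx W').obj ((DCoh.restrictCx W).obj E')) K₃ :=
    @IsDualOf.restrict _ _ _ @hd₂ W'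
  have hd : IsDualOf E₄ K₄ := @IsDualOf.restrict _ _ _ @hd₃ V
  have hKc₄ : DCoh.IsCohD K₄ :=
    isCohD_restrictD (isCohD_restrictD (isCohD_restrictD (isCohD_restrictD hKc U) W) W') V
  let h4 : ∀ j, DCoh.HD K₄ j ≅ (PerfLib.res V.ι).obj ((PerfLib.res W'.ι).obj ((PerfLib.res W.ι).obj
      ((PerfLib.res U.ι).obj (DCoh.HD K j)))) := fun j =>
    DCohRestrLib.restrictHDIso V.ι K₃ j ≪≫ (PerfLib.res V.ι).mapIso (DCohRestrLib.restrictHDIso W'.ι K₂ j ≪≫
      (PerfLib.res W'.ι).mapIso (DCohRestrLib.restrictHDIso W.ι K₁ j ≪≫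
        (PerfLib.res W.ι).mapIso (DCohRestrLib.restrictHDIso U.ι K j)))
  haveI : K₄.IsGE a₀ := (DerivedCategory.isGE_iff _ _).2 fun j hj => IsZero.of_iso
    ((PerfLib.res V.ι).map_isZero ((PerfLib.res W'.ι).map_isZero ((PerfLib.res W.ι).map_isZero
      ((PerfLib.res U.ι).map_isZero (DerivedCategory.isZero_of_isGE K a₀ j hj))))) (h4 j)
  haveI : K₄.IsLE b₀ := (DerivedCategory.isLE_iff _ _).2 fun j hj => IsZero.of_iso
    ((PerfLib.res V.ι).map_isZero ((PerfLib.res W'.ι).map_isZero ((PerfLib.res W.ι).map_isZero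
      ((PerfLib.res U.ι).map_isZero (DerivedCategory.isZero_of_isLE K b₀ j hj))))) (h4 j)
  have hb4 : ∀ j : ℤ, b < j → IsZero (E₄.X j) := fun j hj =>
    (PerfLib.res V.ι).map_isZero ((PerfLib.res W'.ι).map_isZero ((PerfLib.res W.ι).map_isZero (hvb j hj)))
  have hf4 : ∀ j, FlatMod.IsFinLocFree (E₄.X j) := fun j => KFlatLib.isFinLocFree_of_isFinFree
    (PerfLib.isFinFree_res V.ι (PerfLib.isFinFree_res W'.ι (PerfLib.isFinFree_res W.ι (hf j))))
  have hz := isZero_HD_of_contraction E₄ b hb4 hf4 K₄ @hd hKc₄ a₀ b₀ i q hqi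
    ((PerfLib.res V.ι).map σ) ((PerfLib.res V.ι).map τ) (by
      have h := congrArg (PerfLib.res V.ι).map hστ
      rw [Functor.map_add, Functor.map_comp, Functor.map_comp, CategoryTheory.Functor.map_id] at h
      exact h)
  refine ModuleCat.subsingleton_of_isZero (M := (DerSch.stalkFunctor X (U.ι v)).obj (DCoh.HD K i)) ?_
  have h5 := (DerSch.stalkFunctor (V : Scheme.{u}) ⟨w, hwV⟩).map_isZero (hz.of_iso (h4 i).symm)
  rw [FpqcPCLib.isZero_stalk_res_iff, FpqcPCLib.isZero_stalk_res_iff, FpqcPCLib.isZero_stalk_res_iff,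
    FpqcPCLib.isZero_stalk_res_iff] at h5
  have hp : U.ι (W.ι (W'.ι (V.ι ⟨w, hwV⟩))) = U.ι v := congrArg U.ι hw
  rwa [hp] at h5


/-- A dual of a perfect complex with cohomology in `[-k', 0]` is a `GV_{k'}`-object. -/
theorem gv_of_isDualOf [IsNoetherian X] (E : Cx X) (hE : DCoh.IsPerfect (DerivedCategory.Q.obj E))
    (K : DCoh.D X) (hK : IsDualOf E K) (k' : ℕ)
    (hH : ∀ j : ℤ, j < -(k' : ℤ) ∨ 0 < j → IsZero (DCoh.HD (DerivedCategory.Q.obj E) j)) :
    (∀ i : ℤ, i < 0 → IsZero (DCoh.HD K i)) ∧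
    (∀ (i : ℕ) (y : X), y ∈ CohB1.support (DCoh.HD K (i : ℤ)) →
      ((i - k' : ℕ) : WithBot ℕ∞) ≤ ringKrullDim ↑(X.presheaf.stalk y)) := by
  haveI := KFlatLib.hasLTensorCx E
  haveI := BidualSchLib.hasRSheafHom E
  obtain ⟨eK⟩ := @hK _ _
  have hKp : DCoh.IsPerfect K := PerfLib.isPerfect_of_iso
    (eK ≪≫ (DCoh.RSheafHom E).mapIso ((DerivedCategory.singleFunctorIsoCompQ X.Modules 0).app _)).symm
    (isPerfect_dual E hE)
  obtain ⟨hKc, a₀, b₀, ha₀, hb₀⟩ := PerfLib.isCohD_and_bounded_of_isPerfect hKp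
  haveI : (DerivedCategory.Q.obj E).IsLE 0 :=
    (DerivedCategory.isLE_iff _ 0).2 fun j hj => hH j (Or.inr hj)
  haveI : (oD X).IsGE 0 := inferInstanceAs
    (t.IsGE ((DerivedCategory.singleFunctor X.Modules 0).obj (Coh.structureModule X)) 0)
  haveI := isGE_rSheafHom E 0 (oD X) 0
  haveI : K.IsGE (0 - 0) := t.isGE_of_iso eK.symm (0 - 0)
  refine ⟨fun i hi => DerivedCategory.isZero_of_isGE K (0 - 0) i (by omega), fun i y hy => ?_⟩
  by_contra hdim
  rw [not_le] at hdim
  obtain ⟨c, hc, hci⟩ : ∃ c : ℕ, ringKrullDim ↑(X.presheaf.stalk y) = (c : WithBot ℕ∞) ∧ c < i - k' := by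
    obtain ⟨e, he⟩ := WithBot.ne_bot_iff_exists.1 (show ringKrullDim ↑(X.presheaf.stalk y) ≠ ⊥ from
      ringKrullDim_ne_bot)
    rw [← he] at hdim ⊢
    have h' : e < ((i - k' : ℕ) : ℕ∞) := WithBot.coe_lt_coe.1 hdim
    obtain ⟨c, rfl⟩ := ENat.ne_top_iff_exists.1 (ne_top_of_lt h')
    exact ⟨c, rfl, by exact_mod_cast h'⟩
  obtain ⟨U, hyU, E', a, b, hv, hf, ⟨e'⟩⟩ := exists_free_nbhd hE y
  let v : (U : Scheme.{u}) := ⟨y, hyU⟩
  haveI : IsLocallyNoetherian (U : Scheme.{u}) := isLocallyNoetherian_of_isOpenImmersion U.ι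
  let S := (KFlatLib.stalkCx (U : Scheme.{u}) v).obj E'
  have hex : ∀ j, j < -(k' : ℤ) → S.ExactAt j := fun j hj => by
    rw [exactAt_iff_isZero_homology]
    refine ((DerSch.stalkFunctor (U : Scheme.{u}) v).map_isZero ?_).of_iso (KFlatLib.stalkHomologyIso E' v j)
    refine IsZero.of_iso ?_ ((((DerivedCategory.homologyFunctorFactors (U : Scheme.{u}).Modules j).app E').symm ≪≫
      (DerivedCategory.homologyFunctor _ j).mapIso (e' ≪≫
        ((Scheme.Modules.restrictFunctor U.ι).mapDerivedCategoryFactors.app E).symm) ≪≫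
      DCohRestrLib.restrictHDIso U.ι (DerivedCategory.Q.obj E) j))
    exact (Scheme.Modules.restrictFunctor U.ι).map_isZero (hH j (Or.inl hj))
  have hlf : ∀ j, FlatMod.IsFinLocFree (E'.X j) := fun j => KFlatLib.isFinLocFree_of_isFinFree (hf j)
  have hdep : LocCoh.depth ((U : Scheme.{u}).presheaf.stalk v) ((U : Scheme.{u}).presheaf.stalk v) ≤ (c : ℕ∞) := by
    have h1 := NewIntersectLib.depth_le_dim (A := (U : Scheme.{u}).presheaf.stalk v)
    rw [ringKrullDim_eq_of_ringEquiv (U.stalkIso v).commRingCatIsoToRingEquiv] at h1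
    rw [hc] at h1
    exact_mod_cast h1
  obtain ⟨s, t', hst⟩ := exists_contraction S a
    (fun j hj => (DerSch.stalkFunctor (U : Scheme.{u}) v).map_isZero (hv j (Or.inl hj)))
    (fun j => (finite_projective_stalk (hlf j) v).1) (fun j => (finite_projective_stalk (hlf j) v).2)
    c hdep (-(k' : ℤ)) hex (-(i : ℤ)) (by omega)
  exact hy (subsingleton_stalk_of_split E hE K @hK U v E' b (fun j hj => hv j (Or.inr hj)) hf e' (i : ℤ)
    (-(i : ℤ)) (by omega) s t' hst)

end Groth.Agent.FMKLib
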