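import Groth.Agent.FMKLib.Twist
import Groth.Agent.CohCmpLib.HomFrame
import Groth.Agent.DerCompLib.Restr
import Groth.Agent.Dual3Lib.DualNat
import Groth.Agent.BidualSchLib.Exists
import Groth.Agent.FMKLib.GV
import Groth.Agent.PerfCompLib.ExtZero
import Mathlib.CategoryTheory.Abelian.Exact
import Mathlib.Algebra.Homology.ShortComplex.ExactFunctor

/-!
# The derived internal hom out of a finite locally free module
-/

set_option autoImplicit false
set_option linter.style.haveILetI false
set_option backward.isDefEq.respectTransparency false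
set_option backward.isDefEq.respectTransparency.types false
set_option maxHeartbeats 1000000
set_option synthInstance.maxHeartbeats 200000

universe u

open CategoryTheory CategoryTheory.Limits AlgebraicGeometry HomologicalComplex MonoidalCategory
open Groth.Agent.DerLib Groth.Agent.PerfDualLib
open CohCmpLib (evS evS_map HomEv homEv_counit stk)

attribute [local instance] HasDerivedCategory.standard

noncomputable section

namespace Groth.Agent.FMKLib

variable {X : Scheme.{u}} (M : X.Modules)

theorem isStrictlyPerfect_oneCx (hM : FlatMod.IsFinLocFree M) : DCoh.IsStrictlyPerfect (oneCx M) :=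
  ⟨⟨0, 0, fun i hi => HomologicalComplex.isZero_single_obj_X _ _ _ _ (by omega)⟩, fun i => by
    by_cases hi : i = 0
    · subst hi
      exact PerfLib.isFinLocFree_of_iso
        (HomologicalComplex.singleObjXSelf (ComplexShape.up ℤ) 0 M).symm hM
    · exact KFlatLib.isFinLocFree_of_isFinFree
        (KFlatLib.isFinFree_of_isZero (HomologicalComplex.isZero_single_obj_X _ _ _ _ hi))⟩

theorem evS_comp_hom {H P P' : X.Modules} (φ : KFlatLib.tens M H ⟶ P) (f : P ⟶ P') (y : X)
    (n : stk H y) :
    evS (φ ≫ f) y n = ((DerSch.stalkFunctor X y).map f).hom ∘ₗ evS φ y n := by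
  refine LinearMap.ext fun m => ?_
  show ((DerSch.stalkFunctor X y).map (φ ≫ f)).hom _ = _
  rw [Functor.map_comp]
  rfl

/-- Sheaf homs out of a finite locally free module are exact. -/
theorem epi_sheafHom_map (hM : FlatMod.IsFinLocFree M) [DCoh.HasSheafHom M] {N N' : X.Modules} (f : N ⟶ N')
    [Epi f] : Epi ((DCoh.sheafHom M).map f) := by
  refine PerfCompLib.epi_of_stalks _ fun y => ?_
  rw [ModuleCat.epi_iff_surjective]
  intro b
  haveI : Projective ((DerSch.stalkFunctor X y).obj M) := (finite_projective_stalk hM y).2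
  haveI : Module.Projective (X.presheaf.stalk y) (stk M y) :=
    (IsProjective.iff_projective ((DerSch.stalkFunctor X y).obj M)).2 inferInstance
  let adj := DCoh.sheafHomAdj M
  have hsurj : Function.Surjective ((DerSch.stalkFunctor X y).map f).hom :=
    (ModuleCat.epi_iff_surjective _).1 inferInstance
  obtain ⟨L, hL⟩ := Module.projective_lifting_property _ (evS (adj.counit.app N') y b) hsurj
  obtain ⟨a, ha⟩ := (homEv_counit (M := M) (P := N) hM y).2 L
  refine ⟨a, (homEv_counit (M := M) (P := N') hM y).1 ?_⟩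
  refine Eq.trans ?_ hL
  rw [← ha]
  refine ((evS_map _ _ y a).symm.trans ?_).trans (evS_comp_hom M _ f y a)
  exact congrArg (fun φ => evS φ y a) (adj.counit.naturality f)

theorem preservesFiniteColimits_sheafHom (hM : FlatMod.IsFinLocFree M) [DCoh.HasSheafHom M] :
    PreservesFiniteColimits (DCoh.sheafHom M) := by
  haveI : PreservesLimitsOfSize.{0, 0} (DCoh.sheafHom M) := (DCoh.sheafHomAdj M).rightAdjoint_preservesLimits
  haveI : PreservesFiniteLimits (DCoh.sheafHom M) := PreservesLimitsOfSize.preservesFiniteLimits _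
  haveI : (DCoh.sheafHom M).Additive := (DCoh.sheafHomAdj M).right_adjoint_additive
  haveI : (DCoh.sheafHom M).PreservesEpimorphisms := ⟨fun f _ => epi_sheafHom_map M hM f⟩
  haveI := Functor.preservesHomology_of_preservesEpis_and_kernels (DCoh.sheafHom M)
  exact Functor.preservesFiniteColimits_of_preservesHomology _

/-- `M ⊗ -` and `- ⊗ M`. -/
def tensorSwapNat : (DCoh.tensorBi (X := X)).obj M ≅ DCoh.tensorRightMod M :=
  Functor.isoWhiskerLeft DCoh.toP (Functor.isoWhiskerRight
    (BraidedCategory.tensorLeftIsoTensorRight (DCoh.toP.obj M)) DCoh.shP)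

theorem preservesFinite_tensorRightMod (hM : FlatMod.IsFinLocFree M) [DCoh.HasSheafHom M] :
    PreservesFiniteLimits (DCoh.tensorRightMod M) ∧ PreservesFiniteColimits (DCoh.tensorRightMod M) := by
  have hflat : FlatMod.IsFlat M := KFlatLib.isFlat_of_isFinLocFree hM
  haveI hc : PreservesFiniteColimits (DCoh.tensorRightMod M) :=
    haveI : PreservesColimitsOfSize.{0, 0} (DCoh.tensorRightMod M) :=
      ((DCoh.sheafHomAdj M).ofNatIsoLeft (tensorSwapNat M)).leftAdjoint_preservesColimits
    PreservesColimitsOfSize.preservesFiniteColimits _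
  haveI : (DCoh.tensorRightMod M).PreservesMonomorphisms := ⟨fun {A B} g _ => by
    refine PerfCompLib.mono_of_stalks _ fun y => ?_
    haveI hfl : Module.Flat (X.presheaf.stalk y) ((DerSch.stalkFunctor X y).obj M) := hflat y
    let e := KFlatLib.stalkTensorRightIso y M
    haveI hm : Mono ((DerSch.stalkFunctor X y ⋙ tensorRight ((DerSch.stalkFunctor X y).obj M)).map g) :=
      (ModuleCat.mono_iff_injective _).2 (Module.Flat.rTensor_preserves_injective_linearMap _
        ((ModuleCat.mono_iff_injective ((DerSch.stalkFunctor X y).map g)).1 inferInstance))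
    rw [show (DerSch.stalkFunctor X y).map ((DCoh.tensorRightMod M).map g) = e.inv.app A ≫
        (DerSch.stalkFunctor X y ⋙ tensorRight ((DerSch.stalkFunctor X y).obj M)).map g ≫ e.hom.app B by
      rw [e.hom.naturality, Iso.inv_hom_id_app_assoc]; rfl]
    haveI hi : Mono (e.inv.app A) := (e.app A).symm.isIso_hom.mono_of_iso
    haveI hj : Mono (e.hom.app B) := (e.app B).isIso_hom.mono_of_iso
    exact @mono_comp _ _ _ _ _ (e.inv.app A) hi _ (@mono_comp _ _ _ _ _
      ((DerSch.stalkFunctor X y ⋙ tensorRight ((DerSch.stalkFunctor X y).obj M)).map g) hm _ hj)⟩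
  haveI := Functor.preservesHomology_of_preservesMonos_and_cokernels (DCoh.tensorRightMod M)
  exact ⟨Functor.preservesFiniteLimits_of_preservesHomology _, hc⟩

/-- `RHom(M[0], N[0]) = Hom(M, N)[0]` for finite locally free `M`. -/
theorem nonempty_rSheafHom_locFree (hM : FlatMod.IsFinLocFree M) [DCoh.HasSheafHom M]
    [DCoh.HasLTensorCx (oneCx M)] [DCoh.HasRSheafHom (oneCx M)] (N : X.Modules) :
    Nonempty ((DCoh.RSheafHom (oneCx M)).obj (DCoh.inD X N) ≅ DCoh.inD X ((DCoh.sheafHom M).obj N)) := by
  obtain ⟨hl, hc⟩ := preservesFinite_tensorRightMod M hM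
  haveI := hl
  haveI := hc
  haveI := preservesFiniteColimits_sheafHom M hM
  haveI : PreservesLimitsOfSize.{0, 0} (DCoh.sheafHom M) := (DCoh.sheafHomAdj M).rightAdjoint_preservesLimits
  haveI : PreservesFiniteLimits (DCoh.sheafHom M) := PreservesLimitsOfSize.preservesFiniteLimits _
  haveI : (DCoh.sheafHom M).Additive := (DCoh.sheafHomAdj M).right_adjoint_additive
  have hk : DCoh.IsKFlat (oneCx M) := KFlatLib.isKFlat_of_isStrictlyPerfect (isStrictlyPerfect_oneCx M hM)
  let F := DCoh.tensorRightMod M
  let y : DerivedCategory.Q ⋙ DCoh.LTensorCx (oneCx M) ≅ DerivedCategory.Q ⋙ F.mapDerivedCategory :=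
    Dual3Lib.flatCnt' (oneCx M) hk ≪≫ Functor.isoWhiskerRight
      ((Gen.tRSingleIso (DCoh.tensorBi (X := X)) M).symm ≪≫
        NatIso.mapHomologicalComplex (KoszOrthLib.tRNat M) (ComplexShape.up ℤ)) DerivedCategory.Q ≪≫
      F.mapDerivedCategoryFactors.symm
  let z : DCoh.LTensorCx (oneCx M) ≅ F.mapDerivedCategory :=
    (Localization.whiskeringLeftFunctor' DerivedCategory.Q
      (HomologicalComplex.quasiIso X.Modules (ComplexShape.up ℤ)) _).preimageIso y
  let A := (DerCompLib.exactAdjD ((DCoh.sheafHomAdj M).ofNatIsoLeft (tensorSwapNat M))).ofNatIsoLeft z.symm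
  exact ⟨((DCoh.RSheafHomAdj (oneCx M)).rightAdjointUniq A).app _ ≪≫
    ((DCoh.sheafHom M).mapDerivedCategorySingleFunctor 0).app N⟩

end Groth.Agent.FMKLib
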