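import Groth.Agent.PerfDualLib.Dual
import Groth.Agent.ProjFormLib.Main
import Groth.Agent.PerfBaseLib.FlatProper
import Groth.Agent.CohGenLib.Pro

/-!
# Flat inverse images commute with duals of perfect complexes
-/

set_option autoImplicit false
set_option linter.style.haveILetI false
set_option backward.isDefEq.respectTransparency false
set_option backward.isDefEq.respectTransparency.types false
set_option maxHeartbeats 1000000

universe u

open CategoryTheory CategoryTheory.Limits AlgebraicGeometry HomologicalComplex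
open Groth.Agent.DerLib Groth.Agent.PerfDualLib Groth.Agent.ProjFormLib

attribute [local instance] HasDerivedCategory.standard

noncomputable section

namespace Groth.Agent.FMKLib

variable {X' X : Scheme.{u}} (f : X' ⟶ X)

/-- Flat inverse images of quasi-isomorphisms on an open. -/
theorem qisOn_pull_flat [Flat f] {U : X.Opens} {P Q : Cx X} {g : P ⟶ Q} (h : QisOn U g) :
    QisOn (f ⁻¹ᵁ U) ((pullC f).map g) := fun x hx => by
  haveI : QuasiIso ((KFlatLib.stalkCx X (f x)).map g) := h (f x) hx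
  haveI : PreservesFiniteLimits (ModuleCat.extendScalars.{u, u, u} (f.stalkMap x).hom) :=
    ModuleCat.preservesFiniteLimits_extendScalars_of_flat (Flat.stalkMap f x)
  haveI : PreservesFiniteColimits (ModuleCat.extendScalars.{u, u, u} (f.stalkMap x).hom) :=
    haveI : PreservesColimitsOfSize.{0, 0} (ModuleCat.extendScalars.{u, u, u} (f.stalkMap x).hom) :=
      (ModuleCat.extendRestrictScalarsAdj _).leftAdjoint_preservesColimits
    PreservesColimitsOfSize.preservesFiniteColimits _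
  haveI : QuasiIso ((KFlatLib.extCx f x).map ((KFlatLib.stalkCx X (f x)).map g)) := inferInstance
  haveI : QuasiIso ((KFlatLib.stalkCx X' x).map ((pullC f).map g) ≫
      (KFlatLib.stalkPullCxIso f x Q).hom) := by
    rw [KFlatLib.stalkPullCxIso_natural]
    infer_instance
  exact quasiIso_of_comp_right ((KFlatLib.stalkCx X' x).map ((pullC f).map g))
    (KFlatLib.stalkPullCxIso f x Q).hom

theorem quasiIso_pull_flat [Flat f] {P Q : Cx X} (g : P ⟶ Q) [QuasiIso g] :
    QuasiIso ((pullC f).map g) :=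
  quasiIso_of_qisOn_top (qisOn_pull_flat f (U := ⊤) (QisOn.of_quasiIso ⊤ g))

/-- For a flat morphism the derived inverse image is the inverse image of any complex. -/
theorem nonempty_lpull_flat [Flat f] [DCoh.HasLpull f] (C : Cx X) :
    Nonempty ((DCoh.Lpull f).obj (DerivedCategory.Q.obj C) ≅
      DerivedCategory.Q.obj ((pullC f).obj C)) := by
  haveI : QuasiIso ((KFlatLib.resψ X).app C) := KFlatLib.quasiIso_resψ C
  haveI := quasiIso_pull_flat f ((KFlatLib.resψ X).app C)
  exact ⟨(DCoh.Lpull f).mapIso (asIso (DerivedCategory.Q.map ((KFlatLib.resψ X).app C))).symm ≪≫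
    KFlatLib.lpullObjIso f _ (KFlatLib.good_resP C).1 ≪≫
    asIso (DerivedCategory.Q.map ((pullC f).map ((KFlatLib.resψ X).app C)))⟩

variable {J : Cx X} {J' : Cx X'} (α : (pullC f).obj J ⟶ J')

/-- The comparison `f^* Hom(K, J) ⟶ Hom(f^* K, J')`. -/
def dualCmp (K : Cx X) : (pullC f).obj (iG K J) ⟶ iG ((pullC f).obj K) J' :=
  (Gen.gAdj (Tb X') ((pullC f).obj K)).homEquiv _ _
    ((KFlatLib.pullTensorCxIso f (iG K J) K).hom ≫ (pullC f).map (Gen.ev (Tb X) K J) ≫ α)

theorem dualCmp_natural {K K' : Cx X} (κ : K ⟶ K') :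
    (pullC f).map (gm κ J) ≫ dualCmp f α K = dualCmp f α K' ≫ gm ((pullC f).map κ) J' := by
  refine Gen.adjunct_injective ?_
  rw [Gen.adjunct_comp, Gen.adjunct_comp_Gmap]
  simp only [dualCmp, Gen.adjunct, Equiv.symm_apply_apply]
  change mapBifunctorMap ((pullC f).map (gm κ J)) (𝟙 _) (DCoh.tensorBi (X := X')) (ComplexShape.up ℤ) ≫ _ =
    mapBifunctorMap (𝟙 _) ((pullC f).map κ) (DCoh.tensorBi (X := X')) (ComplexShape.up ℤ) ≫ _
  rw [reassoc_of% (pullTensor_natural₁ f (gm κ J) K), reassoc_of% (pullTensor_natural₂ f (iG K' J) κ)]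
  refine congrArg (_ ≫ ·) ?_
  rw [← Functor.map_comp_assoc, ← Functor.map_comp_assoc]
  exact congrArg (fun m => (pullC f).map m ≫ α) (Gen.ev_natural (T := Tb X) κ J)

theorem quasiIso_stalk_contractible {P Q : Cx X'} (hP : Homotopy (𝟙 P) 0) (hQ : Homotopy (𝟙 Q) 0)
    (e : P ⟶ Q) (x : X') : QuasiIso ((KFlatLib.stalkCx X' x).map e) :=
  Gen.quasiIso_FC_of_contractible (DerSch.stalkFunctor X' x) hP hQ e

theorem dualCmp_three [Flat f] {S : ShortComplex (Cx X)} (hS : KFlatLib.DegSplit S) (x : X') :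
    (QuasiIso ((KFlatLib.stalkCx X' x).map (dualCmp f α S.X₂)) →
      QuasiIso ((KFlatLib.stalkCx X' x).map (dualCmp f α S.X₃)) →
      QuasiIso ((KFlatLib.stalkCx X' x).map (dualCmp f α S.X₁))) ∧
    (QuasiIso ((KFlatLib.stalkCx X' x).map (dualCmp f α S.X₁)) →
      QuasiIso ((KFlatLib.stalkCx X' x).map (dualCmp f α S.X₃)) →
      QuasiIso ((KFlatLib.stalkCx X' x).map (dualCmp f α S.X₂))) ∧
    (QuasiIso ((KFlatLib.stalkCx X' x).map (dualCmp f α S.X₁)) →
      QuasiIso ((KFlatLib.stalkCx X' x).map (dualCmp f α S.X₂)) →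
      QuasiIso ((KFlatLib.stalkCx X' x).map (dualCmp f α S.X₃))) := by
  haveI : (Scheme.Modules.pullback f).Additive :=
    (Scheme.Modules.pullbackPushforwardAdjunction f).left_adjoint_additive
  obtain ⟨hg⟩ := Gen.nonempty_degSplit_G (T := Tb X) hS J
  have hS' : KFlatLib.DegSplit (S.map (pullC f)) := fun n => (hS n).map (Scheme.Modules.pullback f)
  have hsrc : KFlatLib.DegSplit ((Gen.gSeq (Tb X) S J).map (pullC f)) := fun n =>
    (hg n).map (Scheme.Modules.pullback f)
  let φ : (Gen.gSeq (Tb X) S J).map (pullC f) ⟶ Gen.gSeq (Tb X') (S.map (pullC f)) J' :=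
    ShortComplex.homMk (dualCmp f α S.X₃) (dualCmp f α S.X₂) (dualCmp f α S.X₁)
      (dualCmp_natural f α S.g).symm (dualCmp_natural f α S.f).symm
  obtain ⟨h1, h2, h3⟩ := Gen.three_of_map (DerSch.stalkFunctor X' x) φ
    (KFlatLib.shortExact_of_degSplit hsrc) (Gen.shortExact_G (T := Tb X') hS' J')
  exact ⟨fun a b => h3 b a, fun a b => h2 b a, fun a b => h1 b a⟩

theorem quasiIso_dualCmp_unit [QuasiIso α] : QuasiIso (dualCmp f α (unitCx X)) := by
  let e' : Gen.tR (Tb X') ((pullC f).obj (unitCx X)) ≅ 𝟭 (Cx X') :=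
    ((Tb X').map₂CochainComplex.flip.mapIso (PerfBaseLib.pullUnitIso f)) ≪≫ unitNat
  obtain ⟨h1, h2⟩ := Gen.isIso_unit_counit (T := Tb X) unitNat
  haveI := h1
  haveI := h2
  haveI : IsIso (Gen.ev (Tb X) (unitCx X) J) := by
    rw [Gen.ev, Gen.adjunct, Adjunction.homEquiv_counit, CategoryTheory.Functor.map_id, Category.id_comp]
    infer_instance
  let z := (KFlatLib.pullTensorCxIso f (iG (unitCx X) J) (unitCx X)).hom ≫
    (pullC f).map (Gen.ev (Tb X) (unitCx X) J) ≫ α
  haveI : QuasiIso z := inferInstance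
  obtain ⟨h1', -⟩ := Gen.isIso_unit_counit (T := Tb X') e'
  haveI := h1'
  let γ := Gen.gIsoId (Tb X') e'
  haveI : QuasiIso ((Gen.G (Tb X') ((pullC f).obj (unitCx X))).map z) := by
    have h := γ.hom.naturality z
    rw [← IsIso.eq_comp_inv] at h
    rw [h]
    simp only [Functor.id_map, Category.assoc]
    infer_instance
  rw [dualCmp, Adjunction.homEquiv_unit]
  infer_instance

theorem loc_dualCmp [Flat f] [J.IsKInjective] [J'.IsKInjective] [QuasiIso α] (U : X.Opens) :
    Loc U (fun K => QisOn (f ⁻¹ᵁ U) (dualCmp f α K)) where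
  qis {K K'} κ hκ := by
    have h1 := qisOn_pull_flat f (qisOn_gm hκ J)
    have h2 := qisOn_gm (qisOn_pull_flat f hκ) J'
    have key : ∀ x, x ∈ f ⁻¹ᵁ U → (QuasiIso ((KFlatLib.stalkCx X' x).map (dualCmp f α K')) ↔
        QuasiIso ((KFlatLib.stalkCx X' x).map (dualCmp f α K))) := fun x hx =>
      @Gen.quasiIso_iff_of_square _ _ _ _ _ _ (DerSch.stalkFunctor X' x) _ _ _ _ _ _ _ _ _
        (dualCmp_natural f α κ) (h1 x hx) (h2 x hx)
    exact ⟨fun h x hx => (key x hx).2 (h x hx), fun h x hx => (key x hx).1 (h x hx)⟩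
  contractible {W} hW x _ := by
    haveI : (Scheme.Modules.pullback f).Additive :=
      (Scheme.Modules.pullbackPushforwardAdjunction f).left_adjoint_additive
    have hW' : Homotopy (𝟙 ((pullC f).obj W)) 0 :=
      (Homotopy.ofEq ((pullC f).map_id W).symm).trans
        (((Scheme.Modules.pullback f).mapHomotopy hW).trans (Homotopy.ofEq ((pullC f).map_zero _ _)))
    obtain ⟨hG⟩ := Gen.nonempty_contractible_G (T := Tb X) hW J
    obtain ⟨hG'⟩ := Gen.nonempty_contractible_G (T := Tb X') hW' J'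
    exact quasiIso_stalk_contractible
      ((Homotopy.ofEq ((pullC f).map_id _).symm).trans
        (((Scheme.Modules.pullback f).mapHomotopy hG).trans (Homotopy.ofEq ((pullC f).map_zero _ _))))
      hG' _ x
  ext₁ hS h h' x hx := (dualCmp_three f α hS x).1 (h x hx) (h' x hx)
  ext₂ hS h h' x hx := (dualCmp_three f α hS x).2.1 (h x hx) (h' x hx)
  ext₃ hS h h' x hx := (dualCmp_three f α hS x).2.2 (h x hx) (h' x hx)
  unit := haveI := quasiIso_dualCmp_unit f α; QisOn.of_quasiIso _ _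

theorem quasiIso_dualCmp [Flat f] [J.IsKInjective] [J'.IsKInjective] [QuasiIso α] {K : Cx X}
    (hK : DCoh.IsPerfect (DerivedCategory.Q.obj K)) : QuasiIso (dualCmp f α K) :=
  quasiIso_of_qisOn_top fun x _ => by
    obtain ⟨U, hx, E, a, b, hv, hf, ⟨e⟩⟩ := exists_free_nbhd hK (f x)
    exact (loc_dualCmp f α U).prop_of_iso K E a b hv hf e x hx

/-- `Lf^*(K^∨) ≅ (Lf^*K)^∨` for flat `f` and perfect `K`. -/
theorem nonempty_lpull_dual [Flat f] [DCoh.HasLpull f] (K : Cx X)
    (hK : DCoh.IsPerfect (DerivedCategory.Q.obj K))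
    [DCoh.HasLTensorCx K] [DCoh.HasRSheafHom K] (K' : Cx X')
    (eK : DerivedCategory.Q.obj K' ≅ (DCoh.Lpull f).obj (DerivedCategory.Q.obj K))
    [DCoh.HasLTensorCx K'] [DCoh.HasRSheafHom K'] :
    Nonempty ((DCoh.Lpull f).obj ((DCoh.RSheafHom K).obj (DerivedCategory.Q.obj (unitCx X))) ≅
      (DCoh.RSheafHom K').obj (DerivedCategory.Q.obj (unitCx X'))) := by
  obtain ⟨J, hJ, ⟨eJ⟩⟩ := KInjUse.exists_iso_Q_kInjective (DerivedCategory.Q.obj (unitCx X))
  obtain ⟨J', hJ', ⟨eJ'⟩⟩ := KInjUse.exists_iso_Q_kInjective (DerivedCategory.Q.obj (unitCx X'))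
  obtain ⟨q, hq, -⟩ := exists_quasiIso eJ
  haveI := hq
  haveI := quasiIso_pull_flat f q
  obtain ⟨α, hα, -⟩ := exists_quasiIso (P := (pullC f).obj J) (J := J')
    ((asIso (DerivedCategory.Q.map ((pullC f).map q))).symm ≪≫
      DerivedCategory.Q.mapIso (PerfBaseLib.pullUnitIso f) ≪≫ eJ')
  haveI := hα
  haveI := quasiIso_dualCmp f α hK
  obtain ⟨g⟩ := nonempty_rSheafHom_iso K J eJ.symm
  obtain ⟨g'⟩ := nonempty_rSheafHom_iso K' J' eJ'.symm
  obtain ⟨p⟩ := nonempty_lpull_flat f (iG K J)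
  obtain ⟨p'⟩ := nonempty_lpull_flat f K
  obtain ⟨c⟩ := nonempty_iG_congr (eK ≪≫ p') J'
  exact ⟨(DCoh.Lpull f).mapIso g ≪≫ p ≪≫ asIso (DerivedCategory.Q.map (dualCmp f α K)) ≪≫
    c.symm ≪≫ g'.symm⟩

end Groth.Agent.FMKLib
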