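import Groth.Agent.FMKLib.AffDual
import Groth.Agent.FMKLib.AffModel
import Groth.Agent.FMKLib.LocFreeHom
import Groth.Agent.FMKLib.PullDual
import Groth.Agent.FMKLib.DualPhi
import Groth.Agent.FMKLib.Supp
import Groth.Agent.KiehlLib.SuppPC
import Groth.Agent.TildePCLib.Main
import Groth.Agent.PerfBaseLib.RpushTor
import Groth.Agent.PerfBaseLib.SplitSheaf
import Groth.Agent.DCohRestrLib.RHomRestr

/-!
# Pointwise vanishing for the derived dual of a transform of a sheaf
-/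

set_option autoImplicit false
set_option linter.style.haveILetI false
set_option backward.isDefEq.respectTransparency false
set_option backward.isDefEq.respectTransparency.types false
set_option maxHeartbeats 1000000
set_option synthInstance.maxHeartbeats 200000

universe u

open CategoryTheory CategoryTheory.Limits AlgebraicGeometry HomologicalComplex
open Groth.Agent.DerLib Groth.Agent.PerfDualLib

attribute [local instance] HasDerivedCategory.standard

noncomputable section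

namespace Groth.Agent.FMKLib

section Alg

variable {A : Type u} [CommRing A] [IsNoetherianRing A] {P : CochainComplex (ModuleCat.{u} A) ℤ}

/-- A cocycle of the dual of a complex contractible at every prime in one degree is a coboundary. -/
theorem exists_factor_of_locContr (q : ℤ) (h : ∀ (p : Ideal A) [p.IsPrime], LocContr P p q)
    {N : Type u} [AddCommGroup N] [Module A N] (g : P.X q →ₗ[A] N)
    (hg : g ∘ₗ (P.d (q - 1) q).hom = 0) :
    ∃ h : P.X (q + 1) →ₗ[A] N, h ∘ₗ (P.d q (q + 1)).hom = g := by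
  let L := LinearMap.range (LinearMap.lcomp A N (P.d q (q + 1)).hom)
  have htop : L.comap (LinearMap.toSpanSingleton A _ g) = ⊤ := by
    by_contra hne
    obtain ⟨m, hm, hle⟩ := Ideal.exists_le_maximal _ hne
    haveI := hm.isPrime
    obtain ⟨s, hs, r, t, hrt⟩ := h m
    refine hs (hle ⟨g ∘ₗ t, LinearMap.ext fun x => ?_⟩)
    show g (t ((P.d q (q + 1)).hom x)) = s • g x
    rw [← map_smul, ← hrt x, map_add]
    have h0 : g ((P.d (q - 1) q).hom (r x)) = 0 := LinearMap.congr_fun hg (r x)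
    rw [h0, zero_add]
  obtain ⟨h', hh⟩ := (htop ▸ trivial : (1 : A) ∈ L.comap (LinearMap.toSpanSingleton A _ g))
  exact ⟨h', hh.trans (one_smul A g)⟩

end Alg

/-- `M[0] ⊗ N[0] = (M ⊗ N)[0]` for `N` K-flat in degree zero. -/
theorem nonempty_lTensor_single {X : Scheme.{u}} (N : X.Modules) (hN : DCoh.IsKFlat (oneCx N))
    [DCoh.HasLTensorCx (oneCx N)] (M : X.Modules) :
    Nonempty ((DCoh.LTensorCx (oneCx N)).obj (DCoh.inD X M) ≅
      DCoh.inD X ((DCoh.tensorRightMod N).obj M)) :=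
  ⟨(DCoh.LTensorCx (oneCx N)).mapIso (oneCxIso M).symm ≪≫ (Dual3Lib.flatCnt' (oneCx N) hN).app (oneCx M) ≪≫
    DerivedCategory.Q.mapIso (((Gen.tRSingleIso (DCoh.tensorBi (X := X)) N).app (oneCx M)).symm ≪≫
      (NatIso.mapHomologicalComplex (KoszOrthLib.tRNat N) (ComplexShape.up ℤ)).app (oneCx M) ≪≫
      (HomologicalComplex.singleMapHomologicalComplex (DCoh.tensorRightMod N) (ComplexShape.up ℤ) 0).app M) ≪≫
    oneCxIso _⟩

/-- A flat derived pullback of a module is a module. -/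
theorem nonempty_lpull_inD {X Y : Scheme.{u}} (f : X ⟶ Y) [Flat f] [DCoh.HasLpull f] (M : Y.Modules) :
    Nonempty ((DCoh.Lpull f).obj (DCoh.inD Y M) ≅ DCoh.inD X ((Scheme.Modules.pullback f).obj M)) := by
  obtain ⟨e⟩ := nonempty_lpull_flat f (oneCx M)
  exact ⟨(DCoh.Lpull f).mapIso (oneCxIso M).symm ≪≫ e ≪≫ DerivedCategory.Q.mapIso
    ((HomologicalComplex.singleMapHomologicalComplex (Scheme.Modules.pullback f) (ComplexShape.up ℤ) 0).app M) ≪≫
    oneCxIso _⟩

/-- The derived fibres of the transform of a sheaf by a locally free kernel vanish in negative degrees. -/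
theorem isZero_HD_fibre_neg (k : Type u) [Field k] {X Y : Scheme.{u}} (a : X ⟶ Spec (CommRingCat.of k))
    (b : Y ⟶ Spec (CommRingCat.of k)) [IsProper a] [LocallyOfFiniteType b]
    (P₀ : (pullback a b).Modules) (hP₀ : FlatMod.IsFinLocFree P₀)
    [DCoh.HasLpull (pullback.fst a b)] [DCoh.HasLTensorCx (oneCx P₀)] [DCoh.HasRpush (pullback.snd a b)]
    (F : X.Modules) (hF : DCoh.IsPerfect (DCoh.inD X F)) (y : Y)
    [DCoh.HasLpull (Y.fromSpecResidueField y)] (q : ℤ) (hq : q < 0) :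
    IsZero (DCoh.HD ((DCoh.Lpull (Y.fromSpecResidueField y)).obj
      ((FMK.phi a b (oneCx P₀)).obj (DCoh.inD X F))) q) := by
  haveI : IsLocallyNoetherian Y := LocallyOfFiniteType.isLocallyNoetherian b
  haveI : IsProper (pullback.snd a b) := MorphismProperty.pullback_snd a b inferInstance
  haveI : Flat (pullback.snd a b) := inferInstance
  let ι := Y.fromSpecResidueField y
  let j := pullback.fst (pullback.snd a b) ι
  haveI := KFlatLib.hasLpull j
  haveI := DCohRestrLib.hasRΓ (pullback (pullback.snd a b) ι)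
  have hP := isPerfect_oneCx P₀ hP₀
  refine (isZero_fibre_iff (pullback.snd a b) _
    (KoszOrthLib.isQCohD_of_isPerfect (isPerfect_lpull_tensor (pullback.fst a b) _ hP _ hF))
    (isPerfect_phi k a b _ hP _ hF) y q).1 ((isZero_RΓ_iff _ q).2 ?_)
  haveI : Flat (ι ≫ b) := inferInstance
  haveI : Flat (j ≫ pullback.fst a b) := by
    rw [show j ≫ pullback.fst a b =
      (pullbackLeftPullbackSndIso a b ι).hom ≫ pullback.fst a (ι ≫ b) from
      (pullbackLeftPullbackSndIso_hom_fst a b ι).symm]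
    infer_instance
  haveI := KFlatLib.hasLpull (j ≫ pullback.fst a b)
  have hk : DCoh.IsKFlat (oneCx P₀) :=
    KFlatLib.isKFlat_of_isStrictlyPerfect (isStrictlyPerfect_oneCx P₀ hP₀)
  haveI := KFlatLib.hasLTensorCx ((KFlatLib.pullCx j).obj (oneCx P₀))
  let P₁ := (Scheme.Modules.pullback j).obj P₀
  let s : (KFlatLib.pullCx j).obj (oneCx P₀) ≅ oneCx P₁ :=
    (HomologicalComplex.singleMapHomologicalComplex (Scheme.Modules.pullback j) (ComplexShape.up ℤ) 0).app P₀
  have hk₁ : DCoh.IsKFlat (oneCx P₁) := DCohRestrLib.isKFlat_of_iso s (KFlatLib.isKFlat_pull j hk)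
  haveI := KFlatLib.hasLTensorCx (oneCx P₁)
  obtain ⟨c⟩ := KFlatLib.lpull_lTensorCx j (oneCx P₀) hk ((DCoh.Lpull (pullback.fst a b)).obj (DCoh.inD X F))
  obtain ⟨c'⟩ := KFlatLib.lpull_comp j (pullback.fst a b)
  obtain ⟨c''⟩ := nonempty_lpull_inD (j ≫ pullback.fst a b) F
  obtain ⟨cs⟩ := ProjFormLib.nonempty_lTensor_congr_iso (DerivedCategory.Q.mapIso s)
  obtain ⟨ct⟩ := nonempty_lTensor_single P₁ hk₁ ((Scheme.Modules.pullback (j ≫ pullback.fst a b)).obj F)
  refine NoHom.of_iso ?_ (c ≪≫ cs.app _ ≪≫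
    (DCoh.LTensorCx (oneCx P₁)).mapIso (c'.app _ ≪≫ c'') ≪≫ ct).symm
  exact noHom_of_isGE _ q 0 hq

/-- The derived dual of a complex with an affine model vanishes where the model has no cocycles. -/
theorem subsingleton_stalk_rSheafHom {Y : Scheme.{u}} [IsLocallyNoetherian Y]
    (K : CochainComplex Y.Modules ℤ) (hK : DCoh.IsPerfect (DerivedCategory.Q.obj K))
    [DCoh.HasLTensorCx K] [DCoh.HasRSheafHom K] (w : Y.Modules) (hw : Coh.IsQCoh w)
    {A : CommRingCat.{u}} [IsNoetherianRing A] (j : Spec A ⟶ Y) [IsOpenImmersion j]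
    (M : CochainComplex (ModuleCat.{u} A) ℤ) (c d : ℤ) (hv : ∀ i, i < c ∨ d < i → Subsingleton (M.X i))
    (hfin : ∀ i, Module.Finite A (M.X i)) (hproj : ∀ i, Module.Projective A (M.X i))
    (α : DerivedCategory.Q.obj ((PerfFibreLib.tC A).obj M) ≅ (PerfLib.resD j).obj (DerivedCategory.Q.obj K))
    (N : ModuleCat.{u} A) (β : (PerfLib.res j).obj w ≅ (tilde.functor A).obj N) (i q : ℤ) (hqi : q + i = 0)
    (hcyc : ∀ g : M.X q →ₗ[A] N, g ∘ₗ (M.d (q - 1) q).hom = 0 →
      ∃ h : M.X (q + 1) →ₗ[A] N, h ∘ₗ (M.d q (q + 1)).hom = g) (p : PrimeSpectrum A) :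
    Subsingleton ((DCoh.HD ((DCoh.RSheafHom K).obj (DCoh.inD Y w)) i).presheaf.stalk (j p)) := by
  haveI : IsLocallyNoetherian (Spec A) := isLocallyNoetherian_of_isOpenImmersion j
  haveI : IsNoetherian (Spec A) := ⟨⟩
  let E := (PerfFibreLib.tC A).obj M
  have hsp : DCoh.IsStrictlyPerfect E :=
    TildePCLib.isStrictlyPerfect_tC (fun i hi =>
      haveI := hv i hi
      ModuleCat.isZero_of_subsingleton _) (fun i => ⟨hfin i, hproj i⟩)
  haveI := KFlatLib.hasLTensorCx E
  haveI := BidualSchLib.hasRSheafHom E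
  haveI := KFlatLib.hasLpull j
  have hE : DCoh.IsPerfect (DerivedCategory.Q.obj E) :=
    PerfBaseLib.isPerfect_of_strictlyPerfect hsp
  obtain ⟨D, _, hD, eD, hDM⟩ := exists_dual_model K hK
  have hDp : DCoh.IsPerfect (DerivedCategory.Q.obj D) := PerfLib.isPerfect_of_iso eD.symm (isPerfect_dual K hK)
  haveI := hw
  obtain ⟨h₁⟩ := hDM (DCoh.inD Y w)
  obtain ⟨lr⟩ := PerfFibreLib.nonempty_lpull_res j (DerivedCategory.Q.obj K)
  obtain ⟨ld⟩ := nonempty_lpull_dual j K hK E (α ≪≫ lr.symm)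
  let D' := (KFlatLib.pullCx j).obj D
  haveI := KFlatLib.hasLTensorCx D'
  have hD' : DCoh.IsKFlat D' := KFlatLib.isKFlat_pull j hD
  let eD' : DerivedCategory.Q.obj D' ≅ (DCoh.RSheafHom E).obj (DerivedCategory.Q.obj (unitCx (Spec A))) :=
    (KFlatLib.lpullObjIso j D hD).symm ≪≫ (DCoh.Lpull j).mapIso eD ≪≫ ld
  obtain ⟨h₂⟩ := KFlatLib.lpull_lTensorCx j D hD (DCoh.inD Y w)
  obtain ⟨h₃⟩ := nonempty_lTensor_dual E hE D' eD' (DCoh.inD (Spec A) ((tilde.functor A).obj N))
  obtain ⟨h₄⟩ := PerfFibreLib.nonempty_lpull_res j (DCoh.inD Y w)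
  let eβ : (DCoh.Lpull j).obj (DCoh.inD Y w) ≅ DCoh.inD (Spec A) ((tilde.functor A).obj N) :=
    h₄ ≪≫ ((PerfLib.res j).mapDerivedCategorySingleFunctor 0).app w ≪≫
      (DerivedCategory.singleFunctor (Spec A).Modules 0).mapIso β
  let R := (DCoh.RSheafHom K).obj (DCoh.inD Y w)
  let e' : (DCoh.Lpull j).obj R ≅ (DCoh.LTensorCx D').obj (DCoh.inD (Spec A) ((tilde.functor A).obj N)) :=
    (DCoh.Lpull j).mapIso h₁.symm ≪≫ h₂ ≪≫ (DCoh.LTensorCx D').mapIso eβ
  have hRq : DCoh.IsQCohD ((DCoh.Lpull j).obj R) :=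
    KFlatLib.isQCohD_lpull j _ (KFlatLib.isQCohD_iso h₁ (KFlatLib.isQCohD_lTensorCx D
      (KoszOrthLib.isQCohD_of_isPerfect hDp) _ (PerfBaseLib.isQCohD_inD w hw)))
  haveI : (DerivedCategory.Q.obj E).IsLE d := (DerivedCategory.isLE_iff _ _).2 fun m hm => by
    refine IsZero.of_iso ?_ ((DerivedCategory.homologyFunctorFactors _ m).app E)
    haveI := hv m (Or.inr hm)
    exact (exactAt_iff_isZero_homology _ _).1 (ShortComplex.exact_of_isZero_X₂ _
      ((tilde.functor A).map_isZero (ModuleCat.isZero_of_subsingleton _)))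
  haveI : ((DCoh.RSheafHom E).obj (DCoh.inD (Spec A) ((tilde.functor A).obj N))).IsGE (0 - d) :=
    isGE_rSheafHom E d _ 0
  haveI : ((DCoh.Lpull j).obj R).IsGE (0 - d) :=
    DerivedCategory.TStructure.t.isGE_of_iso (e' ≪≫ h₃).symm _
  obtain ⟨-, a₀, b₀, -, hb₀⟩ := PerfLib.isCohD_and_bounded_of_isPerfect
    (PerfLib.isPerfect_of_iso eD'.symm (isPerfect_dual E hE))
  haveI : (DerivedCategory.Q.obj D').IsLE b₀ := hb₀
  haveI := KFlatLib.hasLTensorMod ((tilde.functor A).obj N)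
  obtain ⟨h₅⟩ := KiehlLib.nonempty_lTensorCx_inD D' hD' ((tilde.functor A).obj N)
  haveI := KiehlLib.isLE_lTensorMod ((tilde.functor A).obj N) (DerivedCategory.Q.obj D') b₀
  haveI : ((DCoh.Lpull j).obj R).IsLE b₀ :=
    DerivedCategory.TStructure.t.isLE_of_iso (e' ≪≫ h₅).symm _
  have hz : IsZero (DCoh.HD ((DCoh.Lpull j).obj R) i) :=
    isZero_HD_rSheafHom_tilde M d (fun m hm => hv m (Or.inr hm)) hsp.2 N _ (e' ≪≫ h₃) hRq
      (0 - d) b₀ i q hqi hcyc
  obtain ⟨h₆⟩ := PerfFibreLib.nonempty_lpull_res j R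
  refine ModuleCat.subsingleton_of_isZero ((FpqcPCLib.isZero_stalk_res_iff j p (DCoh.HD R i)).1 ?_)
  exact (DerSch.stalkFunctor (Spec A) p).map_isZero (hz.of_iso
    (((DerivedCategory.homologyFunctor _ i).mapIso h₆ ≪≫ DCohRestrLib.restrictHDIso j R i).symm))

end Groth.Agent.FMKLib
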