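import Groth.Agent.FMKLib.FibreAlg
import Groth.Agent.FMKLib.GV
import Groth.Agent.FMKLib.Ample
import Groth.Agent.PerfBaseLib.FlatProper
import Groth.Agent.PerfFibreLib.OpenLocus
import Groth.Agent.DCohRestrLib.Scheme
import Groth.Agent.KoszOrthLib.Neg
import Groth.Agent.QCohLib.Vanishing
import Groth.Agent.CMFlatLib.BaseChangeScheme
import Groth.Agent.S0921

/-!
# The cohomology of the fibres of a derived direct image, on free models of the stalks
-/

set_option autoImplicit false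
set_option linter.style.haveILetI false
set_option backward.isDefEq.respectTransparency false
set_option backward.isDefEq.respectTransparency.types false
set_option maxHeartbeats 1000000

universe u

open CategoryTheory CategoryTheory.Limits AlgebraicGeometry HomologicalComplex
open Groth.Agent.DerLib Groth.Agent.PerfDualLib

attribute [local instance] HasDerivedCategory.standard

noncomputable section

namespace Groth.Agent.FMKLib

variable {Z Y : Scheme.{u}}

/-- `- ⊗ G` depends only on the isomorphism class of `G`. -/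
def tensorRightModCongr {G G' : Z.Modules} (e : G ≅ G') : DCoh.tensorRightMod G ≅ DCoh.tensorRightMod G' :=
  Functor.isoWhiskerLeft DCoh.toP (Functor.isoWhiskerRight
    ((MonoidalCategory.tensoringRight _).mapIso (DCoh.toP.mapIso e)) DCoh.shP)

/-- The twist by the structure module is trivial. -/
theorem nonempty_tensorMod_unit (T : CochainComplex Z.Modules ℤ) :
    Nonempty ((KFlatLib.tensorModCx (Coh.structureModule Z)).obj T ≅ T) :=
  ⟨HomologicalComplex.Hom.isoOfComponents (fun n => modUnitNat.app (T.X n))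
    fun i j _ => (modUnitNat.hom.naturality (T.d i j)).symm⟩

/-- The hypercohomology of a fibre is that of the derived fibre of the derived direct image. -/
theorem isZero_fibre_iff [IsLocallyNoetherian Y] (q : Z ⟶ Y) [Flat q] [QuasiCompact q] [QuasiSeparated q]
    [DCoh.HasRpush q] (T : DCoh.D Z) (hT : DCoh.IsQCohD T) (hΦ : DCoh.IsPerfect ((DCoh.Rpush q).obj T))
    (y : Y) [DCoh.HasLpull (pullback.fst q (Y.fromSpecResidueField y))]
    [DCoh.HasRΓ (pullback q (Y.fromSpecResidueField y))] [DCoh.HasLpull (Y.fromSpecResidueField y)] (i : ℤ) :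
    IsZero ((DerivedCategory.homologyFunctor AddCommGrpCat.{u} i).obj
      ((DCoh.RΓ (pullback q (Y.fromSpecResidueField y))).obj
        ((DCoh.Lpull (pullback.fst q (Y.fromSpecResidueField y))).obj T))) ↔
      IsZero (DCoh.HD ((DCoh.Lpull (Y.fromSpecResidueField y)).obj ((DCoh.Rpush q).obj T)) i) := by
  let ι := Y.fromSpecResidueField y
  haveI := DCohRestrLib.hasRpush (pullback.snd q ι)
  haveI := DCohRestrLib.hasRΓ (Spec (Y.residueField y))
  haveI : IsLocallyNoetherian (Spec (Y.residueField y)) := inferInstance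
  obtain ⟨P, hP, ⟨eP⟩⟩ := KFlatLib.exists_good_rep T
  obtain ⟨eu⟩ := nonempty_tensorMod_unit P
  obtain ⟨bc⟩ := PerfBaseLib.nonempty_baseChange_twist (IsPullback.of_hasPullback q ι) hP.1
    (KFlatLib.isQCohD_iso eP.symm hT) (Coh.structureModule Z) QCohLib.isQCoh_unit
    (PerfBaseLib.isFlatOver_unit q)
  obtain ⟨eu'⟩ := nonempty_tensorMod_unit ((KFlatLib.pullCx (pullback.fst q ι)).obj P)
  let K := (DCoh.Lpull ι).obj ((DCoh.Rpush q).obj T)
  let e : K ≅ (DCoh.Rpush (pullback.snd q ι)).obj ((DCoh.Lpull (pullback.fst q ι)).obj T) :=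
    (DCoh.Lpull ι).mapIso ((DCoh.Rpush q).mapIso (eP.symm ≪≫ DerivedCategory.Q.mapIso eu.symm)) ≪≫ bc ≪≫
      (DCoh.Rpush (pullback.snd q ι)).mapIso (DerivedCategory.Q.mapIso
        ((NatIso.mapHomologicalComplex (tensorRightModCongr (KFlatLib.pullUnitIso (f := pullback.fst q ι)))
          (ComplexShape.up ℤ)).app _ ≪≫ eu') ≪≫
        (KFlatLib.lpullObjIso (pullback.fst q ι) P hP.1).symm ≪≫
        (DCoh.Lpull (pullback.fst q ι)).mapIso eP)
  obtain ⟨eR⟩ := DCohRestrLib.nonempty_RΓ_Rpush (pullback.snd q ι)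
  obtain ⟨hc, a, b, ha, hb⟩ := PerfLib.isCohD_and_bounded_of_isPerfect (S0921.result ι _ hΦ)
  haveI : K.IsGE a := ha
  haveI : K.IsLE b := hb
  refine Iff.trans ⟨fun h => h.of_iso ?_, fun h => h.of_iso ?_⟩
    (((isZero_RΓ_iff K i).trans (noHom_iff_hom K a b i fun r p hp =>
      haveI := (hc r).1
      QCohLib.subsingleton_HH_affine _ p hp)).trans
      ⟨isZero_of_hom_eq_zero _ (hc i), fun h f => h.eq_of_tgt _ _⟩)
  · exact (DerivedCategory.homologyFunctor AddCommGrpCat.{u} i).mapIso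
      ((DCoh.RΓ _).mapIso e ≪≫ eR.app _)
  · exact ((DerivedCategory.homologyFunctor AddCommGrpCat.{u} i).mapIso
      ((DCoh.RΓ _).mapIso e ≪≫ eR.app _)).symm

/-- Derived fibres of a perfect object on a free model. -/
theorem isZero_HD_lpull_point_iff [IsLocallyNoetherian Y] (Φ : DCoh.D Y) (U : Y.Opens) (v : (U : Scheme.{u}))
    (E' : Cx (U : Scheme.{u})) (a b : ℤ) (hv : ∀ j, j < a ∨ b < j → IsZero (E'.X j))
    (hf : ∀ j, KFlatLib.IsFinFree (E'.X j))
    (e : DerivedCategory.Q.obj E' ≅ (DCoh.restrictD U.ι).obj Φ)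
    [DCoh.HasLpull (Y.fromSpecResidueField (U.ι v))] (i : ℤ) :
    IsZero (DCoh.HD ((DCoh.Lpull (Y.fromSpecResidueField (U.ι v))).obj Φ) i) ↔
      Contr ((KFlatLib.stalkCx (U : Scheme.{u}) v).obj E') i := by
  let y := U.ι v
  let ι := Y.fromSpecResidueField y
  have hlf : ∀ j, FlatMod.IsFinLocFree (E'.X j) := fun j => KFlatLib.isFinLocFree_of_isFinFree (hf j)
  have hk : DCoh.IsKFlat E' := KFlatLib.isKFlat_of_isStrictlyPerfect ⟨⟨a, b, hv⟩, hlf⟩
  have hr : Set.range ι ⊆ Set.range U.ι := by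
    rintro _ ⟨z, rfl⟩
    exact ⟨v, (PerfFibreLib.fromSpecResidueField_apply' y z).symm⟩
  let l := IsOpenImmersion.lift U.ι ι hr
  have hl : l ≫ U.ι = ι := IsOpenImmersion.lift_fac _ _ _
  haveI := KFlatLib.hasLpull l
  haveI := KFlatLib.hasLpull U.ι
  haveI := KFlatLib.hasLpull (l ≫ U.ι)
  obtain ⟨c⟩ := KFlatLib.lpull_comp l U.ι
  obtain ⟨c'⟩ := PerfFibreLib.nonempty_lpull_congr hl Φ
  obtain ⟨c''⟩ := PerfBaseLib.nonempty_lpull_restrictD (U := Y) U Φ
  let C := (KFlatLib.pullCx l).obj E'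
  let e₁ : DCoh.HD ((DCoh.Lpull ι).obj Φ) i ≅ C.homology i :=
    (DerivedCategory.homologyFunctor _ i).mapIso (c'.symm ≪≫ (c.app Φ).symm ≪≫
      (DCoh.Lpull l).mapIso (c'' ≪≫ e.symm) ≪≫ KFlatLib.lpullObjIso l E' hk) ≪≫
    (DerivedCategory.homologyFunctorFactors _ i).app C
  have hlz : ∀ z, l z = v := fun z => U.ι.isOpenEmbedding.injective
    ((congrArg (fun m : Spec (Y.residueField y) ⟶ Y => m z) hl).trans
      (PerfFibreLib.fromSpecResidueField_apply' y z))
  haveI : SurjectiveOnStalks (l ≫ U.ι) := by rw [hl]; infer_instance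
  haveI : SurjectiveOnStalks l := SurjectiveOnStalks.of_comp l U.ι
  have key : ∀ z : Spec (Y.residueField y),
      IsZero (((KFlatLib.stalkCx _ z).obj C).homology i) ↔
        Contr ((KFlatLib.stalkCx (U : Scheme.{u}) v).obj E') i := fun z => by
    rw [← exactAt_iff_isZero_homology]
    have hfld : IsField ((Spec (Y.residueField y)).presheaf.stalk z) := CMFlatLib.isField_stalk z
    letI := hfld.toField
    rw [show Contr ((KFlatLib.stalkCx (U : Scheme.{u}) v).obj E') i ↔
      Contr ((KFlatLib.stalkCx (U : Scheme.{u}) (l z)).obj E') i by rw [hlz z]]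
    refine Iff.trans ⟨fun h => h.of_iso (KFlatLib.stalkPullCxIso l z E'),
      fun h => h.of_iso (KFlatLib.stalkPullCxIso l z E').symm⟩ ?_
    exact fib_exactAt_iff_contr _ (l.stalkMap_surjective z) _ (fun j => (finite_projective_stalk (hlf j) _).1)
      (fun j => (finite_projective_stalk (hlf j) _).2) i
  refine Iff.trans ⟨fun h => h.of_iso e₁.symm, fun h => h.of_iso e₁⟩ ?_
  rw [KFlatLib.isZero_homology_iff]
  exact ⟨fun h => (key (IsLocalRing.closedPoint (Y.residueField y))).1 (h _), fun h z => (key z).2 h⟩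

/-- The support of the cohomology on a free model. -/
theorem mem_support_iff_not_exactAt (Φ : DCoh.D Y) (U : Y.Opens) (v : (U : Scheme.{u}))
    (E' : Cx (U : Scheme.{u})) (e : DerivedCategory.Q.obj E' ≅ (DCoh.restrictD U.ι).obj Φ) (i : ℤ) :
    U.ι v ∈ CohB1.support (DCoh.HD Φ i) ↔ ¬ ((KFlatLib.stalkCx (U : Scheme.{u}) v).obj E').ExactAt i := by
  refine not_congr ?_
  rw [exactAt_iff_isZero_homology]
  let g : ((KFlatLib.stalkCx (U : Scheme.{u}) v).obj E').homology i ≅
      (DerSch.stalkFunctor (U : Scheme.{u}) v).obj ((PerfLib.res U.ι).obj (DCoh.HD Φ i)) :=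
    KFlatLib.stalkHomologyIso E' v i ≪≫ (DerSch.stalkFunctor (U : Scheme.{u}) v).mapIso
      (((DerivedCategory.homologyFunctorFactors (U : Scheme.{u}).Modules i).app E').symm ≪≫
        (DerivedCategory.homologyFunctor _ i).mapIso e ≪≫ DCohRestrLib.restrictHDIso U.ι Φ i)
  refine Iff.trans ?_ (⟨fun h => h.of_iso g, fun h => h.of_iso g.symm⟩ :
    IsZero ((DerSch.stalkFunctor (U : Scheme.{u}) v).obj ((PerfLib.res U.ι).obj (DCoh.HD Φ i))) ↔ _)
  rw [FpqcPCLib.isZero_stalk_res_iff]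
  exact ⟨fun h => @ModuleCat.isZero_of_subsingleton _ _ _ h, fun h => ModuleCat.subsingleton_of_isZero h⟩

/-- A perfect object has a free model near every point. -/
theorem exists_model {Φ : DCoh.D Y} (hΦ : DCoh.IsPerfect Φ) (y : Y) :
    ∃ (U : Y.Opens) (v : (U : Scheme.{u})) (E' : Cx (U : Scheme.{u})) (a b : ℤ), U.ι v = y ∧
      (∀ j, j < a ∨ b < j → IsZero (E'.X j)) ∧ (∀ j, KFlatLib.IsFinFree (E'.X j)) ∧
      Nonempty (DerivedCategory.Q.obj E' ≅ (DCoh.restrictD U.ι).obj Φ) := by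
  let K := DerivedCategory.Q.objPreimage Φ
  let eK := DerivedCategory.Q.objObjPreimageIso Φ
  obtain ⟨U, hyU, E', a, b, hv, hf, ⟨e'⟩⟩ := exists_free_nbhd (PerfLib.isPerfect_of_iso eK.symm hΦ) y
  exact ⟨U, ⟨y, hyU⟩, E', a, b, rfl, hv, hf, ⟨e' ≪≫
    ((Scheme.Modules.restrictFunctor U.ι).mapDerivedCategoryFactors.app K).symm ≪≫
      (DCoh.restrictD U.ι).mapIso eK⟩⟩

/-- `Lp^* E ⊗ P` is perfect. -/
theorem isPerfect_lpull_tensor {W : Scheme.{u}} (p : Z ⟶ W) [DCoh.HasLpull p] (P : CochainComplex Z.Modules ℤ)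
    (hP : DCoh.IsPerfect (DCoh.toD Z P)) [DCoh.HasLTensorCx P] (E : DCoh.D W) (hE : DCoh.IsPerfect E) :
    DCoh.IsPerfect ((DCoh.LTensorCx P).obj ((DCoh.Lpull p).obj E)) := by
  let P₀ := (KFlatLib.resP Z).obj P
  haveI : QuasiIso ((KFlatLib.resψ Z).app P) := KFlatLib.quasiIso_resψ P
  haveI := KFlatLib.hasLTensorCx P₀
  let eP : DCoh.toD _ P₀ ≅ DCoh.toD _ P := asIso (DerivedCategory.Q.map ((KFlatLib.resψ Z).app P))
  obtain ⟨c⟩ := ProjFormLib.nonempty_lTensor_congr_iso eP
  exact PerfLib.isPerfect_of_iso (c.app _)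
    (KFlatLib.isPerfect_lTensor P₀ (KFlatLib.good_resP P).1 (PerfLib.isPerfect_of_iso eP.symm hP) _
      (KFlatLib.isPerfect_lpull p E hE))

/-- A free model at a point of the transform, with its fibres. -/
theorem exists_phi_model (k : Type u) [Field k] {X Y : Scheme.{u}} (a : X ⟶ Spec (CommRingCat.of k))
    (b : Y ⟶ Spec (CommRingCat.of k)) [IsProper a] [LocallyOfFiniteType b]
    (P : CochainComplex (pullback a b).Modules ℤ) (hP : DCoh.IsPerfect (DCoh.toD (pullback a b) P))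
    [DCoh.HasLpull (pullback.fst a b)] [DCoh.HasLTensorCx P] [DCoh.HasRpush (pullback.snd a b)]
    [∀ y : ↥Y, DCoh.HasLpull (pullback.fst (pullback.snd a b) (Y.fromSpecResidueField y))]
    [∀ y : ↥Y, DCoh.HasRΓ (pullback (pullback.snd a b) (Y.fromSpecResidueField y))]
    (E : DCoh.D X) (hE : DCoh.IsPerfect E) (y : Y) :
    ∃ (U : Y.Opens) (v : (U : Scheme.{u})) (E' : Cx (U : Scheme.{u})) (p q : ℤ), U.ι v = y ∧
      (∀ j, j < p ∨ q < j → IsZero (E'.X j)) ∧ (∀ j, KFlatLib.IsFinFree (E'.X j)) ∧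
      Nonempty (DerivedCategory.Q.obj E' ≅ (DCoh.restrictD U.ι).obj ((FMK.phi a b P).obj E)) ∧
      (∀ i : ℤ, y ∈ CohB1.support (DCoh.HD ((FMK.phi a b P).obj E) i) ↔
        ¬ ((KFlatLib.stalkCx (U : Scheme.{u}) v).obj E').ExactAt i) ∧
      (∀ i : ℤ, IsZero ((DerivedCategory.homologyFunctor AddCommGrpCat.{u} i).obj
          ((DCoh.RΓ (pullback (pullback.snd a b) (Y.fromSpecResidueField y))).obj
            ((DCoh.Lpull (pullback.fst (pullback.snd a b) (Y.fromSpecResidueField y))).obj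
              ((DCoh.LTensorCx P).obj ((DCoh.Lpull (pullback.fst a b)).obj E))))) ↔
        Contr ((KFlatLib.stalkCx (U : Scheme.{u}) v).obj E') i) := by
  haveI : IsLocallyNoetherian Y := LocallyOfFiniteType.isLocallyNoetherian b
  haveI : IsProper (pullback.snd a b) := MorphismProperty.pullback_snd a b inferInstance
  haveI : Flat (pullback.snd a b) := inferInstance
  obtain ⟨U, v, E', p, q, rfl, hv, hf, ⟨e⟩⟩ := exists_model (isPerfect_phi k a b P hP E hE) y
  haveI := KFlatLib.hasLpull (Y.fromSpecResidueField (U.ι v))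
  refine ⟨U, v, E', p, q, rfl, hv, hf, ⟨e⟩, fun i => mem_support_iff_not_exactAt _ U v E' e i, fun i => ?_⟩
  exact (isZero_fibre_iff (pullback.snd a b) _
    (KoszOrthLib.isQCohD_of_isPerfect (isPerfect_lpull_tensor _ P hP E hE))
    (isPerfect_phi k a b P hP E hE) _ i).trans (isZero_HD_lpull_point_iff _ U v E' p q hv hf e i)

theorem ringKrullDim_stalk_open (U : Y.Opens) (v : (U : Scheme.{u})) :
    ringKrullDim ↑((U : Scheme.{u}).presheaf.stalk v) = ringKrullDim ↑(Y.presheaf.stalk (U.ι v)) :=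
  ringKrullDim_eq_of_ringEquiv (U.stalkIso v).commRingCatIsoToRingEquiv

end Groth.Agent.FMKLib
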