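import Groth.Agent.FlatCxLib.Extend
import Mathlib.Algebra.Category.ModuleCat.ChangeOfRings
import Mathlib.Algebra.Homology.ShortComplex.Abelian
import Mathlib.Algebra.Homology.ShortComplex.HomologicalComplex
import Mathlib.CategoryTheory.Abelian.Refinements
import Mathlib.LinearAlgebra.Charpoly.BaseChange
import Mathlib.LinearAlgebra.Determinant
import Mathlib.RingTheory.LocalRing.RingHom.Basic
import Mathlib.RingTheory.Flat.Basic
import Mathlib.RingTheory.LocalRing.Module

/-!
# Contractions of complexes of free modules over a local ring and their fibres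
-/

set_option autoImplicit false
set_option linter.style.haveILetI false
set_option backward.isDefEq.respectTransparency false
set_option backward.isDefEq.respectTransparency.types false

universe u v w

open CategoryTheory CategoryTheory.Limits HomologicalComplex

noncomputable section

namespace Groth.Agent.FMKLib

section Gen

variable {C : Type v} [Category.{w} C] [Abelian C]

/-- A contraction of a complex in one degree. -/
def Contr (S : CochainComplex C ℤ) (q : ℤ) : Prop :=
  ∃ (s : S.X q ⟶ S.X (q - 1)) (t : S.X (q + 1) ⟶ S.X q),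
    s ≫ S.d (q - 1) q + S.d q (q + 1) ≫ t = 𝟙 (S.X q)

theorem contr_iff (S : CochainComplex C ℤ) (i j k : ℤ) (hi : i + 1 = j) (hk : j + 1 = k) :
    Contr S j ↔ ∃ (s : S.X j ⟶ S.X i) (t : S.X k ⟶ S.X j),
      s ≫ S.d i j + S.d j k ≫ t = 𝟙 (S.X j) := by
  obtain rfl : i = j - 1 := by omega
  subst hk
  rfl

theorem Contr.exactAt {S : CochainComplex C ℤ} {q : ℤ} (h : Contr S q) : S.ExactAt q := by
  obtain ⟨s, t, hst⟩ := h
  rw [S.exactAt_iff' (q - 1) q (q + 1) (by simp) (by simp), ShortComplex.exact_iff_exact_up_to_refinements]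
  intro A x hx
  refine ⟨A, 𝟙 A, inferInstance, x ≫ s, ?_⟩
  change 𝟙 A ≫ x = (x ≫ s) ≫ S.d (q - 1) q
  change x ≫ S.d q (q + 1) = 0 at hx
  have key : ∀ (z : A ⟶ S.X q), z ≫ S.d q (q + 1) = 0 → 𝟙 A ≫ z = (z ≫ s) ≫ S.d (q - 1) q := fun z hz => by
    conv_lhs => rw [Category.id_comp, ← Category.comp_id z, ← hst]
    rw [Preadditive.comp_add, ← Category.assoc z (S.d q (q + 1)), hz, zero_comp, add_zero, Category.assoc]
  exact key x hx

theorem Contr.map {D : Type*} [Category D] [Abelian D] {S : CochainComplex C ℤ} {q : ℤ} (h : Contr S q)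
    (F : C ⥤ D) [F.Additive] : Contr ((F.mapHomologicalComplex (ComplexShape.up ℤ)).obj S) q := by
  obtain ⟨s, t, hst⟩ := h
  refine ⟨F.map s, F.map t, ?_⟩
  have := congrArg F.map hst
  rwa [Functor.map_add, Functor.map_comp, Functor.map_comp, CategoryTheory.Functor.map_id] at this

theorem Contr.of_iso {S S' : CochainComplex C ℤ} {q : ℤ} (h : Contr S q) (e : S ≅ S') : Contr S' q := by
  obtain ⟨s, t, hst⟩ := h
  refine ⟨e.inv.f q ≫ s ≫ e.hom.f (q - 1), e.inv.f (q + 1) ≫ t ≫ e.hom.f q, ?_⟩
  rw [Category.assoc, Category.assoc, e.hom.comm, ← e.inv.comm_assoc, ← Category.assoc s, ← Category.assoc _ t,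
    ← Preadditive.comp_add, ← Preadditive.add_comp, hst, Category.id_comp, ← HomologicalComplex.comp_f,
    e.inv_hom_id, HomologicalComplex.id_f]

theorem contr_iff_of_iso {S S' : CochainComplex C ℤ} (e : S ≅ S') (q : ℤ) : Contr S q ↔ Contr S' q :=
  ⟨fun h => h.of_iso e, fun h => h.of_iso e.symm⟩

theorem contr_of_isZero (S : CochainComplex C ℤ) (q : ℤ) (h : IsZero (S.X q)) : Contr S q :=
  ⟨0, 0, h.eq_of_src _ _⟩

theorem contr_of_lift (S : CochainComplex C ℤ) (q : ℤ) [Projective (S.X q)] (hex : S.ExactAt q)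
    (t : S.X (q + 1) ⟶ S.X q) (ht : S.d q (q + 1) ≫ t ≫ S.d q (q + 1) = S.d q (q + 1)) :
    Contr S q := by
  rw [S.exactAt_iff' (q - 1) q (q + 1) (by simp) (by simp)] at hex
  let S₀ := S.sc' (q - 1) q (q + 1)
  have he : (𝟙 (S.X q) - S.d q (q + 1) ≫ t) ≫ S₀.g = 0 := by
    show (𝟙 (S.X q) - S.d q (q + 1) ≫ t) ≫ S.d q (q + 1) = 0
    rw [Preadditive.sub_comp, Category.id_comp, Category.assoc, ht, sub_self]
  refine ⟨hex.liftFromProjective _ he, t, ?_⟩
  exact (congrArg (· + S.d q (q + 1) ≫ t) (hex.liftFromProjective_comp _ he)).trans (sub_add_cancel _ _)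

theorem contr_step (S : CochainComplex C ℤ) (q : ℤ) [Projective (S.X q)] (hex : S.ExactAt q)
    (h : Contr S (q + 1)) : Contr S q := by
  obtain ⟨s', t', hst⟩ := (contr_iff S q (q + 1) (q + 2) rfl (by omega)).1 h
  refine contr_of_lift S q hex s' ?_
  conv_rhs => rw [← Category.comp_id (S.d q (q + 1)), ← hst]
  rw [Preadditive.comp_add, ← Category.assoc _ (S.d (q + 1) (q + 2)), S.d_comp_d, zero_comp, add_zero]

theorem contr_of_exact_above (S : CochainComplex C ℤ) (b : ℤ) (hb : ∀ j, b < j → IsZero (S.X j))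
    (hproj : ∀ j, Projective (S.X j)) (i : ℤ) (hex : ∀ m, i ≤ m → S.ExactAt m) :
    ∀ m, i ≤ m → Contr S m := by
  have key : ∀ (r : ℕ) (m : ℤ), b < m + r → i ≤ m → Contr S m := by
    intro r
    induction r with
    | zero => exact fun m hm _ => contr_of_isZero S m (hb m (by simpa using hm))
    | succ r ih =>
      intro m hm him
      haveI := hproj m
      exact contr_step S m (hex m him) (ih (m + 1) (by omega) (by omega))
  exact fun m hm => key (b + 1 - m).toNat m (by omega) hm

end Gen

section Fibre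

variable {R : Type u} [CommRing R] {K : Type u} [Field K] (φ : R →+* K)

/-- The fibre of a complex. -/
abbrev fibCx (S : CochainComplex (ModuleCat.{u} R) ℤ) : CochainComplex (ModuleCat.{u} K) ℤ :=
  ((ModuleCat.extendScalars.{u, u, u} φ).mapHomologicalComplex (ComplexShape.up ℤ)).obj S

theorem contr_of_exactAt_field (S : CochainComplex (ModuleCat.{u} K) ℤ) (q : ℤ) (hex : S.ExactAt q) :
    Contr S q := by
  let d := (S.d q (q + 1)).hom
  obtain ⟨σ, hσ⟩ := d.rangeRestrict.exists_rightInverse_of_surjective d.range_rangeRestrict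
  obtain ⟨t, ht⟩ := LinearMap.exists_extend σ
  haveI : Projective (S.X q) :=
    (IsProjective.iff_projective _).1 (Module.Projective.of_free (R := K) (P := S.X q))
  refine contr_of_lift S q hex (ModuleCat.ofHom t) (ModuleCat.hom_ext (LinearMap.ext fun x => ?_))
  have h1 : t (d x) = σ (d.rangeRestrict x) := LinearMap.congr_fun ht (d.rangeRestrict x)
  have h2 := LinearMap.congr_fun hσ (d.rangeRestrict x)
  show d (t (d x)) = d x
  rw [h1]
  exact congrArg Subtype.val h2

variable {φ} in
theorem exists_extend_lift (hφ : Function.Surjective φ) {P Q : ModuleCat.{u} R} [Projective P]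
    (f : (ModuleCat.extendScalars.{u, u, u} φ).obj P ⟶ (ModuleCat.extendScalars.{u, u, u} φ).obj Q) :
    ∃ g : P ⟶ Q, (ModuleCat.extendScalars.{u, u, u} φ).map g = f := by
  let adj := ModuleCat.extendRestrictScalarsAdj.{u, u, u} φ
  haveI : Epi (adj.unit.app Q) := by
    rw [ModuleCat.epi_iff_surjective]
    intro z
    induction z using TensorProduct.induction_on with
    | zero => exact ⟨0, map_zero _⟩
    | tmul y m =>
      obtain ⟨r, rfl⟩ := hφ y
      refine ⟨r • m, ?_⟩
      rw [LinearMap.map_smul]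
      letI := φ.toAlgebra
      refine (?_ : _ = φ r • _).trans ((ModuleCat.ExtendScalars.smul_tmul (f := φ) (φ r) 1 m).trans ?_)
      · rfl
      · rw [mul_one]
    | add x y hx hy =>
      obtain ⟨a, ha⟩ := hx
      obtain ⟨b, hb⟩ := hy
      exact ⟨a + b, by rw [map_add, ha, hb]⟩
  refine ⟨Projective.factorThru (adj.homEquiv _ _ f) (adj.unit.app Q), ?_⟩
  apply (adj.homEquiv _ _).injective
  rw [Adjunction.homEquiv_unit]
  refine (adj.unit.naturality _).symm.trans ?_
  exact Projective.factorThru_comp _ _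

/-- A fibre that is exact in one degree gives a contraction there. -/
theorem contr_of_fib_exactAt [IsLocalRing R] (hφ : Function.Surjective φ)
    (S : CochainComplex (ModuleCat.{u} R) ℤ) (hfin : ∀ i, Module.Finite R (S.X i))
    (hproj : ∀ i, Projective (S.X i)) (q : ℤ) (hex : (fibCx φ S).ExactAt q) : Contr S q := by
  obtain ⟨s', t', hst'⟩ := contr_of_exactAt_field _ q hex
  haveI := hproj q
  haveI := hproj (q + 1)
  obtain ⟨s, hs⟩ := exists_extend_lift hφ (P := S.X q) (Q := S.X (q - 1)) s'
  obtain ⟨t, ht⟩ := exists_extend_lift hφ (P := S.X (q + 1)) (Q := S.X q) t'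
  let E := ModuleCat.extendScalars.{u, u, u} φ
  let U : S.X q ⟶ S.X q := s ≫ S.d (q - 1) q + S.d q (q + 1) ≫ t
  haveI : E.Additive := (ModuleCat.extendRestrictScalarsAdj φ).left_adjoint_additive
  have hU : E.map U = 𝟙 _ := by
    simp only [U, Functor.map_add, Functor.map_comp, E, hs, ht]
    exact hst'
  letI := φ.toAlgebra
  haveI := hfin q
  haveI : Module.Projective R (S.X q) := (IsProjective.iff_projective _).2 (hproj q)
  haveI : Module.Free R (S.X q) := Module.free_of_flat_of_isLocalRing
  let f : Module.End R (S.X q) := U.hom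
  have hbase : f.baseChange K = LinearMap.id := LinearMap.ext fun z => by
    have h := FlatCxLib.extEquiv_map (B := K) U ((FlatCxLib.extEquiv (B := K) (S.X q)).symm z)
    erw [LinearEquiv.apply_symm_apply] at h
    refine h.symm.trans ?_
    erw [hU]
    exact LinearEquiv.apply_symm_apply _ z
  haveI : IsLocalHom φ := hφ.isLocalHom φ
  have hdet : IsUnit (LinearMap.det f) := by
    refine isUnit_of_map_unit φ _ ?_
    have h := LinearMap.det_baseChange (A := K) f
    rw [hbase, LinearMap.det_id] at h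
    exact h ▸ isUnit_one
  obtain ⟨c, hc⟩ : IsUnit (f.charpoly.coeff 0) := by
    rw [LinearMap.det_eq_sign_charpoly_coeff] at hdet
    exact isUnit_of_mul_isUnit_right hdet
  let p := f.charpoly.divX
  let a : R := -↑c⁻¹
  have hinv : f * (a • Polynomial.aeval f p) = 1 := by
    have h := LinearMap.aeval_self_charpoly f
    rw [← f.charpoly.X_mul_divX_add, map_add, map_mul, Polynomial.aeval_X, Polynomial.aeval_C,
      add_eq_zero_iff_eq_neg, ← hc] at h
    rw [mul_smul_comm, h, Algebra.algebraMap_eq_smul_one, smul_neg, ← neg_smul, smul_smul]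
    simp [a]
  let d₁ := (S.d (q - 1) q).hom
  let d₂ := (S.d q (q + 1)).hom
  let v : Module.End R (S.X (q + 1)) := d₂ ∘ₗ t.hom
  have hdd : d₂ ∘ₗ d₁ = 0 := congrArg ModuleCat.Hom.hom (S.d_comp_d (q - 1) q (q + 1))
  have hcomm : ∀ x, d₂ (f x) = v (d₂ x) := fun x => by
    show d₂ (d₁ (s.hom x) + t.hom (d₂ x)) = d₂ (t.hom (d₂ x))
    rw [map_add, show d₂ (d₁ (s.hom x)) = 0 from LinearMap.congr_fun hdd _, zero_add]
  have hpow : ∀ (n : ℕ) (x), d₂ ((f ^ n) x) = (v ^ n) (d₂ x) := fun n => by
    induction n with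
    | zero => exact fun x => rfl
    | succ n ih => exact fun x => by rw [pow_succ, pow_succ, Module.End.mul_apply, ih, hcomm]; rfl
  have hpoly : ∀ (P : Polynomial R) (x), d₂ (Polynomial.aeval f P x) = Polynomial.aeval v P (d₂ x) := by
    intro P
    induction P using Polynomial.induction_on' with
    | add P Q hP hQ => intro x; simp only [map_add, LinearMap.add_apply, hP, hQ]
    | monomial n r =>
      intro x
      simp only [Polynomial.aeval_monomial, Module.End.mul_apply, Module.algebraMap_end_apply, map_smul, hpow]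
  refine ⟨ModuleCat.ofHom (s.hom ∘ₗ (a • Polynomial.aeval f p)),
    ModuleCat.ofHom (t.hom ∘ₗ (a • Polynomial.aeval v p)), ModuleCat.hom_ext (LinearMap.ext fun x => ?_)⟩
  show d₁ (s.hom ((a • Polynomial.aeval f p) x)) + t.hom ((a • Polynomial.aeval v p) (d₂ x)) = x
  have h := LinearMap.congr_fun hinv x
  refine Eq.trans ?_ h
  show _ = d₁ (s.hom _) + t.hom (d₂ ((a • Polynomial.aeval f p) x))
  simp only [LinearMap.smul_apply, map_smul, hpoly]

/-- Exactness of the fibre in one degree is the existence of a contraction. -/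
theorem fib_exactAt_iff_contr [IsLocalRing R] (hφ : Function.Surjective φ)
    (S : CochainComplex (ModuleCat.{u} R) ℤ) (hfin : ∀ i, Module.Finite R (S.X i))
    (hproj : ∀ i, Projective (S.X i)) (q : ℤ) : (fibCx φ S).ExactAt q ↔ Contr S q := by
  haveI : (ModuleCat.extendScalars.{u, u, u} φ).Additive :=
    (ModuleCat.extendRestrictScalarsAdj φ).left_adjoint_additive
  exact ⟨contr_of_fib_exactAt φ hφ S hfin hproj q, fun h => (h.map _).exactAt⟩

end Fibre

end Groth.Agent.FMKLib
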