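import Groth.Agent.FMKLib.DualPhi
import Groth.Agent.DualFMLib.FlatHom.Scal
import Groth.Agent.QRlimLib.Unbounded

/-!
# Shifts and integral transforms
-/

set_option autoImplicit false
set_option linter.style.haveILetI false
set_option backward.isDefEq.respectTransparency false
set_option backward.isDefEq.respectTransparency.types false
set_option maxHeartbeats 1000000
set_option synthInstance.maxHeartbeats 400000

universe u

open CategoryTheory CategoryTheory.Limits AlgebraicGeometry HomologicalComplex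
open Groth.Agent.DerLib Groth.Agent.PerfDualLib

attribute [local instance] HasDerivedCategory.standard

noncomputable section

namespace Groth.Agent.FMKLib

variable {X : Scheme.{u}}

/-- A shifted complex with `RHom(E⟦n⟧, W⟦n⟧) ≅ RHom(E, W)`. -/
theorem exists_shift_model (E : Cx X) [DCoh.HasLTensorCx E] [DCoh.HasRSheafHom E] (n : ℤ) :
    ∃ (E' : Cx X) (_ : DCoh.HasLTensorCx E') (_ : DCoh.HasRSheafHom E')
      (_ : DerivedCategory.Q.obj E' ≅ (DerivedCategory.Q.obj E)⟦n⟧),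
      ∀ W : DCoh.D X, Nonempty ((DCoh.RSheafHom E').obj (W⟦n⟧) ≅ (DCoh.RSheafHom E).obj W) := by
  obtain ⟨E₀, hE₀, ⟨eE⟩⟩ := DualFMLib.exists_flat_rep (DerivedCategory.Q.obj E)
  haveI := KFlatLib.hasLTensorCx E₀
  haveI := BidualSchLib.hasRSheafHom E₀
  let U : Cx X := (unitCx X)⟦n⟧
  have hU : DCoh.IsKFlat U :=
    Dual3Lib.isKFlat_shiftN (KFlatLib.isKFlat_of_isStrictlyPerfect (isStrictlyPerfect_unitCx X)) n
  haveI := KFlatLib.hasLTensorCx U
  obtain ⟨x⟩ := Dual3Lib.nonempty_flipShiftUnit n (Iso.refl U)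
  let y : DerivedCategory.Q ⋙ DCoh.LTensorCx U ≅ DerivedCategory.Q ⋙ shiftFunctor (DCoh.D X) n :=
    Dual3Lib.flatCnt' U hU ≪≫ x
  let z : DCoh.LTensorCx U ≅ shiftFunctor (DCoh.D X) n :=
    (Localization.whiskeringLeftFunctor' DerivedCategory.Q
      (HomologicalComplex.quasiIso X.Modules (ComplexShape.up ℤ)) _).preimageIso y
  let E' := ((DCoh.tensorCx (X := X)).obj E₀).obj U
  haveI := KFlatLib.hasLTensorCx E'
  haveI := BidualSchLib.hasRSheafHom E'
  obtain ⟨c⟩ := TensorAssocLib.nonempty_lTensor_comp E₀ U hU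
  let A := ((DCoh.RSheafHomAdj E₀).comp (shiftEquiv (DCoh.D X) n).toAdjunction).ofNatIsoLeft
    ((Functor.isoWhiskerLeft _ z).symm ≪≫ c)
  let ρ := (DCoh.RSheafHomAdj E').rightAdjointUniq A
  refine ⟨E', inferInstance, inferInstance,
    ((Dual3Lib.flatCnt' U hU).app E₀).symm ≪≫ y.app E₀ ≪≫ (shiftFunctor _ n).mapIso eE, fun W => ?_⟩
  obtain ⟨cE⟩ := nonempty_rSheafHom_congr (K := E₀) (K' := E) eE W
  exact ⟨ρ.app _ ≪≫ (DCoh.RSheafHom E₀).mapIso
    ((shiftFunctorCompIsoId (DCoh.D X) n (-n) (by omega)).app W) ≪≫ cE⟩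

/-- Integral transforms commute with shifts. -/
theorem nonempty_phi_shift {S X Y : Scheme.{u}} (a : X ⟶ S) (b : Y ⟶ S) (P : Cx (pullback a b))
    [DCoh.HasLpull (pullback.fst a b)] [DCoh.HasLTensorCx P] [DCoh.HasRpush (pullback.snd a b)]
    (M : DCoh.D X) (n : ℤ) :
    Nonempty ((FMK.phi a b P).obj (M⟦n⟧) ≅ ((FMK.phi a b P).obj M)⟦n⟧) := by
  obtain ⟨_, -⟩ := DualFMLib.exists_isTriangulated_lpull (pullback.fst a b)
  obtain ⟨_, -⟩ := QRlimLib.exists_isTriangulated_rpush (pullback.snd a b)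
  obtain ⟨e⟩ := nonempty_lTensor_shift P ((DCoh.Lpull (pullback.fst a b)).obj M) n
  exact ⟨(DCoh.Rpush (pullback.snd a b)).mapIso
    ((DCoh.LTensorCx P).mapIso (((DCoh.Lpull (pullback.fst a b)).commShiftIso n).app M) ≪≫ e) ≪≫
    ((DCoh.Rpush (pullback.snd a b)).commShiftIso n).app _⟩

end Groth.Agent.FMKLib
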