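import Groth.Agent.NewIntersectLib.Regular
import Mathlib.Algebra.Homology.ShortComplex.Abelian
import Mathlib.Algebra.Homology.ShortComplex.HomologicalComplex

/-!
# Bounded complexes of finite projectives over a local ring split below the depth
-/

set_option autoImplicit false
set_option linter.style.haveILetI false
set_option backward.isDefEq.respectTransparency false
set_option backward.isDefEq.respectTransparency.types false

universe u

open CategoryTheory CategoryTheory.Limits HomologicalComplex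

noncomputable section

namespace Groth.Agent.FMKLib

variable {R : Type u} [CommRing R]

/-- The cokernel in degree `n` of a complex exact below has finite projective dimension. -/
theorem exists_pdlt_coker [IsLocalRing R] [IsNoetherianRing R]
    (P : CochainComplex (ModuleCat.{u} R) ℤ) (a : ℤ) (ha : ∀ i, i < a → IsZero (P.X i))
    (hfin : ∀ i, Module.Finite R (P.X i)) (hproj : ∀ i, Projective (P.X i))
    (n : ℤ) (hex : ∀ j, j < n → P.ExactAt j) :
    ∃ m : ℕ, CommAlgDim.PDLT R ((cokernel (P.d (n - 1) n) : ModuleCat.{u} R) : Type u) m ∧ Module.Finite R ((cokernel (P.d (n - 1) n) : ModuleCat.{u} R) : Type u) := by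
  let K : ℤ → ModuleCat.{u} R := fun j => cokernel (P.d (j - 1) j)
  let π : ∀ j, P.X j ⟶ K j := fun j => cokernel.π _
  let ι : ∀ j, K j ⟶ P.X (j + 1) := fun j =>
    cokernel.desc (P.d (j - 1) j) (P.d j (j + 1)) (P.d_comp_d _ _ _)
  have hπι : ∀ j, π j ≫ ι j = P.d j (j + 1) := fun j => cokernel.π_desc _ _ _
  have hz : ∀ j, ι j ≫ π (j + 1) = 0 := fun j => by
    rw [← cancel_epi (π j), ← Category.assoc, hπι, comp_zero]
    have h := cokernel.condition (P.d (j + 1 - 1) (j + 1))
    rw [show P.d j (j + 1) = (P.XIsoOfEq (show j = j + 1 - 1 by omega)).hom ≫ P.d (j + 1 - 1) (j + 1) by simp,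
      Category.assoc]
    exact (congrArg (_ ≫ ·) h).trans comp_zero
  have hses : ∀ j, j < n → (ShortComplex.mk (ι j) (π (j + 1)) (hz j)).ShortExact := fun j hj => by
    haveI : Mono (ι j) := by
      have h := (P.exactAt_iff' (j - 1) j (j + 1) (by simp) (by simp)).1 (hex j hj)
      exact (ShortComplex.exact_iff_mono_cokernel_desc _).1 h
    refine { exact := ShortComplex.exact_of_g_is_cokernel _ ?_, mono_f := ‹_›,
             epi_g := inferInstanceAs (Epi (cokernel.π (P.d (j + 1 - 1) (j + 1)))) }
    refine CokernelCofork.IsColimit.ofπ' _ _ fun {Z} k hk => ⟨cokernel.desc _ k ?_, cokernel.π_desc _ _ _⟩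
    rw [show P.d (j + 1 - 1) (j + 1) = (P.XIsoOfEq (show j + 1 - 1 = j by omega)).hom ≫ P.d j (j + 1) by simp,
      Category.assoc, ← hπι, Category.assoc, hk, comp_zero, comp_zero]
  have hKfin : ∀ j, Module.Finite R (K j) := fun j =>
    haveI := hfin j
    Module.Finite.of_surjective (π j).hom
      ((ModuleCat.epi_iff_surjective _).1 (inferInstanceAs (Epi (cokernel.π _))))
  have hP : ∀ (j : ℤ) (m : ℕ), 0 < m → HasProjectiveDimensionLT (P.X j) m := fun j m hm => by
    haveI := projective_iff_hasProjectiveDimensionLT_one.1 (hproj j)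
    exact hasProjectiveDimensionLT_of_ge (P.X j) 1 m hm
  have hup : ∀ (m : ℕ) (j : ℤ), j < a + m → j ≤ n → HasProjectiveDimensionLT (K j) m := by
    intro m
    induction m with
    | zero =>
      intro j hj _
      exact (IsZero.of_epi (π j) (ha j (by omega))).hasProjectiveDimensionLT_zero
    | succ m ih =>
      intro j hj hjn
      by_cases h : j < a + m
      · haveI := ih j h hjn
        exact hasProjectiveDimensionLT_of_ge (K j) m (m + 1) (by omega)
      · obtain ⟨i, rfl⟩ : ∃ i, i + 1 = j := ⟨j - 1, by omega⟩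
        exact (hses i (by omega)).hasProjectiveDimensionLT_X₃ m (ih i (by omega) (by omega))
          (hP _ _ (by omega))
  exact ⟨(n + 1 - a).toNat, hup (n + 1 - a).toNat n (by omega) le_rfl, hKfin n⟩

/-- The cokernel in degree `n` has projective dimension at most the depth. -/
theorem hasPDLT_coker [IsLocalRing R] [IsNoetherianRing R]
    (P : CochainComplex (ModuleCat.{u} R) ℤ) (a : ℤ) (ha : ∀ i, i < a → IsZero (P.X i))
    (hfin : ∀ i, Module.Finite R (P.X i)) (hproj : ∀ i, Projective (P.X i))
    (c : ℕ) (hc : LocCoh.depth R R ≤ (c : ℕ∞)) (n : ℤ) (hex : ∀ j, j < n → P.ExactAt j) :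
    HasProjectiveDimensionLT (cokernel (P.d (n - 1) n)) (c + 1) := by
  obtain ⟨d, hd⟩ := NewIntersectLib.exists_depth (A := R)
  obtain ⟨m, hm, hf⟩ := exists_pdlt_coker P a ha hfin hproj n hex
  haveI := hf
  have hdc : d ≤ c := by rw [hd] at hc; exact Nat.cast_le.1 hc
  haveI : HasProjectiveDimensionLT (cokernel (P.d (n - 1) n)) (d + 1) :=
    NewIntersectLib.pdlt_depth_succ (A := R) ((cokernel (P.d (n - 1) n) : ModuleCat.{u} R) : Type u) hd m hm
  exact hasProjectiveDimensionLT_of_ge _ (d + 1) (c + 1) (by omega)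

/-- If `P` is exact below `n`, it is split in every degree `q` with `q + pd < n`, `pd` that of the cokernel. -/
theorem exists_contraction_of_pd [IsLocalRing R] [IsNoetherianRing R]
    (P : CochainComplex (ModuleCat.{u} R) ℤ) (a : ℤ) (ha : ∀ i, i < a → IsZero (P.X i))
    (hfin : ∀ i, Module.Finite R (P.X i)) (hproj : ∀ i, Projective (P.X i))
    (c : ℕ) (n : ℤ) (hex : ∀ j, j < n → P.ExactAt j)
    (hn : HasProjectiveDimensionLT (cokernel (P.d (n - 1) n)) (c + 1))
    (q : ℤ) (hq : q + c < n) :
    ∃ (s : P.X q ⟶ P.X (q - 1)) (t : P.X (q + 1) ⟶ P.X q),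
      s ≫ P.d (q - 1) q + P.d q (q + 1) ≫ t = 𝟙 (P.X q) := by
  let K : ℤ → ModuleCat.{u} R := fun j => cokernel (P.d (j - 1) j)
  let π : ∀ j, P.X j ⟶ K j := fun j => cokernel.π _
  let ι : ∀ j, K j ⟶ P.X (j + 1) := fun j =>
    cokernel.desc (P.d (j - 1) j) (P.d j (j + 1)) (P.d_comp_d _ _ _)
  have hπι : ∀ j, π j ≫ ι j = P.d j (j + 1) := fun j => cokernel.π_desc _ _ _
  have hz : ∀ j, ι j ≫ π (j + 1) = 0 := fun j => by
    rw [← cancel_epi (π j), ← Category.assoc, hπι, comp_zero]
    have h := cokernel.condition (P.d (j + 1 - 1) (j + 1))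
    rw [show P.d j (j + 1) = (P.XIsoOfEq (show j = j + 1 - 1 by omega)).hom ≫ P.d (j + 1 - 1) (j + 1) by simp,
      Category.assoc]
    exact (congrArg (_ ≫ ·) h).trans comp_zero
  have hses : ∀ j, j < n → (ShortComplex.mk (ι j) (π (j + 1)) (hz j)).ShortExact := fun j hj => by
    haveI : Mono (ι j) := by
      have h := (P.exactAt_iff' (j - 1) j (j + 1) (by simp) (by simp)).1 (hex j hj)
      exact (ShortComplex.exact_iff_mono_cokernel_desc _).1 h
    refine { exact := ShortComplex.exact_of_g_is_cokernel _ ?_, mono_f := ‹_›,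
             epi_g := inferInstanceAs (Epi (cokernel.π (P.d (j + 1 - 1) (j + 1)))) }
    refine CokernelCofork.IsColimit.ofπ' _ _ fun {Z} k hk => ⟨cokernel.desc _ k ?_, cokernel.π_desc _ _ _⟩
    rw [show P.d (j + 1 - 1) (j + 1) = (P.XIsoOfEq (show j + 1 - 1 = j by omega)).hom ≫ P.d j (j + 1) by simp,
      Category.assoc, ← hπι, Category.assoc, hk, comp_zero, comp_zero]
  have hKfin : ∀ j, Module.Finite R (K j) := fun j =>
    haveI := hfin j
    Module.Finite.of_surjective (π j).hom
      ((ModuleCat.epi_iff_surjective _).1 (inferInstanceAs (Epi (cokernel.π _))))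
  have hP : ∀ (j : ℤ) (m : ℕ), 0 < m → HasProjectiveDimensionLT (P.X j) m := fun j m hm => by
    haveI := projective_iff_hasProjectiveDimensionLT_one.1 (hproj j)
    exact hasProjectiveDimensionLT_of_ge (P.X j) 1 m hm
  have hdown : ∀ (r : ℕ) (j : ℤ), j + r = n → HasProjectiveDimensionLT (K j) (max 1 (c + 1 - r)) := by
    intro r
    induction r with
    | zero =>
      intro j hj
      obtain rfl : j = n := by simpa using hj
      simpa using hn
    | succ r ih =>
      intro j hj
      refine (hses j (by omega)).hasProjectiveDimensionLT_X₁ _ (hP _ _ (by omega)) ?_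
      haveI := ih (j + 1) (by omega)
      exact hasProjectiveDimensionLT_of_ge (K (j + 1)) (max 1 (c + 1 - r)) _ (by omega)
  have hKproj : ∀ j, j + c ≤ n → Projective (K j) := fun j hj => by
    rw [projective_iff_hasProjectiveDimensionLT_one]
    have h := hdown (n - j).toNat j (by omega)
    rwa [show max 1 (c + 1 - (n - j).toNat) = 1 by omega] at h
  haveI := hKproj q (by omega)
  haveI : Projective (ShortComplex.mk (ι q) (π (q + 1)) (hz q)).X₃ := hKproj (q + 1) (by omega)
  haveI := hproj q
  let spl := (hses q (by omega)).splittingOfProjective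
  haveI : Epi (π q) := inferInstanceAs (Epi (cokernel.π _))
  let σ := Projective.factorThru (𝟙 (K q)) (π q)
  let t : P.X (q + 1) ⟶ P.X q := spl.r ≫ σ
  let S := ShortComplex.mk (P.d (q - 1) q) (π q) (cokernel.condition _)
  have hS : S.Exact := ShortComplex.exact_of_g_is_cokernel _ (cokernelIsCokernel _)
  have he : (𝟙 (P.X q) - P.d q (q + 1) ≫ t) ≫ S.g = 0 := by
    show (𝟙 (P.X q) - P.d q (q + 1) ≫ spl.r ≫ σ) ≫ π q = 0
    simp only [Preadditive.sub_comp, Category.id_comp, Category.assoc, σ, Projective.factorThru_comp,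
      Category.comp_id]
    rw [← hπι, Category.assoc]
    erw [spl.f_r]
    exact (congrArg (π q - ·) (Category.comp_id _)).trans (sub_self _)
  refine ⟨hS.liftFromProjective _ he, t, ?_⟩
  have h := hS.liftFromProjective_comp _ he
  exact (congrArg (· + P.d q (q + 1) ≫ t) h).trans (sub_add_cancel _ _)

/-- If `P` is exact below `n`, it is split in every degree `q` with `q + depth < n`. -/
theorem exists_contraction [IsLocalRing R] [IsNoetherianRing R]
    (P : CochainComplex (ModuleCat.{u} R) ℤ) (a : ℤ) (ha : ∀ i, i < a → IsZero (P.X i))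
    (hfin : ∀ i, Module.Finite R (P.X i)) (hproj : ∀ i, Projective (P.X i))
    (c : ℕ) (hc : LocCoh.depth R R ≤ (c : ℕ∞)) (n : ℤ) (hex : ∀ j, j < n → P.ExactAt j)
    (q : ℤ) (hq : q + c < n) :
    ∃ (s : P.X q ⟶ P.X (q - 1)) (t : P.X (q + 1) ⟶ P.X q),
      s ≫ P.d (q - 1) q + P.d q (q + 1) ≫ t = 𝟙 (P.X q) := by
  exact exists_contraction_of_pd P a ha hfin hproj c n hex (hasPDLT_coker P a ha hfin hproj c hc n hex) q hq

end Groth.Agent.FMKLib
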