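import Groth.Agent.FMKLib.GV
import Groth.Agent.DRingLib.FlatBC

/-!
# The dual of a torsion-free module of finite projective dimension
-/

set_option autoImplicit false
set_option linter.style.haveILetI false
set_option backward.isDefEq.respectTransparency false
set_option backward.isDefEq.respectTransparency.types false
set_option maxHeartbeats 2000000
set_option synthInstance.maxHeartbeats 400000

universe u

open CategoryTheory CategoryTheory.Limits AlgebraicGeometry HomologicalComplex
open Groth.Agent.DerLib Groth.Agent.PerfDualLib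
open scoped TensorProduct

attribute [local instance] HasDerivedCategory.standard

noncomputable section

namespace Groth.Agent.FMKLib

/-- Torsion-free: non-zero-divisors act injectively. -/
def TF (R : Type u) [CommRing R] (M : Type u) [AddCommGroup M] [Module R M] : Prop :=
  ∀ r ∈ nonZeroDivisors R, ∀ m : M, r • m = 0 → m = 0

theorem TF.of_iso {R : Type u} [CommRing R] {M N : ModuleCat.{u} R} (e : M ≅ N) (h : TF R M) : TF R N := by
  intro r hr n hn
  have h1 := h r hr (e.inv n) (by rw [← map_smul, hn, map_zero])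
  apply e.toLinearEquiv.symm.injective
  simpa using h1

theorem tf_extend_of_bijective {R S : Type u} [CommRing R] [CommRing S] (φ : R →+* S)
    (hφ : Function.Bijective φ) (M : ModuleCat.{u} R) (h : TF R M) :
    TF S ((ModuleCat.extendScalars.{u, u, u} φ).obj M) := by
  letI := φ.toAlgebra
  have h' : TF S (S ⊗[R] M) := by
    let ψ : R ≃ₗ[R] S := LinearEquiv.ofBijective (Algebra.linearMap R S) hφ
    let f : S ⊗[R] M ≃ₗ[R] M := (TensorProduct.congr ψ.symm (LinearEquiv.refl R M)).trans (TensorProduct.lid R M)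
    intro s hs x hx
    obtain ⟨r, rfl⟩ := hφ.2 s
    have hr : r ∈ nonZeroDivisors R := by
      rw [mem_nonZeroDivisors_iff_right]
      intro y hy
      exact hφ.1 (((mem_nonZeroDivisors_iff_right.1 hs) (φ y)
        (by rw [← map_mul, hy, map_zero])).trans (map_zero φ).symm)
    have h1 : r • x = 0 := (algebraMap_smul S r x).symm.trans hx
    exact f.injective ((h r hr (f x) (by rw [← map_smul, h1, map_zero])).trans (map_zero f).symm)
  intro s hs x hx
  let e := DRingLib.extendScalarsEquiv (B := S) M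
  exact e.injective ((h' s hs (e x) (by rw [← map_smul, hx, map_zero])).trans (map_zero e).symm)

/-- A torsion-free module of finite projective dimension: `pd < n` when the depth is at most `n > 0`. -/
theorem pdlt_of_tf {R : Type u} [CommRing R] [IsLocalRing R] [IsNoetherianRing R] (M : Type u)
    [AddCommGroup M] [Module R M] [Module.Finite R M] (h : TF R M) (m : ℕ) (hm : CommAlgDim.PDLT R M m)
    (n : ℕ) (hn : 0 < n) (hd : LocCoh.depth R R ≤ (n : ℕ∞)) : CommAlgDim.PDLT R M n := by
  obtain ⟨d, hd'⟩ := NewIntersectLib.exists_depth (A := R)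
  have hdn : d ≤ n := by rw [hd'] at hd; exact Nat.cast_le.1 hd
  rcases subsingleton_or_nontrivial M with hM | hM
  · haveI : HasProjectiveDimensionLT (ModuleCat.of R M) 0 :=
      (ModuleCat.isZero_of_subsingleton (ModuleCat.of R M)).hasProjectiveDimensionLT_zero
    exact hasProjectiveDimensionLT_of_ge (ModuleCat.of R M) 0 n (by omega)
  rcases Nat.eq_zero_or_pos d with rfl | hpos
  · haveI : HasProjectiveDimensionLT (ModuleCat.of R M) (0 + 1) :=
      NewIntersectLib.pdlt_depth_succ M hd' m hm
    exact hasProjectiveDimensionLT_of_ge (ModuleCat.of R M) (0 + 1) n (by omega)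
  have h1 : (1 : ℕ∞) ≤ LocCoh.depth R R := by rw [hd']; exact_mod_cast hpos
  obtain ⟨rs, hl, hrm, hreg⟩ := (CommAlgDim.le_depth_iff (M := R) 1).1 (by exact_mod_cast h1)
  obtain ⟨x, rfl⟩ := List.length_eq_one_iff.1 hl
  have hx : IsSMulRegular R x := ((RingTheory.Sequence.isWeaklyRegular_cons_iff R x []).1 hreg).1
  have hxM : IsSMulRegular M x := by
    rw [isSMulRegular_iff_right_eq_zero_of_smul]
    intro y hy
    refine h x ?_ y hy
    rw [mem_nonZeroDivisors_iff_right]
    intro z hz
    exact (isSMulRegular_iff_right_eq_zero_of_smul.1 hx) z (by rwa [smul_eq_mul, mul_comm])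
  haveI : HasProjectiveDimensionLT (ModuleCat.of R M) d :=
    (NewIntersectLib.pdlt_depth M hd' m hm (hrm x (by simp)) hxM).2
  exact hasProjectiveDimensionLT_of_ge (ModuleCat.of R M) d n hdn

/-- The cokernel in degree zero of a complex of free modules with torsion-free `H⁰` is torsion-free. -/
theorem tf_coker {R : Type u} [CommRing R] (P : CochainComplex (ModuleCat.{u} R) ℤ)
    (h1 : TF R (P.X 1)) (h0 : TF R (P.homology 0)) :
    TF R ((cokernel (P.d ((0 : ℤ) - 1) 0) : ModuleCat.{u} R) : Type u) := by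
  intro r hr x hx
  obtain ⟨z, rfl⟩ := (ModuleCat.epi_iff_surjective (cokernel.π (P.d ((0 : ℤ) - 1) 0))).1 inferInstance x
  have hS := ShortComplex.exact_of_g_is_cokernel
    (ShortComplex.mk (P.d ((0 : ℤ) - 1) 0) (cokernel.π _) (cokernel.condition _)) (cokernelIsCokernel _)
  have h2 : (cokernel.π (P.d ((0 : ℤ) - 1) 0)).hom (r • z) = 0 := by rw [map_smul]; exact hx
  obtain ⟨w, hw⟩ := (ShortComplex.moduleCat_exact_iff _).1 hS (r • z) h2
  change (P.d ((0 : ℤ) - 1) 0).hom w = r • z at hw
  have hz : (P.d 0 1).hom z = 0 := h1 r hr _ (by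
    rw [← map_smul, ← hw]
    exact congrArg (fun m => m.hom w) (P.d_comp_d ((0 : ℤ) - 1) 0 1))
  let e := P.homologyIsoSc' ((0 : ℤ) - 1) 0 1 (by simp) (by simp)
  let S := P.sc' ((0 : ℤ) - 1) 0 1
  let ζ : LinearMap.ker S.g.hom := ⟨z, LinearMap.mem_ker.2 hz⟩
  let c := S.moduleCatHomologyIso
  have hq : TF R S.moduleCatLeftHomologyData.H := TF.of_iso (e ≪≫ c) h0
  have hzero := hq r hr (Submodule.Quotient.mk ζ) (by
    refine (Submodule.Quotient.mk_smul _ r ζ).symm.trans ((Submodule.Quotient.mk_eq_zero _).2 ?_)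
    exact ⟨w, Subtype.ext hw⟩)
  obtain ⟨w', hw'⟩ := (Submodule.Quotient.mk_eq_zero _).1 hzero
  have hw'' : (P.d ((0 : ℤ) - 1) 0).hom w' = z := congrArg Subtype.val hw'
  rw [← hw'']
  exact congrArg (fun m => m.hom w') (cokernel.condition (P.d ((0 : ℤ) - 1) 0))

variable {X : Scheme.{u}}

/-- The dual of a torsion-free sheaf of finite projective dimension has `H^i` in codimension `> i`. -/
theorem lt_dim_of_torsionFree [IsNoetherian X] (E : Cx X) (hE : DCoh.IsPerfect (DerivedCategory.Q.obj E))
    (K : DCoh.D X) (hK : IsDualOf E K) (G : X.Modules) (eG : DerivedCategory.Q.obj E ≅ DCoh.inD X G)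
    (htf : ∀ (y : X) (r : X.presheaf.stalk y), r ∈ nonZeroDivisors (X.presheaf.stalk y) →
      ∀ m : G.presheaf.stalk y, r • m = 0 → m = 0)
    (i : ℕ) (hi : 0 < i) (y : X) (hy : y ∈ CohB1.support (DCoh.HD K (i : ℤ))) :
    ¬ ringKrullDim (X.presheaf.stalk y) = ((i : ℕ) : WithBot ℕ∞) := by
  intro hdim
  obtain ⟨U, hyU, E', a, b, hv, hf, ⟨e'⟩⟩ := exists_free_nbhd hE y
  let v : (U : Scheme.{u}) := ⟨y, hyU⟩
  haveI : IsLocallyNoetherian (U : Scheme.{u}) := isLocallyNoetherian_of_isOpenImmersion U.ι
  let R := (U : Scheme.{u}).presheaf.stalk v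
  let S := (KFlatLib.stalkCx (U : Scheme.{u}) v).obj E'
  have hfin : ∀ j, Module.Finite R (S.X j) := fun j =>
    (finite_projective_stalk (KFlatLib.isFinLocFree_of_isFinFree (hf j)) v).1
  have hproj : ∀ j, Projective (S.X j) := fun j =>
    (finite_projective_stalk (KFlatLib.isFinLocFree_of_isFinFree (hf j)) v).2
  have hlo : ∀ j : ℤ, j < a → IsZero (S.X j) := fun j hj =>
    (DerSch.stalkFunctor (U : Scheme.{u}) v).map_isZero (hv j (Or.inl hj))
  let eH : ∀ j : ℤ, S.homology j ≅
      (DerSch.stalkFunctor (U : Scheme.{u}) v).obj ((PerfLib.res U.ι).obj (DCoh.HD (DCoh.inD X G) j)) := fun j =>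
    KFlatLib.stalkHomologyIso E' v j ≪≫ (DerSch.stalkFunctor (U : Scheme.{u}) v).mapIso
      (((DerivedCategory.homologyFunctorFactors (U : Scheme.{u}).Modules j).app E').symm ≪≫
        (DerivedCategory.homologyFunctor _ j).mapIso (e' ≪≫
          ((Scheme.Modules.restrictFunctor U.ι).mapDerivedCategoryFactors.app E).symm) ≪≫
        DCohRestrLib.restrictHDIso U.ι (DerivedCategory.Q.obj E) j ≪≫
        (PerfLib.res U.ι).mapIso ((DerivedCategory.homologyFunctor _ j).mapIso eG))
  haveI : (DCoh.inD X G).IsGE 0 := inferInstanceAs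
    (DerivedCategory.TStructure.t.IsGE ((DerivedCategory.singleFunctor X.Modules 0).obj G) 0)
  have hex : ∀ j : ℤ, j < 0 → S.ExactAt j := fun j hj => by
    rw [exactAt_iff_isZero_homology]
    exact ((DerSch.stalkFunctor (U : Scheme.{u}) v).map_isZero ((PerfLib.res U.ι).map_isZero
      (DerivedCategory.isZero_of_isGE (DCoh.inD X G) 0 j hj))).of_iso (eH j)
  have hφ : Function.Bijective (U.ι.stalkMap v).hom :=
    ConcreteCategory.bijective_of_isIso (U.ι.stalkMap v)
  have h0 : TF R (S.homology 0) := by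
    have h1 : TF (X.presheaf.stalk (U.ι v)) ((DerSch.stalkFunctor X (U.ι v)).obj G) := htf (U.ι v)
    exact (tf_extend_of_bijective (U.ι.stalkMap v).hom hφ _ h1).of_iso
      (((RelFlatLib.stalkResExt U.ι v).app G).symm ≪≫
        (DerSch.stalkFunctor (U : Scheme.{u}) v).mapIso ((PerfLib.res U.ι).mapIso
          ((DerivedCategory.singleFunctorCompHomologyFunctorIso X.Modules 0).app G).symm) ≪≫ (eH 0).symm)
  have h1 : TF R (S.X 1) := by
    intro r hr m hm
    haveI : Module.Finite R (S.X 1) := hfin 1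
    haveI : Module.Projective R (S.X 1) := (IsProjective.iff_projective (S.X 1)).2 (hproj 1)
    obtain ⟨n, f, g, -, -, hfg⟩ := Module.Finite.exists_comp_eq_id_of_projective R (S.X 1)
    have hg : g m = 0 := funext fun k => (mem_nonZeroDivisors_iff_right.1 hr) _ (by
      have := congrFun (congrArg g hm) k
      rw [map_smul, map_zero] at this
      exact (mul_comm _ _).trans this)
    rw [← LinearMap.id_apply (R := R) m, ← hfg, LinearMap.comp_apply, hg, map_zero]
  have hdep : LocCoh.depth R R ≤ (i : ℕ∞) := by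
    have h := NewIntersectLib.depth_le_dim (A := R)
    rw [ringKrullDim_eq_of_ringEquiv (U.stalkIso v).commRingCatIsoToRingEquiv, hdim] at h
    exact_mod_cast h
  obtain ⟨m, hm, hmf⟩ := exists_pdlt_coker S a hlo hfin hproj 0 hex
  haveI := hmf
  have hpd : HasProjectiveDimensionLT (cokernel (S.d ((0 : ℤ) - 1) 0)) ((i - 1) + 1) := by
    rw [show i - 1 + 1 = i by omega]
    exact pdlt_of_tf _ (tf_coker S h1 h0) m hm i hi hdep
  obtain ⟨s, t', hst⟩ := exists_contraction_of_pd S a hlo hfin hproj (i - 1) 0 hex hpd (-(i : ℤ)) (by omega)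
  exact hy (subsingleton_stalk_of_split E hE K @hK U v E' b (fun j hj => hv j (Or.inr hj)) hf e' (i : ℤ)
    (-(i : ℤ)) (by omega) s t' hst)

end Groth.Agent.FMKLib
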