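import Groth.Agent.FMKLib.Hyper
import Groth.Agent.PerfDualLib.Dual
import Groth.Agent.KFlatLib.TorAmp
import Groth.Agent.KoszOrthLib.Inv
import Groth.Agent.KFlatLib.PerfectPull

/-!
# Cohomology sheaves of `K ⊗^L N` for a module `N` in degree zero
-/

set_option autoImplicit false
set_option linter.style.haveILetI false
set_option backward.isDefEq.respectTransparency false
set_option backward.isDefEq.respectTransparency.types false
set_option maxHeartbeats 1000000

universe u

open CategoryTheory CategoryTheory.Limits AlgebraicGeometry HomologicalComplex MonoidalCategory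
open Groth.Agent.DerLib Groth.Agent.PerfDualLib

attribute [local instance] HasDerivedCategory.standard

namespace Groth.Agent.FMKLib

variable {X : Scheme.{u}}

/-- A module in degree zero, as a complex. -/
noncomputable abbrev oneCx (N : X.Modules) : CochainComplex X.Modules ℤ :=
  (single X.Modules (ComplexShape.up ℤ) 0).obj N

noncomputable def oneCxIso (N : X.Modules) : DCoh.toD X (oneCx N) ≅ DCoh.inD X N :=
  ((DerivedCategory.singleFunctorIsoCompQ X.Modules 0).app N).symm

/-- `P ⊗^L N[0]` for K-flat `P`. -/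
theorem nonempty_lTensor_oneCx (N : X.Modules) [DCoh.HasLTensorCx (oneCx N)]
    (P : CochainComplex X.Modules ℤ) (hP : DCoh.IsKFlat P) :
    Nonempty ((DCoh.LTensorCx (oneCx N)).obj (DCoh.toD X P) ≅
      DCoh.toD X ((KFlatLib.tensorModCx N).obj P)) := by
  obtain ⟨e⟩ := KFlatLib.exists_lTensorCxObjIso (oneCx N) P hP
  exact ⟨e ≪≫ DerivedCategory.Q.mapIso (((Gen.tRSingleIso (DCoh.tensorBi (X := X)) N).app P).symm ≪≫
    (NatIso.mapHomologicalComplex (KoszOrthLib.tRNat N) (ComplexShape.up ℤ)).app P)⟩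

/-- Cohomology commutes with an exact twist. -/
theorem nonempty_HD_twist (N : X.Modules) (hN : PicF.IsInvertible N) [DCoh.HasLTensorCx (oneCx N)]
    (K : DCoh.D X) (q : ℤ) :
    Nonempty (DCoh.HD ((DCoh.LTensorCx (oneCx N)).obj K) q ≅ CohB1.tensorMod (DCoh.HD K q) N) := by
  haveI := KoszOrthLib.preservesFiniteLimits_tensorRightMod hN
  haveI := KoszOrthLib.preservesFiniteColimits_tensorRightMod hN
  obtain ⟨P, hP, ⟨eP⟩⟩ := PerfDualLib.exists_kFlat_model K
  obtain ⟨e⟩ := nonempty_lTensor_oneCx N P hP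
  exact ⟨(DerivedCategory.homologyFunctor X.Modules q).mapIso
      ((DCoh.LTensorCx (oneCx N)).mapIso eP.symm ≪≫ e) ≪≫ KFlatLib.hdToD _ q ≪≫
    (P.sc q).mapHomologyIso (DCoh.tensorRightMod N) ≪≫
    (DCoh.tensorRightMod N).mapIso ((KFlatLib.hdToD P q).symm ≪≫
      (DerivedCategory.homologyFunctor X.Modules q).mapIso eP)⟩

theorem subsingleton_stalk_homology_iff (E : CochainComplex X.Modules ℤ) (q : ℤ) (x : X) :
    Subsingleton ((DCoh.HD (DCoh.toD X E) q).presheaf.stalk x) ↔
      IsZero (((KFlatLib.stalkCx X x).obj E).homology q) := by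
  let e : (DerSch.stalkFunctor X x).obj (DCoh.HD (DCoh.toD X E) q) ≅
      ((KFlatLib.stalkCx X x).obj E).homology q :=
    (DerSch.stalkFunctor X x).mapIso (KFlatLib.hdToD E q) ≪≫
      ((E.sc q).mapHomologyIso (DerSch.stalkFunctor X x)).symm
  rw [← e.isZero_iff]
  exact ⟨fun h => @ModuleCat.isZero_of_subsingleton _ _ _ h,
    fun h => ModuleCat.subsingleton_of_isZero h⟩

/-- A flat twist does not enlarge supports. -/
theorem support_HD_twist (N : X.Modules) (hN : FlatMod.IsFlat N) [DCoh.HasLTensorCx (oneCx N)]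
    (K : DCoh.D X) (q : ℤ) :
    CohB1.support (DCoh.HD ((DCoh.LTensorCx (oneCx N)).obj K) q) ⊆ CohB1.support (DCoh.HD K q) := by
  intro x hx hs
  obtain ⟨P, hP, ⟨eP⟩⟩ := PerfDualLib.exists_kFlat_model K
  obtain ⟨e⟩ := nonempty_lTensor_oneCx N P hP
  let eL := (DerSch.stalkFunctor X x).mapIso ((DerivedCategory.homologyFunctor X.Modules q).mapIso
      ((DCoh.LTensorCx (oneCx N)).mapIso eP.symm ≪≫ e))
  let eK := (DerSch.stalkFunctor X x).mapIso ((DerivedCategory.homologyFunctor X.Modules q).mapIso eP)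
  have hP0 : IsZero (((KFlatLib.stalkCx X x).obj P).homology q) :=
    (subsingleton_stalk_homology_iff P q x).1
      (ModuleCat.subsingleton_of_isZero ((@ModuleCat.isZero_of_subsingleton _ _ _ hs).of_iso eK))
  refine hx (ModuleCat.subsingleton_of_isZero (IsZero.of_iso ?_ eL))
  refine @ModuleCat.isZero_of_subsingleton _ _ _ ((subsingleton_stalk_homology_iff _ q x).2 ?_)
  refine IsZero.of_iso ?_ ((homologyFunctor _ _ q).mapIso (KFlatLib.stalkTensorModCxIso x N P)).symm
  rw [← HomologicalComplex.exactAt_iff_isZero_homology] at hP0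
  refine (HomologicalComplex.exactAt_iff_isZero_homology _ q).1 ?_
  haveI : Module.Flat (X.presheaf.stalk x) (N.presheaf.stalk x) := hN x
  exact (ShortComplex.ShortExact.moduleCat_exact_iff_function_exact _).2
    (Module.Flat.rTensor_exact (N.presheaf.stalk x)
      ((ShortComplex.ShortExact.moduleCat_exact_iff_function_exact _).1 hP0))

end Groth.Agent.FMKLib
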