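import Groth.Agent.FMKLib.Ample

/-!
# Cohomology sheaves detected by sections of high twists
-/

set_option autoImplicit false
set_option linter.style.haveILetI false
set_option backward.isDefEq.respectTransparency false
set_option backward.isDefEq.respectTransparency.types false
set_option maxHeartbeats 1000000

universe u

open CategoryTheory CategoryTheory.Limits AlgebraicGeometry

attribute [local instance] HasDerivedCategory.standard

namespace Groth.Agent.FMKLib

/-- For large `n`, `H^i(Y, G ⊗ L^n) = 0` forces `H^i(G) = 0`, uniformly in `i`. -/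
theorem exists_bound_twist (k : Type u) [Field k] (Y : Scheme.{u}) (b : Y ⟶ Spec (CommRingCat.of k)) [IsProper b]
    (L : Y.Modules) (hL : CohB1.IsAmple L) (G : DCoh.D Y) (hG : DCoh.IsPerfect G) :
    ∃ n₀ : ℕ, ∀ n : ℕ, n₀ ≤ n → ∀ [DCoh.HasLTensorCx (oneCx (CohB1.tensorPow L n))] (i : ℤ),
      NoHom ((DCoh.LTensorCx (oneCx (CohB1.tensorPow L n))).obj G) i → IsZero (DCoh.HD G i) := by
  haveI : IsLocallyNoetherian Y := LocallyOfFiniteType.isLocallyNoetherian b
  haveI : CompactSpace Y := hL.2.1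
  haveI : IsNoetherian Y := ⟨⟩
  haveI : Y.IsSeparated := MiscFlat6.isSeparated_of_isAmple hL
  obtain ⟨hcoh, c, d, hc, hd⟩ := PerfLib.isCohD_and_bounded_of_isPerfect hG
  haveI : G.IsGE c := hc
  haveI : G.IsLE d := hd
  choose N₁ hN₁ using fun q : ℤ => (S0051.result k Y b L hL.1).1 hL (DCoh.HD G q) (hcoh q)
  choose N₂ hN₂ using fun q : ℤ => S2325.result Y L hL (DCoh.HD G q) (hcoh q)
  refine ⟨(Finset.Icc c d).sup fun q => max (N₁ q) (N₂ q), fun n hn _ i hi => ?_⟩
  let Ln := CohB1.tensorPow L n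
  have hLn : PicF.IsInvertible Ln := AmpleThLib.tensorPow_isInvertible hL.1 n
  let T := (DCoh.LTensorCx (oneCx Ln)).obj G
  have eT : ∀ q : ℤ, Nonempty (DCoh.HD T q ≅ CohB1.tensorMod (DCoh.HD G q) Ln) := fun q =>
    nonempty_HD_twist Ln hLn G q
  haveI := KoszOrthLib.isEquivalence_tensorRightMod hLn
  have hz : ∀ q : ℤ, IsZero (DCoh.HD G q) → IsZero (DCoh.HD T q) := fun q hq => by
    obtain ⟨e⟩ := eT q
    exact ((DCoh.tensorRightMod Ln).map_isZero hq).of_iso e
  have hout : ∀ q : ℤ, q ∉ Finset.Icc c d → IsZero (DCoh.HD G q) := fun q hq => by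
    rw [Finset.mem_Icc, not_and_or] at hq
    rcases hq with hq | hq
    · exact DerivedCategory.isZero_of_isGE G c q (by omega)
    · exact DerivedCategory.isZero_of_isLE G d q (by omega)
  haveI : T.IsGE c := (DerivedCategory.isGE_iff T c).2 fun q hq =>
    hz q (DerivedCategory.isZero_of_isGE G c q hq)
  haveI : T.IsLE d := (DerivedCategory.isLE_iff T d).2 fun q hq =>
    hz q (DerivedCategory.isZero_of_isLE G d q hq)
  have hbd : ∀ q ∈ Finset.Icc c d, N₁ q ≤ n ∧ N₂ q ≤ n := fun q hq =>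
    max_le_iff.mp ((Finset.le_sup (f := fun q => max (N₁ q) (N₂ q)) hq).trans hn)
  have hvan : ∀ (q : ℤ) (p : ℕ), 0 < p → Subsingleton (Coh.HH Y (DCoh.HD T q) p) := fun q p hp => by
    by_cases hq : q ∈ Finset.Icc c d
    · obtain ⟨e⟩ := eT q
      exact SerreVanLib.subsingleton_HH_of_iso e _ (hN₁ q n (hbd q hq).1 p hp)
    · exact AVIndexLib.subsingleton_HH_isZero (hz q (hout q hq)) _
  have h := (noHom_iff_hom T c d i hvan).1 hi
  by_cases hmem : i ∈ Finset.Icc c d
  · obtain ⟨e'⟩ := eT i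
    have h' : IsZero ((DCoh.tensorRightMod Ln).obj (DCoh.HD G i)) :=
      eq_zero_of_gg (hN₂ i n (hbd i hmem).2) fun f => by
        rw [← cancel_mono e'.inv, zero_comp]
        exact h _
    exact IsZero.of_iso ((DCoh.tensorRightMod Ln).inv.map_isZero h')
      ((DCoh.tensorRightMod Ln).asEquivalence.unitIso.app _)
  · exact hout i hmem

end Groth.Agent.FMKLib
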